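import Cfsg.Agent.Lib.Golay.Local.StdObjects
import Cfsg.Agent.Lib.Golay.Mathieu

/-!
The permutation module of the group of the code over two elements: invariant subspaces.
-/

namespace Cfsg.Agent.Golay.Local

open Cfsg Cfsg.Agent.PermCert Cfsg.Agent.Golay.Cert
open scoped Pointwise

/-- The word with a given support. -/
def ind (s : Finset GolayPt) : GolayPt → ZMod 2 := fun p => if p ∈ s then 1 else 0

theorem ofMask_eq_ind (m : ℕ) : ofMask m = ind (maskSet m) := by
  ext p; simp [ofMask, ind, mem_maskSet]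

theorem ind_support (w : GolayPt → ZMod 2) : ind (support₂ w) = w := by
  ext p
  rcases zmod2_cases (w p) with h | h <;> simp [ind, support₂, h]

theorem ind_univ : ind Finset.univ = fun _ => 1 := by ext p; simp [ind]

theorem ind_add (s t : Finset GolayPt) : ind s + ind t = ind ((s \ t) ∪ (t \ s)) := by
  ext p
  by_cases h1 : p ∈ s <;> by_cases h2 : p ∈ t <;> simp [ind, h1, h2] <;> decide

theorem ind_comp (σ : Equiv.Perm GolayPt) (s : Finset GolayPt) :
    (fun p => ind s (σ.symm p)) = ind (σ • s) := by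
  ext p
  have h : σ.symm p ∈ s ↔ p ∈ σ • s := by
    rw [← Finset.inv_smul_mem_iff]; rfl
  simp [ind, h]

theorem ind_octad {o : Finset GolayPt} (ho : o ∈ octads) : ind o ∈ golayCode := by
  obtain ⟨m, hm, rfl⟩ := mem_octads.1 ho
  rw [← ofMask_eq_ind]
  exact mem_golayCode.2 ⟨m, (mem_octadList.1 hm).1, rfl⟩

theorem code_cases {c : GolayPt → ZMod 2} (hc : c ∈ golayCode) :
    c = 0 ∨ c = (fun _ => 1) ∨ support₂ c ∈ octads ∨ support₂ c ∈ dodecads ∨
      Finset.univ \ support₂ c ∈ octads := by
  obtain ⟨m, hm, rfl⟩ := mem_golayCode.1 hc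
  rw [support_ofMask]
  rcases weight_cases hm with h | h | h | h | h
  · left
    rw [← card_maskSet, Finset.card_eq_zero] at h
    rw [ofMask_eq_ind, h]; ext p; simp [ind]
  · exact Or.inr (Or.inr (Or.inl (mem_octads.2 ⟨m, mem_octadList.2 ⟨hm, h⟩, rfl⟩)))
  · exact Or.inr (Or.inr (Or.inr (Or.inl (mem_dodecads.2 ⟨m, mem_dodecadList.2 ⟨hm, h⟩, rfl⟩))))
  · refine Or.inr (Or.inr (Or.inr (Or.inr ?_)))
    have hx := spanList_xor _ 16777215 all_mem_codeList m hm
    have hset : maskSet (16777215 ^^^ m) = Finset.univ \ maskSet m := by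
      ext p; simp [mem_maskSet, testBit_full (idx_lt p)]
    refine hset ▸ mem_octads.2 ⟨_, mem_octadList.2 ⟨hx, ?_⟩, rfl⟩
    rw [← card_maskSet, hset, Finset.card_sdiff_of_subset (Finset.subset_univ _), card_maskSet, h]
    rfl
  · right; left
    have hu : maskSet m = Finset.univ := by
      apply Finset.eq_univ_of_card
      rw [card_maskSet, h]; rfl
    rw [ofMask_eq_ind, hu, ind_univ]

theorem exists_smul_small {s t : Finset GolayPt} (hs : s.card = t.card) (h5 : s.card ≤ 5) :
    ∃ σ ∈ M24, σ • s = t := by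
  let x : Fin s.card → GolayPt := fun i => (s.equivFin.symm i : GolayPt)
  let y : Fin s.card → GolayPt := fun i => (t.equivFin.symm (i.cast hs) : GolayPt)
  obtain ⟨g, hg, h⟩ := exists_M24_map' (k := s.card) h5 (x := x) (y := y)
    (fun a b h => by simpa [x] using h) (fun a b h => by simpa [y] using h)
  refine ⟨g, hg, Finset.eq_of_subset_of_card_le ?_ (by rw [Finset.card_smul_finset]; omega)⟩
  intro p hp
  obtain ⟨q, hq, rfl⟩ := Finset.mem_smul_finset.1 hp
  obtain ⟨i, rfl⟩ : ∃ i, x i = q := ⟨s.equivFin ⟨q, hq⟩, by simp [x]⟩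
  show g (x i) ∈ t
  rw [h i]
  exact Finset.coe_mem _

/-- Every word is congruent modulo the code to a word of weight at most four. -/
theorem exists_small_rep (w : GolayPt → ZMod 2) :
    ∃ t : Finset GolayPt, t.card ≤ 4 ∧ w - ind t ∈ golayCode := by
  classical
  suffices ∀ n (s : Finset GolayPt), s.card ≤ n → ∃ t : Finset GolayPt, t.card ≤ 4 ∧ ind s - ind t ∈ golayCode by
    obtain ⟨t, ht, h⟩ := this _ (support₂ w) le_rfl
    exact ⟨t, ht, by rwa [ind_support] at h⟩
  intro n
  induction n with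
  | zero => intro s hs; exact ⟨s, by omega, by simp⟩
  | succ n ih =>
    intro s hs
    by_cases h5 : s.card ≤ 4
    · exact ⟨s, h5, by simp⟩
    obtain ⟨f, hf, hfc⟩ := Finset.exists_subset_card_eq (show 5 ≤ s.card by omega)
    obtain ⟨o, ⟨ho, hfo⟩, -⟩ := isSteinerSystem_octads.2 f hfc
    have h1 := Finset.card_sdiff_add_card_inter s o
    have h2 := Finset.card_sdiff_add_card_inter o s
    rw [Finset.inter_comm, card_octad ho] at h2
    have h3 : 5 ≤ (s ∩ o).card := hfc ▸ Finset.card_le_card (Finset.subset_inter hf hfo)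
    obtain ⟨t, ht, hmem⟩ := ih ((s \ o) ∪ (o \ s)) (by
      have := Finset.card_union_le (s \ o) (o \ s)
      omega)
    refine ⟨t, ht, ?_⟩
    rw [← ind_add] at hmem
    have := sub_mem hmem (ind_octad ho)
    convert this using 1
    abel

/-- An invariant set of words. -/
def Inv24 (W : Submodule (ZMod 2) (GolayPt → ZMod 2)) : Prop :=
  ∀ σ ∈ M24, ∀ w ∈ W, (fun p => w (σ.symm p)) ∈ W

theorem Inv24.ind_mem {W : Submodule (ZMod 2) (GolayPt → ZMod 2)} (hW : Inv24 W)
    {σ : Equiv.Perm GolayPt} (hσ : σ ∈ M24) {s : Finset GolayPt} (hs : ind s ∈ W) : ind (σ • s) ∈ W := by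
  have := hW σ hσ _ hs
  rwa [ind_comp] at this

theorem inv24_golayCode : Inv24 golayCode := by
  intro σ hσ w hw
  obtain ⟨v, hv, hsv⟩ := mem_M24_iff.1 hσ (support₂ w) ⟨w, hw, rfl⟩
  rw [← ind_support w, ind_comp, ← hsv, ind_support]
  exact hv

theorem pair_rep_ok :
    (anyF (fun m => Nat.beq (pcF (Nat.land m 8536111)) 4 &&
        Nat.beq (pcF (Nat.xor m 8536111)) 8) octLit &&
      anyF (fun m => Nat.beq (pcF m) 12 && Nat.beq (pcF (Nat.xor m 340831)) 8) codeList &&
      allF (fun v => inCode v.2 && Nat.beq (popCount v.2 24) 8) gBasis) = true := by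
  decide +kernel

/-- Words of the code are in every invariant subspace containing an octad. -/
theorem code_le_of_octad {W : Submodule (ZMod 2) (GolayPt → ZMod 2)} (hW : Inv24 W)
    {o : Finset GolayPt} (ho : o ∈ octads) (hoW : ind o ∈ W) : golayCode ≤ W := by
  intro w hw
  obtain ⟨m, hm, rfl⟩ := mem_golayCode.1 hw
  refine spanList_mem_submodule (M := W) _ (fun b hb => ?_) m hm
  obtain ⟨v, hv, rfl⟩ := List.mem_map.1 hb
  have h := pair_rep_ok
  simp only [Bool.and_eq_true, allF_iff, Nat.beq_eq] at h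
  have hoct := maskSet_mem_octads (h.2 v hv).1 (h.2 v hv).2
  obtain ⟨g, hg, hgo⟩ := exists_M24_octad ho hoct
  rw [ofMask_eq_ind, ← hgo]
  exact hW.ind_mem hg hoW

/-- An invariant subspace with a non-constant code word contains the code. -/
theorem code_le_of_word {W : Submodule (ZMod 2) (GolayPt → ZMod 2)} (hW : Inv24 W)
    {c : GolayPt → ZMod 2} (hc : c ∈ golayCode) (hcW : c ∈ W) (h0 : c ≠ 0) (h1 : c ≠ fun _ => 1) :
    golayCode ≤ W := by
  have h := pair_rep_ok
  simp only [Bool.and_eq_true, anyF_iff, Nat.beq_eq] at h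
  obtain ⟨⟨⟨m, hm, -, hmx⟩, d, hd, hd12, hdx⟩, -⟩ := h
  rw [← ind_support c] at hcW
  rcases code_cases hc with h | h | h | h | h
  · exact absurd h h0
  · exact absurd h h1
  · exact code_le_of_octad hW h hcW
  · obtain ⟨g, hg⟩ := exists_smul_duo h stdDod_mem
    obtain ⟨k, hk⟩ := exists_smul_duo h (mem_dodecads.2 ⟨d, mem_dodecadList.2 ⟨hd, by rw [← pcF_eq]; exact hd12⟩, rfl⟩)
    have hg1 : (g : Equiv.Perm GolayPt) • support₂ c = maskSet 340831 := hg.1
    have hk1 : (k : Equiv.Perm GolayPt) • support₂ c = maskSet d := hk.1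
    have e1 : ind (maskSet 340831) ∈ W := hg1 ▸ hW.ind_mem g.2 hcW
    have e2 : ind (maskSet d) ∈ W := hk1 ▸ hW.ind_mem k.2 hcW
    have e3 := add_mem e2 e1
    rw [← ofMask_eq_ind, ← ofMask_eq_ind, ← ofMask_xor, ofMask_eq_ind] at e3
    refine code_le_of_octad hW (mem_octads.2 ⟨_, mem_octadList.2
      ⟨spanList_xor _ d hd 340831 (inCode_iff.1 (by decide +kernel)), ?_⟩, rfl⟩) e3
    rw [← pcF_eq]; exact hdx
  · obtain ⟨g, hg⟩ := exists_smul_octad h stdOct_mem
    obtain ⟨k, hk⟩ := exists_smul_octad h (mem_octads'.2 ⟨m, hm, rfl⟩)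
    have hg' : (g : Equiv.Perm GolayPt) • support₂ c = Finset.univ \ maskSet 8536111 := by
      have e : (g : Equiv.Perm GolayPt) • (Finset.univ \ support₂ c) = maskSet 8536111 := hg
      rw [← e, Finset.smul_finset_sdiff, Finset.smul_finset_univ, Finset.sdiff_sdiff_self_left,
        Finset.inter_eq_right.2 (Finset.subset_univ _)]
    have hk' : (k : Equiv.Perm GolayPt) • support₂ c = Finset.univ \ maskSet m := by
      have e : (k : Equiv.Perm GolayPt) • (Finset.univ \ support₂ c) = maskSet m := hk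
      rw [← e, Finset.smul_finset_sdiff, Finset.smul_finset_univ, Finset.sdiff_sdiff_self_left,
        Finset.inter_eq_right.2 (Finset.subset_univ _)]
    have e1 : ind (Finset.univ \ maskSet 8536111) ∈ W := hg' ▸ hW.ind_mem g.2 hcW
    have e2 : ind (Finset.univ \ maskSet m) ∈ W := hk' ▸ hW.ind_mem k.2 hcW
    have e3 := add_mem e2 e1
    have he : ind (Finset.univ \ maskSet m) + ind (Finset.univ \ maskSet 8536111) =
        ofMask (m ^^^ 8536111) := by
      rw [ofMask_xor, ofMask_eq_ind, ofMask_eq_ind]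
      ext p
      by_cases a : p ∈ maskSet m <;> by_cases b : p ∈ maskSet 8536111 <;> simp [ind, a, b] <;> decide
    rw [he, ofMask_eq_ind] at e3
    have hm' : m ∈ codeList := (mem_octadList.1 (octadList_eq ▸ hm)).1
    refine code_le_of_octad hW (mem_octads.2 ⟨_, mem_octadList.2
      ⟨spanList_xor _ m hm' 8536111 (inCode_iff.1 (by decide +kernel)), ?_⟩, rfl⟩) e3
    rw [← pcF_eq]; exact hmx

theorem one_mem_code : (fun _ : GolayPt => (1 : ZMod 2)) ∈ golayCode := by
  rw [show (fun _ : GolayPt => (1 : ZMod 2)) = (1 : GolayPt → ZMod 2) from rfl, one_eq]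
  exact mem_golayCode.2 ⟨_, all_mem_codeList, rfl⟩

/-- An invariant subspace outside the code contains every word with two ones, modulo the code. -/
theorem pair_mem_sup {W : Submodule (ZMod 2) (GolayPt → ZMod 2)} (hW : Inv24 W) (h : ¬ W ≤ golayCode)
    {p q : GolayPt} (hpq : p ≠ q) : ∃ c ∈ golayCode, ind {p, q} + c ∈ W := by
  classical
  obtain ⟨w, hw, hwc⟩ := SetLike.not_le_iff_exists.1 h
  obtain ⟨t, ht4, htc⟩ := exists_small_rep w
  obtain ⟨a, ha⟩ : t.Nonempty := by
    rw [Finset.nonempty_iff_ne_empty]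
    rintro rfl
    exact hwc (by
      have : ind (∅ : Finset GolayPt) = 0 := by ext; simp [ind]
      rwa [this, sub_zero] at htc)
  obtain ⟨x, -, hx⟩ := Finset.exists_mem_notMem_of_card_lt_card
    (s := t) (t := (Finset.univ : Finset GolayPt)) (by
      rw [show (Finset.univ : Finset GolayPt).card = 24 from rfl]; omega)
  obtain ⟨σ, hσ, hσt⟩ := exists_smul_small (s := t) (t := insert x (t.erase a)) (by
    rw [Finset.card_insert_of_notMem (fun e => hx (Finset.mem_of_mem_erase e)), Finset.card_erase_of_mem ha]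
    have := Finset.card_pos.2 ⟨a, ha⟩
    omega) (by omega)
  have hmem := add_mem hw (hW σ hσ w hw)
  set c₀ := w - ind t with hc₀
  have hw' : w = ind t + c₀ := by rw [hc₀]; abel
  have hcomp : (fun p => w (σ.symm p)) = ind (insert x (t.erase a)) + fun p => c₀ (σ.symm p) := by
    rw [← hσt, ← ind_comp, hw']; rfl
  rw [hcomp, hw'] at hmem
  have hax : ind t + ind (insert x (t.erase a)) = ind {a, x} := by
    rw [ind_add]
    congr 1
    ext r
    by_cases hra : r = a
    · subst hra
      have : r ≠ x := fun e => hx (e ▸ ha)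
      simp [ha, this]
    · by_cases hrx : r = x
      · subst hrx; simp [hx]
      · simp [hra, hrx]
  have hW' : ind {a, x} + (c₀ + fun p => c₀ (σ.symm p)) ∈ W := by
    rw [← hax]; convert hmem using 1; abel
  have hax' : a ≠ x := fun e => hx (e ▸ ha)
  obtain ⟨τ, hτ, hτe⟩ := exists_smul_small (s := {a, x}) (t := {p, q})
    (by rw [Finset.card_pair hax', Finset.card_pair hpq]) (by rw [Finset.card_pair hax']; norm_num)
  refine ⟨fun r => (c₀ + fun p => c₀ (σ.symm p)) (τ.symm r),
    inv24_golayCode τ hτ _ (add_mem htc (inv24_golayCode σ hσ _ htc)), ?_⟩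
  have := hW τ hτ _ hW'
  have e : (fun r => (ind {a, x} + (c₀ + fun p => c₀ (σ.symm p))) (τ.symm r)) =
      ind {p, q} + fun r => (c₀ + fun p => c₀ (σ.symm p)) (τ.symm r) := by
    rw [← hτe, ← ind_comp]; rfl
  rwa [e] at this

theorem octad_split {o : Finset GolayPt} (ho : o ∈ octads) :
    ∃ f : Fin 8 → GolayPt, Function.Injective f ∧
      ind o = ind {f 0, f 1} + ind {f 2, f 3} + ind {f 4, f 5} + ind {f 6, f 7} := by
  classical
  obtain ⟨e⟩ : Nonempty (Fin 8 ≃ o) := ⟨(Finset.equivFinOfCardEq (card_octad ho)).symm⟩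
  refine ⟨fun i => (e i : GolayPt), fun a b h => e.injective (Subtype.ext h), ?_⟩
  ext r
  by_cases hr : r ∈ o
  · obtain ⟨i, hi⟩ := e.surjective ⟨r, hr⟩
    have hi' : (e i : GolayPt) = r := congrArg Subtype.val hi
    subst hi'
    fin_cases i <;> simp [ind, Subtype.ext_iff.symm, e.injective.eq_iff]
  · have hne : ∀ i, r ≠ (e i : GolayPt) := fun i h => hr (h ▸ (e i).2)
    simp [ind, hr, hne]

/-- An invariant subspace is in the code or contains the code. -/
theorem code_le_of_not_le {W : Submodule (ZMod 2) (GolayPt → ZMod 2)} (hW : Inv24 W)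
    (h : ¬ W ≤ golayCode) : golayCode ≤ W := by
  classical
  by_contra hC
  have hK : ∀ c ∈ golayCode, c ∈ W → c = 0 ∨ c = fun _ => 1 := fun c hc hcW => by
    by_contra hne
    push Not at hne
    exact hC (code_le_of_word hW hc hcW hne.1 hne.2)
  have hpair : ∀ p q, p ≠ q → ∃ ε : ZMod 2, ind {p, q} + (fun _ => ε) ∈ W := by
    intro p q hpq
    obtain ⟨c, hc, hcW⟩ := pair_mem_sup hW h hpq
    suffices c = 0 ∨ c = fun _ => 1 by
      rcases this with rfl | rfl
      · exact ⟨0, hcW⟩
      · exact ⟨1, hcW⟩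
    by_contra hne
    push Not at hne
    have hcard : 8 ≤ (support₂ c).card ∧ (support₂ c).card ≤ 16 := by
      rcases code_cases hc with h' | h' | h' | h' | h'
      · exact absurd h' hne.1
      · exact absurd h' hne.2
      · have := card_octad h'; omega
      · have := card_dodecad h'; omega
      · have e := card_octad h'
        rw [Finset.card_sdiff_of_subset (Finset.subset_univ _),
          show (Finset.univ : Finset GolayPt).card = 24 from rfl] at e
        omega
    have h2 : ({p, q} : Finset GolayPt).card ≤ 2 := Finset.card_le_two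
    have hA : 1 < (support₂ c \ {p, q}).card := by
      have := Finset.le_card_sdiff {p, q} (support₂ c); omega
    obtain ⟨a, ha, b, hb, hab⟩ := Finset.one_lt_card.1 hA
    obtain ⟨x, -, hx⟩ := Finset.exists_mem_notMem_of_card_lt_card
      (s := support₂ c ∪ {p, q}) (t := (Finset.univ : Finset GolayPt)) (by
        have := Finset.card_union_le (support₂ c) {p, q}
        rw [show (Finset.univ : Finset GolayPt).card = 24 from rfl]; omega)
    simp only [Finset.mem_sdiff, Finset.mem_insert, Finset.mem_singleton, not_or, Finset.mem_union,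
      support₂, Finset.mem_filter, Finset.mem_univ, true_and] at ha hb hx
    have hxc : c x = 0 := by simpa using hx.1
    have hxa : x ≠ a := fun e => ha.1 (e ▸ hxc)
    obtain ⟨σ, hσ, hσm⟩ := exists_M24_map' (k := 4) (by norm_num)
      (x := ![p, q, a, b]) (y := ![p, q, a, x])
      (by intro i j; fin_cases i <;> fin_cases j <;>
            simp [hpq, Ne.symm hpq, ha.2.1, Ne.symm ha.2.1, ha.2.2, Ne.symm ha.2.2, hb.2.1, Ne.symm hb.2.1, hb.2.2, Ne.symm hb.2.2, hab, Ne.symm hab])
      (by intro i j; fin_cases i <;> fin_cases j <;>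
            simp [hpq, Ne.symm hpq, ha.2.1, Ne.symm ha.2.1, ha.2.2, Ne.symm ha.2.2, hx.2.1, Ne.symm hx.2.1, hx.2.2, Ne.symm hx.2.2, hxa, Ne.symm hxa])
    have hsum := add_mem hcW (hW σ hσ _ hcW)
    have hfix : σ • ({p, q} : Finset GolayPt) = {p, q} := by
      rw [Finset.smul_finset_insert, Finset.smul_finset_singleton, Equiv.Perm.smul_def,
        Equiv.Perm.smul_def, show σ p = p from hσm 0, show σ q = q from hσm 1]
    have e : (fun r => (ind {p, q} + c) (σ.symm r)) = ind {p, q} + fun r => c (σ.symm r) := by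
      conv_rhs => rw [← hfix, ← ind_comp]
      rfl
    rw [e] at hsum
    have hK' := hK (c + fun r => c (σ.symm r)) (add_mem hc (inv24_golayCode σ hσ c hc)) (by
      convert hsum using 1
      ext r
      simp only [Pi.add_apply]
      rw [add_add_add_comm, CharTwo.add_self_eq_zero, zero_add])
    have sa : σ.symm a = a := σ.injective (by rw [Equiv.apply_symm_apply]; exact (hσm 2).symm)
    have sx : σ.symm x = b := σ.injective (by rw [Equiv.apply_symm_apply]; exact (hσm 3).symm)
    have ca : c a = 1 := (zmod2_cases _).resolve_left ha.1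
    have cb : c b = 1 := (zmod2_cases _).resolve_left hb.1
    rcases hK' with h' | h'
    · have := congrFun h' x
      simp [hxc, sx, cb] at this
    · have := congrFun h' a
      simp only [Pi.add_apply, sa, ca] at this
      exact absurd this (by decide)
  have hmem := stdOct_mem
  obtain ⟨f, hf, hsplit⟩ := octad_split hmem
  obtain ⟨e0, h0⟩ := hpair (f 0) (f 1) (hf.ne (by decide))
  obtain ⟨e1, h1⟩ := hpair (f 2) (f 3) (hf.ne (by decide))
  obtain ⟨e2, h2⟩ := hpair (f 4) (f 5) (hf.ne (by decide))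
  obtain ⟨e3, h3⟩ := hpair (f 6) (f 7) (hf.ne (by decide))
  have hsum := add_mem (add_mem (add_mem h0 h1) h2) h3
  have hrw : ind {f 0, f 1} + (fun _ => e0) + (ind {f 2, f 3} + fun _ => e1) +
      (ind {f 4, f 5} + fun _ => e2) + (ind {f 6, f 7} + fun _ => e3) =
      ind stdOct + (e0 + e1 + e2 + e3) • (fun _ : GolayPt => (1 : ZMod 2)) := by
    rw [hsplit]
    ext r
    simp only [Pi.add_apply, Pi.smul_apply, smul_eq_mul, mul_one]
    abel
  rw [hrw] at hsum
  have hin : ind stdOct + (e0 + e1 + e2 + e3) • (fun _ : GolayPt => (1 : ZMod 2)) ∈ golayCode :=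
    add_mem (ind_octad hmem) (Submodule.smul_mem _ _ one_mem_code)
  obtain ⟨p, hp⟩ : stdOct.Nonempty := Finset.card_pos.1 (by rw [card_octad hmem]; norm_num)
  obtain ⟨q, -, hq⟩ := Finset.exists_mem_notMem_of_card_lt_card
    (s := stdOct) (t := (Finset.univ : Finset GolayPt)) (by rw [card_octad hmem]; decide)
  rcases hK _ hin hsum with h' | h'
  all_goals
    have a1 := congrFun h' p
    have a2 := congrFun h' q
    simp only [Pi.add_apply, Pi.smul_apply, smul_eq_mul, mul_one, ind, hp, hq, if_true, if_false,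
      Pi.zero_apply, zero_add] at a1 a2
    rw [a2] at a1
    revert a1
    decide

theorem even_mem_of_pairs {W : Submodule (ZMod 2) (GolayPt → ZMod 2)}
    (h : ∀ p q : GolayPt, p ≠ q → ind {p, q} ∈ W) :
    ∀ n (s : Finset GolayPt), s.card = 2 * n → ind s ∈ W := by
  classical
  intro n
  induction n with
  | zero =>
    intro s hs
    rw [Finset.card_eq_zero.1 (by omega : s.card = 0)]
    have : ind (∅ : Finset GolayPt) = 0 := by ext; simp [ind]
    rw [this]; exact zero_mem _
  | succ n ih =>
    intro s hs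
    obtain ⟨a, ha, b, hb, hab⟩ := Finset.one_lt_card.1 (by omega : 1 < s.card)
    have h1 := ih ((s.erase a).erase b) (by
      rw [Finset.card_erase_of_mem (Finset.mem_erase.2 ⟨hab.symm, hb⟩), Finset.card_erase_of_mem ha]
      omega)
    have : ind s = ind ((s.erase a).erase b) + ind {a, b} := by
      ext r
      by_cases h1 : r = a
      · subst h1; simp [ind, ha]
      · by_cases h2 : r = b
        · subst h2; simp [ind, hb]
        · simp [ind, h1, h2]
    rw [this]; exact add_mem h1 (h a b hab)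

theorem sum_eq_card (w : GolayPt → ZMod 2) : ∑ p, w p = ((support₂ w).card : ZMod 2) := by
  conv_lhs => rw [← ind_support w]
  simp [ind]

/-- The invariant subspaces. -/
theorem inv24_cases {W : Submodule (ZMod 2) (GolayPt → ZMod 2)} (hW : Inv24 W) :
    W = ⊥ ∨ W = Submodule.span (ZMod 2) {fun _ => (1 : ZMod 2)} ∨ W = golayCode ∨
      (W : Set (GolayPt → ZMod 2)) = {w | ∑ p, w p = 0} ∨ W = ⊤ := by
  classical
  by_cases hle : W ≤ golayCode
  · by_cases hex : ∃ c ∈ W, c ≠ 0 ∧ c ≠ fun _ => 1
    · obtain ⟨c, hc, h0, h1⟩ := hex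
      exact Or.inr (Or.inr (Or.inl (le_antisymm hle (code_le_of_word hW (hle hc) hc h0 h1))))
    · push Not at hex
      by_cases h1 : (fun _ : GolayPt => (1 : ZMod 2)) ∈ W
      · refine Or.inr (Or.inl (le_antisymm (fun c hc => ?_) ((Submodule.span_singleton_le_iff_mem _ _).2 h1)))
        by_cases h0 : c = 0
        · rw [h0]; exact zero_mem _
        · rw [hex c hc h0]; exact Submodule.mem_span_singleton_self _
      · refine Or.inl ((Submodule.eq_bot_iff _).2 fun c hc => ?_)
        by_contra h0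
        exact h1 (hex c hc h0 ▸ hc)
  · have hC := code_le_of_not_le hW hle
    have hp : ∀ p q : GolayPt, p ≠ q → ind {p, q} ∈ W := fun p q hpq => by
      obtain ⟨c, hc, hcW⟩ := pair_mem_sup hW hle hpq
      simpa using sub_mem hcW (hC hc)
    have heven : ∀ w : GolayPt → ZMod 2, ∑ p, w p = 0 → w ∈ W := fun w hw => by
      rw [sum_eq_card, ZMod.natCast_eq_zero_iff_even] at hw
      obtain ⟨n, hn⟩ := hw
      rw [← ind_support w]
      exact even_mem_of_pairs hp n _ (by omega)
    by_cases hodd : ∃ w ∈ W, ∑ p, w p ≠ 0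
    · obtain ⟨w, hw, hs⟩ := hodd
      refine Or.inr (Or.inr (Or.inr (Or.inr (eq_top_iff.2 fun v _ => ?_))))
      rcases zmod2_cases (∑ p, v p) with h | h
      · exact heven v h
      · have := heven (v + w) (by
          simp only [Pi.add_apply]
          rw [Finset.sum_add_distrib, h, (zmod2_cases _).resolve_left hs]
          decide)
        simpa using sub_mem this hw
    · push Not at hodd
      refine Or.inr (Or.inr (Or.inr (Or.inl ?_)))
      ext w
      exact ⟨hodd w, heven w⟩

end Cfsg.Agent.Golay.Local
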