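import Cfsg.Agent.Lib.Golay.Local.Orbits
import Cfsg.Agent.Lib.Golay.Mathieu

/-!
Moving an arbitrary octad, sextet, trio, dodecad pair or three-set to the standard one.
-/

namespace Cfsg.Agent.Golay.Local

open Cfsg Cfsg.Agent.PermCert
open scoped Pointwise

attribute [local irreducible] famSet

/-- The orbit of `X` under the stabiliser of `a` is a profile class of size `n`. -/
def IsClass {α : Type*} [MulAction M24 α] (U : Univ) (a : α) (R : Finset (Finset GolayPt))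
    (X : Finset (Finset GolayPt)) (c n : ℕ) : Prop :=
  X ∈ U.set ∧ MulAction.orbit (MulAction.stabilizer M24 a) X = {Y | Y ∈ U.set ∧ wProf R Y = c} ∧
    (MulAction.orbit (MulAction.stabilizer M24 a) X).ncard = n

theorem isClass_of_spec (U : Univ) {gens : List Elt} {tabs : List Tab} {R root : List ℕ}
    (hR : famOK R = true) (hroot : famOK root = true) (hg : gensOK gens tabs R = true) {c n : ℕ}
    {t : BT} (h : orbitOK tabs U.list R root c n t = true) {α : Type*} [MulAction M24 α] {a : α}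
    (ha : MulAction.stabilizer M24 a = famStab (famSet R)) :
    IsClass U a (famSet R) (famSet root) c n := by
  obtain ⟨h1, h2, h3⟩ := orbit_spec U hR hroot hg h
  unfold IsClass
  rw [ha]
  exact ⟨h1, h2, h3⟩

theorem IsClass.move {α : Type*} [MulAction M24 α] {U : Univ} {a : α} {R X : Finset (Finset GolayPt)}
    {c n : ℕ} (h : IsClass U a R X c n) (g : M24) : IsClass U (g • a) (g • R) (g • X) c n := by
  obtain ⟨h1, h2, h3⟩ := h
  refine ⟨U.smul _ g.2 _ h1, ?_, by rw [orbit_ncard_smul]; exact h3⟩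
  rw [orbit_stab_smul, h2]
  ext Y
  constructor
  · rintro ⟨Z, ⟨hZ, hc⟩, rfl⟩
    exact ⟨U.smul _ g.2 _ hZ, (wProf_smul (g : Equiv.Perm GolayPt) R Z).trans hc⟩
  · rintro ⟨hY, hc⟩
    refine ⟨g⁻¹ • Y, ⟨U.smul _ (g⁻¹).2 _ hY, ?_⟩, smul_inv_smul g Y⟩
    rw [← hc, ← wProf_smul (g : Equiv.Perm GolayPt) R (g⁻¹ • Y),
      show (g : Equiv.Perm GolayPt) • g⁻¹ • Y = Y from smul_inv_smul g Y]
    rfl

theorem IsClass.mem_orbit {α : Type*} [MulAction M24 α] {U : Univ} {a : α}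
    {R X : Finset (Finset GolayPt)} {c n : ℕ} (h : IsClass U a R X c n)
    {Y : Finset (Finset GolayPt)} (hY : Y ∈ U.set) (hc : wProf R Y = c) :
    ∃ g : M24, g • a = a ∧ g • X = Y := by
  have : Y ∈ MulAction.orbit (MulAction.stabilizer M24 a) X := by rw [h.2.1]; exact ⟨hY, hc⟩
  obtain ⟨g, hg⟩ := this
  exact ⟨g, g.2, hg⟩

theorem IsClass.cover₃ {α : Type*} [MulAction M24 α] {U : Univ} {a : α}
    {R X₁ X₂ X₃ : Finset (Finset GolayPt)} {c₁ c₂ c₃ n₁ n₂ n₃ : ℕ}
    (h₁ : IsClass U a R X₁ c₁ n₁) (h₂ : IsClass U a R X₂ c₂ n₂) (h₃ : IsClass U a R X₃ c₃ n₃)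
    (hv : ∀ Y ∈ U.set, wProf R Y ∈ [c₁, c₂, c₃]) :
    U.set = MulAction.orbit (MulAction.stabilizer M24 a) X₁ ∪
      MulAction.orbit (MulAction.stabilizer M24 a) X₂ ∪
        MulAction.orbit (MulAction.stabilizer M24 a) X₃ := by
  rw [h₁.2.1, h₂.2.1, h₃.2.1]
  ext Y
  constructor
  · intro hY
    have := hv Y hY
    simp only [List.mem_cons, List.not_mem_nil, or_false] at this
    rcases this with h | h | h
    exacts [Or.inl (Or.inl ⟨hY, h⟩), Or.inl (Or.inr ⟨hY, h⟩), Or.inr ⟨hY, h⟩]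
  · rintro ((h | h) | h) <;> exact h.1

theorem IsClass.cover₄ {α : Type*} [MulAction M24 α] {U : Univ} {a : α}
    {R X₁ X₂ X₃ X₄ : Finset (Finset GolayPt)} {c₁ c₂ c₃ c₄ n₁ n₂ n₃ n₄ : ℕ}
    (h₁ : IsClass U a R X₁ c₁ n₁) (h₂ : IsClass U a R X₂ c₂ n₂) (h₃ : IsClass U a R X₃ c₃ n₃)
    (h₄ : IsClass U a R X₄ c₄ n₄) (hv : ∀ Y ∈ U.set, wProf R Y ∈ [c₁, c₂, c₃, c₄]) :
    U.set = MulAction.orbit (MulAction.stabilizer M24 a) X₁ ∪
      MulAction.orbit (MulAction.stabilizer M24 a) X₂ ∪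
        MulAction.orbit (MulAction.stabilizer M24 a) X₃ ∪
          MulAction.orbit (MulAction.stabilizer M24 a) X₄ := by
  rw [h₁.2.1, h₂.2.1, h₃.2.1, h₄.2.1]
  ext Y
  constructor
  · intro hY
    have := hv Y hY
    simp only [List.mem_cons, List.not_mem_nil, or_false] at this
    rcases this with h | h | h | h
    exacts [Or.inl (Or.inl (Or.inl ⟨hY, h⟩)), Or.inl (Or.inl (Or.inr ⟨hY, h⟩)),
      Or.inl (Or.inr ⟨hY, h⟩), Or.inr ⟨hY, h⟩]
  · rintro (((h | h) | h) | h) <;> exact h.1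

theorem values_move (U : Univ) {R : Finset (Finset GolayPt)} {cs : List ℕ} (g : M24)
    (h : ∀ Y ∈ U.set, wProf R Y ∈ cs) : ∀ Y ∈ U.set, wProf (g • R) Y ∈ cs := by
  intro Y hY
  have := h _ (U.smul _ (g⁻¹).2 _ hY)
  have e := smul_inv_smul g Y
  rw [Subgroup.smul_def, Subgroup.smul_def] at e
  rw [← wProf_smul (g : Equiv.Perm GolayPt), e] at this
  exact this

theorem stab_maskSet (m : ℕ) :
    MulAction.stabilizer M24 (maskSet m) = famStab (famSet [m]) := by
  rw [famSet_single]; exact (stab_singleton _).symm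

/-- Orbits on octads from orbits on one-member families. -/
theorem octad_orbit (H : Subgroup M24) (o : Finset GolayPt) :
    MulAction.orbit H o = (fun s => {s}) ⁻¹' MulAction.orbit H ({o} : Finset (Finset GolayPt)) := by
  rw [orbit_singleton, Set.preimage_image_eq _ Finset.singleton_injective]

theorem octad_orbit_ncard (H : Subgroup M24) (o : Finset GolayPt) :
    (MulAction.orbit H ({o} : Finset (Finset GolayPt))).ncard = (MulAction.orbit H o).ncard := by
  rw [orbit_singleton, Set.ncard_image_of_injective _ Finset.singleton_injective]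

theorem eq_of_octUniv {s : Finset (Finset GolayPt)} (h : s ∈ octUniv.set) :
    ∃ o ∈ octads, s = {o} := by
  obtain ⟨o, ho, rfl⟩ := h
  exact ⟨o, ho, rfl⟩

theorem exists_smul_sextet {S S' : Finset (Finset GolayPt)} (hS : S ∈ sextets) (hS' : S' ∈ sextets) :
    ∃ g : M24, g • S = S' := by
  obtain ⟨t, ht⟩ := Finset.card_pos.1 (by rw [hS.1]; norm_num : 0 < S.card)
  obtain ⟨u, hu⟩ := Finset.card_pos.1 (by rw [hS'.1]; norm_num : 0 < S'.card)
  let x : Fin 4 → GolayPt := fun i => (t.equivFin.symm (i.cast (hS.2.1 t ht).symm) : GolayPt)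
  let y : Fin 4 → GolayPt := fun i => (u.equivFin.symm (i.cast (hS'.2.1 u hu).symm) : GolayPt)
  obtain ⟨g, hg, h⟩ := exists_M24_map' (k := 4) (by norm_num) (x := x) (y := y)
    (fun a b h => by simpa [x] using h) (fun a b h => by simpa [y] using h)
  refine ⟨⟨g, hg⟩, sextet_eq (smul_mem_sextets hg hS) hS' (t := g • t) (Finset.smul_mem_smul_finset ht) ?_⟩
  suffices g • t = u by rw [this]; exact hu
  refine Finset.eq_of_subset_of_card_le ?_ (by rw [Finset.card_smul_finset, hS.2.1 t ht, hS'.2.1 u hu])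
  intro p hp
  obtain ⟨q, hq, rfl⟩ := Finset.mem_smul_finset.1 hp
  obtain ⟨i, rfl⟩ : ∃ i, x i = q :=
    ⟨(t.equivFin ⟨q, hq⟩).cast (hS.2.1 t ht), by simp [x]⟩
  show g (x i) ∈ u
  rw [h i]
  exact Finset.coe_mem _

theorem exists_smul_three {Y Y' : Finset GolayPt} (hY : Y.card = 3) (hY' : Y'.card = 3) :
    ∃ g : M24, g • Y = Y' := by
  let x : Fin 3 → GolayPt := fun i => (Y.equivFin.symm (i.cast hY.symm) : GolayPt)
  let y : Fin 3 → GolayPt := fun i => (Y'.equivFin.symm (i.cast hY'.symm) : GolayPt)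
  obtain ⟨g, hg, h⟩ := exists_M24_map' (k := 3) (by norm_num) (x := x) (y := y)
    (fun a b h => by simpa [x] using h) (fun a b h => by simpa [y] using h)
  refine ⟨⟨g, hg⟩, Finset.eq_of_subset_of_card_le ?_ (by rw [Finset.card_smul_finset, hY, hY'])⟩
  intro p hp
  obtain ⟨q, hq, rfl⟩ := Finset.mem_smul_finset.1 hp
  obtain ⟨i, rfl⟩ : ∃ i, x i = q := ⟨(Y.equivFin ⟨q, hq⟩).cast hY, by simp [x]⟩
  show g (x i) ∈ Y'
  rw [h i]
  exact Finset.coe_mem _

theorem exists_smul_octad {o o' : Finset GolayPt} (ho : o ∈ octads) (ho' : o' ∈ octads) :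
    ∃ g : M24, g • o = o' := by
  obtain ⟨g, hg, h⟩ := exists_M24_octad ho ho'
  exact ⟨⟨g, hg⟩, h⟩

theorem exists_smul_duo {d d' : Finset GolayPt} (hd : d ∈ dodecads) (hd' : d' ∈ dodecads) :
    ∃ g : M24, g • d = d' ∧ g • (Finset.univ \ d) = Finset.univ \ d' := by
  obtain ⟨g, hg, h⟩ := exists_M24_dodecad hd
  obtain ⟨k, hk, h'⟩ := exists_M24_dodecad hd'
  have e : (⟨k, hk⟩ * ⟨g, hg⟩⁻¹ : M24) • d = d' := by
    show (k * g⁻¹) • d = d'
    rw [mul_smul, ← h, inv_smul_smul, h']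
  exact ⟨_, e, by rw [Finset.smul_finset_sdiff, e, Finset.smul_finset_univ]⟩

theorem wProf_self {o : Finset GolayPt} {T : Finset (Finset GolayPt)} (hT : T ∈ trios) (ho : o ∈ T) :
    wProf {o} T = 4096 := by
  have key : ∀ a ∈ T, a ≠ o → ∑ r ∈ ({o} : Finset (Finset GolayPt)), (a ∩ r).card ^ 4 = 0 :=
    fun a ha hne => by
      rw [Finset.sum_singleton, Finset.disjoint_iff_inter_eq_empty.1 (hT.2.2 a ha o ho hne),
        Finset.card_empty]
      rfl
  rw [wProf, Finset.sum_eq_single_of_mem o ho key, Finset.sum_singleton, Finset.inter_self,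
    card_octad (hT.2.1 o ho)]
  norm_num

end Cfsg.Agent.Golay.Local
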