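import Cfsg.Agent.Lib.Golay.Local.CentDefs

/-! Kernel checks for centralisers and normalisers. -/

namespace Cfsg.Agent.Golay.Local

open Cfsg Cfsg.Agent.PermCert Cfsg.Agent.Golay.Cert

/-- No two codes of the list list the same images. -/
def distinctCodes (l : List Elt) : Bool := distinctKeys (l.map fun e => cmpF e.1 idC)

theorem chains_gens :
    (sevenChainGens = m24Gens ∧ invBChainGens = m24Gens) ∧ threeAChainGens = m24Gens ∧
      threeBChainGens = m24Gens := by
  refine ⟨⟨?_, ?_⟩, ?_, ?_⟩ <;> rfl

theorem sevenChain_cert : checkCert 5 24 sevenChainGens sevenChainDerived sevenChainLevels = true := by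
  decide +kernel
theorem invBChain_cert : checkCert 5 24 invBChainGens invBChainDerived invBChainLevels = true := by
  decide +kernel
theorem threeAChain_cert : checkCert 5 24 threeAChainGens threeAChainDerived threeAChainLevels = true := by
  decide +kernel
theorem threeBChain_cert : checkCert 5 24 threeBChainGens threeBChainDerived threeBChainLevels = true := by
  decide +kernel
theorem chains_bases :
    (basesOK sevenChainLevels && basesOK invBChainLevels && basesOK threeAChainLevels &&
      basesOK threeBChainLevels) = true := by decide +kernel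

theorem cen2B_cert : checkCert 5 24 cen2BGens cen2BDerived cen2BLevels = true := by decide +kernel
theorem cen2B_gens :
    (allF eltOK₂ cen2BGens && keysOK cen2BLevels && fullOK 0 cen2BLevels 1 &&
      Nat.beq (certOrder cen2BLevels) 7680 &&
      allF (fun g => sameF (cmpF g.1 rep2B.1) (cmpF rep2B.1 g.1) && fixesFam (tabOf g) cen2BSext) cen2BGens &&
      famOK cen2BSext && fixesFam (tabOf rep2B) cen2BSext &&
      anyF (fun l => sameFam l cen2BSext) sexLit) = true := by decide +kernel
theorem cen2B_search : searchB pr2B leafC2B invBChainLevels [] idC = true := by decide +kernel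

theorem norm7_search : searchB pr7 leaf7 sevenChainLevels [] idC = true := by decide +kernel
theorem norm7_list :
    (allF eltOK₂ norm7 && distinctCodes norm7 && Nat.beq norm7.length 126 &&
      allF (fun g => anyF (fun y => sameF (cmpF g.1 rep7.1) (cmpF y g.1)) pow7 &&
        fixesFam (tabOf g) trio7) norm7 &&
      famOK trio7 && anyF (fun l => sameFam l trio7) triList &&
      Nat.beq (norm7.filter fun g => sameF (cmpF g.1 rep7.1) (cmpF rep7.1 g.1)).length 42 &&
      (sameF (cmpF rep7.1 (pow7.getD 5 0)) idC && !(sameF rep7.1 idC) &&
        sameF (cmpF cen7a.1 rep7.1) (cmpF rep7.1 cen7a.1) &&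
        sameF (cmpF cen7b.1 rep7.1) (cmpF rep7.1 cen7b.1) &&
        !(sameF (cmpF cen7a.1 cen7b.1) (cmpF cen7b.1 cen7a.1)))) = true := by decide +kernel

theorem inv3A_search : searchB (prInv rep3A.1) (leafInv rep3A.1 8) threeAChainLevels [] idC = true := by
  decide +kernel
theorem inv3B_search : searchB (prInv rep3B.1) (leafInv rep3B.1 0) threeBChainLevels [] idC = true := by
  decide +kernel

theorem fix6_searchA : searchB (prFix 8388639) (leafList fix6A) m24Levels [] idC = true := by decide +kernel
theorem fix6_searchB : searchB (prFix 8388655) (leafList fix6B) m24Levels [] idC = true := by decide +kernel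
theorem fix6_lists :
    (allF eltOK₂ (fix6A ++ fix6B) && distinctCodes fix6A && distinctCodes fix6B &&
      Nat.beq fix6A.length 3 && Nat.beq fix6B.length 16 &&
      allF (fun g => Nat.beq (Nat.land (fixF g.1) 8388639) 8388639) fix6A &&
      allF (fun g => Nat.beq (Nat.land (fixF g.1) 8388655) 8388655) fix6B &&
      allF (fun o => !(Nat.beq (Nat.land o 8388639) 8388639)) octLit &&
      anyF (fun o => Nat.beq (Nat.land o 8388655) 8388655) octLit) = true := by decide +kernel

end Cfsg.Agent.Golay.Local
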