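import Cfsg.Agent.Lib.Golay.Local.Fast
import Cfsg.Agent.Lib.Golay.Local.FamData

/-! Kernel checks on the sextet and trio data. -/

namespace Cfsg.Agent.Golay.Local

open Cfsg Cfsg.Agent.PermCert

/-- A list of distinct masks below `2 ^ 24`. -/
def famOK (l : List ℕ) : Bool := distinctKeys l && allF (fun m => Nat.blt m 16777216) l

/-- All pairs of a list satisfy `f`. -/
def pairsB (f : ℕ → ℕ → Bool) : List ℕ → Bool
  | [] => true
  | a :: l => allF (f a) l && pairsB f l

/-- The four-point masks through position 23, by increasing triples. -/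
def tetradMasks : List ℕ :=
  (List.range 23).flatMap fun a => ((List.range 23).filter (fun b => Nat.blt a b)).flatMap fun b =>
    ((List.range 23).filter (fun c => Nat.blt b c)).map fun c =>
      8388608 ||| (1 <<< a) ||| (1 <<< b) ||| (1 <<< c)

/-- Two masks whose union is an octad. -/
def unionOct (a b : ℕ) : Bool := inF (Nat.lor a b) && Nat.beq (pcF (Nat.lor a b)) 8

/-- A sextet: six tetrads, the first through position 23, any two forming an octad. -/
def sexEntryOK (l : List ℕ) : Bool :=
  famOK l && Nat.beq l.length 6 && allF (fun m => Nat.beq (pcF m) 4) l && pairsB unionOct l &&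
    true

/-- The families of the trio data. -/
def triList : List (List ℕ) :=
  triLit.flatMap fun e => e.2.map fun o => [e.1, o, 16777215 ^^^ e.1 ^^^ o]

/-- A trio. -/
def triEntryOK (l : List ℕ) : Bool :=
  famOK l && Nat.beq l.length 3 && allF (fun m => inF m && Nat.beq (pcF m) 8) l &&
    pairsB (fun a b => Nat.beq (Nat.land a b) 0) l

theorem octadList_eq : octadList = octLit := beqList_spec _ _ (by decide +kernel)

theorem sexLit_ok : allF sexEntryOK sexLit = true := by decide +kernel

theorem sexLit_heads : beqList (sexLit.map (fun l => l.headD 0)) tetradMasks = true := by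
  decide +kernel

theorem triList_ok : allF triEntryOK triList = true := by decide +kernel

theorem triLit_keys :
    beqList (triLit.map fun e => e.1) (octLit.filter fun m => m.testBit 23) = true := by
  decide +kernel

theorem triLit_complete : (triLit |> allF fun e => octLit |> allF fun o =>
    !(Nat.beq (Nat.land e.1 o) 0) || memF o e.2 || memF (16777215 ^^^ e.1 ^^^ o) e.2) = true := by
  decide +kernel

theorem triLit_sep : (triLit |> allF fun e =>
    pairsB (fun a b => !(Nat.beq a b) && !(Nat.beq (16777215 ^^^ e.1 ^^^ a) b)) e.2) = true := by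
  decide +kernel

/-- Reversal of 24 bits. -/
def rev24 (m : ℕ) : ℕ :=
  (fun c => Nat.lor (Nat.lor (Nat.shiftLeft (Nat.land c 2396745) 2) (Nat.land c 4793490))
      (Nat.land (Nat.shiftRight c 2) 2396745))
    ((fun b => Nat.lor (Nat.shiftLeft (Nat.land b 1864135) 3) (Nat.land (Nat.shiftRight b 3) 1864135))
      ((fun a => Nat.lor (Nat.shiftLeft (Nat.land a 258111) 6) (Nat.land (Nat.shiftRight a 6) 258111))
        (Nat.lor (Nat.shiftLeft (Nat.land m 4095) 12) (Nat.land (Nat.shiftRight m 12) 4095))))

/-- Strictly decreasing. -/
def decB : List ℕ → Bool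
  | a :: b :: l => Nat.blt b a && decB (b :: l)
  | _ => true

theorem decB_spec : ∀ l : List ℕ, decB l = true → l.Pairwise (fun a b => b < a) := by
  intro l
  induction l with
  | nil => intro _; exact List.Pairwise.nil
  | cons a l ih =>
    intro h
    cases l with
    | nil => exact List.pairwise_singleton _ _
    | cons b l =>
      simp only [decB, Bool.and_eq_true, Nat.blt_eq] at h
      have h2 := ih h.2
      refine List.pairwise_cons.2 ⟨fun c hc => ?_, h2⟩
      rcases List.mem_cons.1 hc with rfl | hc
      · exact h.1
      · exact lt_trans ((List.pairwise_cons.1 h2).1 c hc) h.1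

theorem tetradMasks_rev : decB (tetradMasks.map rev24) = true := by decide +kernel

theorem tetradMasks_nodup : tetradMasks.Nodup :=
  List.Nodup.of_map rev24 ((decB_spec _ tetradMasks_rev).imp fun h => Ne.symm (ne_of_lt h))

end Cfsg.Agent.Golay.Local
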