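import Cfsg.Prelude.Def_SporadicCombinatorics
import Cfsg.Agent.Lib.Golay.Local.FamChecks
import Mathlib.Algebra.BigOperators.Group.Finset.Basic

/-!
Sextets and trios as verified lists of mask families.
-/

namespace Cfsg.Agent.Golay.Local

open Cfsg Cfsg.Agent.PermCert
open scoped Pointwise

/-! ### Families of masks -/

/-- The family of point sets of a list of masks. -/
def famSet (l : List ℕ) : Finset (Finset GolayPt) := (l.map maskSet).toFinset

theorem mem_famSet {l : List ℕ} {s : Finset GolayPt} :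
    s ∈ famSet l ↔ ∃ m ∈ l, maskSet m = s := by simp [famSet]

theorem famOK_spec {l : List ℕ} (h : famOK l = true) : l.Nodup ∧ ∀ m ∈ l, m < 2 ^ 24 := by
  simp only [famOK, Bool.and_eq_true, allF_iff, Nat.blt_eq] at h
  exact ⟨distinctKeys_spec _ h.1, fun m hm => by simpa using h.2 m hm⟩

theorem nodup_map_maskSet {l : List ℕ} (h : famOK l = true) : (l.map maskSet).Nodup := by
  obtain ⟨hn, hlt⟩ := famOK_spec h
  exact hn.map_on fun a ha b hb e => maskSet_inj (hlt a ha) (hlt b hb) e

theorem card_famSet {l : List ℕ} (h : famOK l = true) : (famSet l).card = l.length := by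
  rw [famSet, List.toFinset_card_of_nodup (nodup_map_maskSet h), List.length_map]

theorem sum_famSet {M : Type*} [AddCommMonoid M] {l : List ℕ} (h : famOK l = true)
    (f : Finset GolayPt → M) : ∑ s ∈ famSet l, f s = (l.map fun m => f (maskSet m)).sum := by
  rw [famSet, List.sum_toFinset f (nodup_map_maskSet h), List.map_map]
  rfl

/-- Same members. -/
def sameFam (a b : List ℕ) : Bool := allF (fun m => memF m b) a && allF (fun m => memF m a) b

theorem famSet_congr {a b : List ℕ} (h : sameFam a b = true) : famSet a = famSet b := by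
  simp only [sameFam, Bool.and_eq_true, allF_iff, memF_iff] at h
  ext s
  simp only [mem_famSet]
  exact ⟨fun ⟨m, hm, e⟩ => ⟨m, h.1 m hm, e⟩, fun ⟨m, hm, e⟩ => ⟨m, h.2 m hm, e⟩⟩

theorem famSet_smul {e : Elt} (he : validElt 5 24 e = true) {l : List ℕ}
    (hl : ∀ m ∈ l, m < 2 ^ 24) : permOf e • famSet l = famSet (l.map (tabOf e).img) := by
  ext s
  simp only [Finset.mem_smul_finset, mem_famSet, List.mem_map]
  constructor
  · rintro ⟨_, ⟨m, hm, rfl⟩, rfl⟩
    exact ⟨_, ⟨m, hm, rfl⟩, (smul_maskSet he (hl m hm)).symm⟩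
  · rintro ⟨_, ⟨m, hm, rfl⟩, rfl⟩
    exact ⟨_, ⟨m, hm, rfl⟩, smul_maskSet he (hl m hm)⟩

/-- A family fixed by a coded permutation. -/
def fixesFam (T : Tab) (l : List ℕ) : Bool := l |> allF fun m => memF (imgF T m) l

theorem memB_iff {a : ℕ} {l : List ℕ} : memB a l = true ↔ a ∈ l := by
  simp [memB, List.any_eq_true]

theorem fixesFam_iff {e : Elt} (he : validElt 5 24 e = true) {l : List ℕ} (hl : famOK l = true) :
    fixesFam (tabOf e) l = true ↔ permOf e • famSet l = famSet l := by
  obtain ⟨-, hlt⟩ := famOK_spec hl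
  simp only [fixesFam, allF_iff, memF_iff, imgF_eq]
  constructor
  · intro h
    refine Finset.eq_of_subset_of_card_le ?_ (by rw [Finset.card_smul_finset])
    rw [famSet_smul he hlt]
    intro s hs
    obtain ⟨m, hm, rfl⟩ := mem_famSet.1 hs
    obtain ⟨k, hk, rfl⟩ := List.mem_map.1 hm
    exact mem_famSet.2 ⟨_, h k hk, rfl⟩
  · intro h m hm
    have hmem : permOf e • maskSet m ∈ famSet l := by
      rw [← h]
      exact Finset.smul_mem_smul_finset (mem_famSet.2 ⟨m, hm, rfl⟩)
    rw [smul_maskSet he (hlt m hm)] at hmem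
    obtain ⟨k, hk, hke⟩ := mem_famSet.1 hmem
    rwa [maskSet_inj (hlt k hk) (tab_img_lt e (hlt m hm)) hke] at hk

/-! ### Octads -/

theorem mem_octads' {s : Finset GolayPt} : s ∈ octads ↔ ∃ m ∈ octLit, maskSet m = s := by
  rw [mem_octads, octadList_eq]

theorem octLit_lt {m : ℕ} (h : m ∈ octLit) : m < 2 ^ 24 :=
  lt_of_mem_octadList (octadList_eq ▸ h)

theorem octLit_nodup : octLit.Nodup := octadList_eq ▸ octadList_nodup

theorem ncard_filter_octads (P : Finset GolayPt → Prop) (b : ℕ → Bool)
    (h : ∀ m ∈ octLit, b m = true ↔ P (maskSet m)) :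
    {o | o ∈ octads ∧ P o}.ncard = (octLit.filter b).length := by
  rw [← ncard_image_maskSet (octLit_nodup.filter b)
    (fun m hm => octLit_lt (List.mem_filter.1 hm).1)]
  congr 1
  ext s
  simp only [Set.mem_ofPred_eq, mem_octads', List.mem_filter]
  exact ⟨fun ⟨⟨m, hm, e⟩, hp⟩ => ⟨m, ⟨hm, (h m hm).2 (e ▸ hp)⟩, e⟩,
    fun ⟨m, ⟨hm, hb⟩, e⟩ => ⟨⟨m, hm, e⟩, e ▸ (h m hm).1 hb⟩⟩

theorem maskSet_mem_octads {m : ℕ} (h1 : inCode m = true) (h2 : popCount m 24 = 8) :
    maskSet m ∈ octads :=
  mem_octads.2 ⟨m, mem_octadList.2 ⟨inCode_iff.1 h1, h2⟩, rfl⟩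

theorem pt23 : pt (⟨23, by norm_num⟩ : Fin 24) = none := rfl

theorem none_mem_maskSet {m : ℕ} : (none : GolayPt) ∈ maskSet m ↔ m.testBit 23 = true := mem_maskSet

/-! ### Sextets -/

theorem pairsB_spec {f : ℕ → ℕ → Bool} (hf : ∀ a b, f a b = f b a) :
    ∀ {l : List ℕ}, pairsB f l = true → ∀ a ∈ l, ∀ b ∈ l, a ≠ b → f a b = true := by
  intro l
  induction l with
  | nil => intro _ a ha; simp at ha
  | cons x l ih =>
    intro h a ha b hb hne
    simp only [pairsB, Bool.and_eq_true, allF_iff] at h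
    rcases List.mem_cons.1 ha with e | ha' <;> rcases List.mem_cons.1 hb with e' | hb'
    · exact absurd (e.trans e'.symm) hne
    · rw [e]; exact h.1 b hb'
    · rw [e', hf]; exact h.1 a ha'
    · exact ih h.2 a ha' b hb' hne

theorem exists_triple {s : Finset (Fin 23)} (h : s.card = 3) :
    ∃ a b c, a < b ∧ b < c ∧ s = {a, b, c} := by
  set e := s.orderEmbOfFin h with he
  refine ⟨e 0, e 1, e 2, e.strictMono (by decide), e.strictMono (by decide), ?_⟩
  refine (Finset.eq_of_subset_of_card_le (fun x hx => ?_) ?_).symm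
  · simp only [Finset.mem_insert, Finset.mem_singleton] at hx
    rcases hx with rfl | rfl | rfl <;> exact Finset.orderEmbOfFin_mem s h _
  · rw [h, Finset.card_insert_of_notMem, Finset.card_pair]
    · exact fun hh => absurd (e.injective hh) (by decide)
    · simp only [Finset.mem_insert, Finset.mem_singleton, not_or]
      exact ⟨fun hh => absurd (e.injective hh) (by decide), fun hh => absurd (e.injective hh) (by decide)⟩

theorem sexLit_spec {l : List ℕ} (hl : l ∈ sexLit) : famOK l = true ∧ famSet l ∈ sextets := by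
  have h := allF_iff.1 sexLit_ok l hl
  simp only [sexEntryOK, Bool.and_eq_true, Nat.beq_eq, allF_iff, pcF_eq, and_true] at h
  obtain ⟨⟨⟨hok, hlen⟩, h4⟩, hpair⟩ := h
  refine ⟨hok, by rw [card_famSet hok, hlen], fun t ht => ?_, fun t ht u hu hne => ?_⟩
  · obtain ⟨m, hm, rfl⟩ := mem_famSet.1 ht
    rw [card_maskSet]; exact h4 m hm
  · obtain ⟨m, hm, rfl⟩ := mem_famSet.1 ht
    obtain ⟨k, hk, rfl⟩ := mem_famSet.1 hu
    have := pairsB_spec (fun a b => by unfold unionOct; rw [show Nat.lor a b = Nat.lor b a from Nat.lor_comm a b]) hpair m hm k hk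
      (fun e => hne (by rw [e]))
    simp only [unionOct, Bool.and_eq_true, Nat.beq_eq, inF_eq, pcF_eq] at this
    rw [← maskSet_or]
    exact maskSet_mem_octads this.1 this.2

theorem sextet_cover {S : Finset (Finset GolayPt)} (hS : S ∈ sextets) :
    S.biUnion id = Finset.univ ∧ ∀ t ∈ S, ∀ u ∈ S, t ≠ u → Disjoint t u := by
  obtain ⟨h6, h4, hoct⟩ := hS
  have hd : ∀ t ∈ S, ∀ u ∈ S, t ≠ u → Disjoint t u := fun t ht u hu hne => by
    rw [Finset.disjoint_iff_inter_eq_empty, ← Finset.card_eq_zero]
    have := Finset.card_union_add_card_inter t u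
    rw [card_octad (hoct t ht u hu hne), h4 t ht, h4 u hu] at this
    omega
  refine ⟨Finset.eq_univ_of_card _ ?_, hd⟩
  rw [Finset.card_biUnion (t := id) (fun t ht u hu hne => hd t ht u hu hne)]
  simp only [id]
  rw [Finset.sum_const_nat h4, h6]
  decide

/-- A sextet is determined by one tetrad. -/
theorem sextet_eq {S S' : Finset (Finset GolayPt)} (hS : S ∈ sextets) (hS' : S' ∈ sextets)
    {t : Finset GolayPt} (ht : t ∈ S) (ht' : t ∈ S') : S = S' := by
  refine Finset.eq_of_subset_of_card_le (fun u hu => ?_) (by rw [hS.1, hS'.1])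
  by_cases hut : u = t
  · exact hut ▸ ht'
  obtain ⟨q, hq⟩ := Finset.card_pos.1 (by rw [hS.2.1 u hu]; norm_num : 0 < u.card)
  obtain ⟨v, hv, hqv⟩ := Finset.mem_biUnion.1 ((sextet_cover hS').1 ▸ Finset.mem_univ q)
  have hdtu := (sextet_cover hS).2 t ht u hu (Ne.symm hut)
  have hvt : v ≠ t := fun e => Finset.disjoint_left.1 hdtu (e ▸ hqv : q ∈ t) hq
  have hdtv := (sextet_cover hS').2 t ht' v hv (Ne.symm hvt)
  have heq : t ∪ u = t ∪ v := by
    refine octad_unique (hS.2.2 t ht u hu (Ne.symm hut)) (hS'.2.2 t ht' v hv (Ne.symm hvt)) ?_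
    have hsub : insert q t ⊆ (t ∪ u) ∩ (t ∪ v) := by
      intro x hx
      rcases Finset.mem_insert.1 hx with rfl | hx
      · exact Finset.mem_inter.2 ⟨Finset.mem_union_right _ hq, Finset.mem_union_right _ hqv⟩
      · exact Finset.mem_inter.2 ⟨Finset.mem_union_left _ hx, Finset.mem_union_left _ hx⟩
    have := Finset.card_le_card hsub
    rw [Finset.card_insert_of_notMem (fun hh => Finset.disjoint_left.1 hdtu hh hq), hS.2.1 t ht] at this
    exact this
  have : u = v := by
    rw [← Finset.union_sdiff_cancel_left hdtu, heq, Finset.union_sdiff_cancel_left hdtv]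
  exact this ▸ hv

theorem mem_sextets {S : Finset (Finset GolayPt)} :
    S ∈ sextets ↔ ∃ l ∈ sexLit, famSet l = S := by
  constructor
  · intro hS
    obtain ⟨t, ht, hn⟩ := Finset.mem_biUnion.1 ((sextet_cover hS).1 ▸ Finset.mem_univ (none : GolayPt))
    simp only [id] at hn
    have ht3 : ((Finset.univ : Finset (Fin 23)).filter fun i => ptN i.val ∈ t).card = 3 := by
      have h := hS.2.1 t ht
      rw [← Finset.card_erase_add_one hn] at h
      have : ((Finset.univ : Finset (Fin 23)).filter fun i => ptN i.val ∈ t).card =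
          (t.erase none).card := by
        refine Finset.card_bij (fun i _ => ptN i.val) (fun i hi => ?_) (fun i _ j _ e => ?_) (fun p hp => ?_)
        · refine Finset.mem_erase.2 ⟨fun e => ?_, (Finset.mem_filter.1 hi).2⟩
          have := congrArg idx e
          rw [idx_ptN (by omega)] at this
          have h23 : idx (none : GolayPt) = 23 := rfl
          omega
        · have := congrArg idx e
          rw [idx_ptN (by omega), idx_ptN (by omega)] at this
          exact Fin.ext this
        · obtain ⟨hpn, hpt⟩ := Finset.mem_erase.1 hp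
          have hlt : idx p < 23 := by
            have := idx_lt p
            by_contra h
            exact hpn (idx_injective (show idx p = idx none by
              show idx p = 23
              omega))
          exact ⟨⟨idx p, hlt⟩, by simp [ptN_idx, hpt], ptN_idx p⟩
      omega
    obtain ⟨a, b, c, hab, hbc, habc⟩ := exists_triple ht3
    have hmask : maskSet (8388608 ||| (1 <<< a.val) ||| (1 <<< b.val) ||| (1 <<< c.val)) = t := by
      ext p
      have h1 : ∀ k : Fin 23, idx p = k.val ↔ p = ptN k.val := fun k =>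
        ⟨fun e => by rw [← e, ptN_idx], fun e => by rw [e, idx_ptN (by omega)]⟩
      rw [mem_maskSet, show (8388608 : ℕ) = 1 <<< 23 from rfl]
      simp only [Nat.testBit_or, Nat.one_shiftLeft, Nat.testBit_two_pow, Bool.or_eq_true,
        decide_eq_true_eq]
      have key : ∀ k : Fin 23, ptN k.val ∈ t ↔ k ∈ ({a, b, c} : Finset (Fin 23)) := fun k => by
        rw [← habc]; simp
      constructor
      · rintro (((h | h) | h) | h)
        · rw [idx_injective (show idx p = idx (none : GolayPt) from h.symm)]; exact hn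
        · rw [(h1 a).1 h.symm]; exact (key a).2 (by simp)
        · rw [(h1 b).1 h.symm]; exact (key b).2 (by simp)
        · rw [(h1 c).1 h.symm]; exact (key c).2 (by simp)
      · intro hp
        by_cases hpn : p = none
        · exact Or.inl (Or.inl (Or.inl (by rw [hpn]; rfl)))
        have hlt : idx p < 23 := by
          have := idx_lt p
          by_contra h
          exact hpn (idx_injective (show idx p = 23 by omega))
        have := (key ⟨idx p, hlt⟩).1 (by rw [ptN_idx]; exact hp)
        simp only [Finset.mem_insert, Finset.mem_singleton, Fin.ext_iff] at this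
        rcases this with e | e | e
        exacts [Or.inl (Or.inl (Or.inr e.symm)), Or.inl (Or.inr e.symm), Or.inr e.symm]
    have hmem : (8388608 ||| (1 <<< a.val) ||| (1 <<< b.val) ||| (1 <<< c.val)) ∈ tetradMasks := by
      simp only [tetradMasks, List.mem_flatMap, List.mem_map, List.mem_filter, List.mem_range,
        Nat.blt_eq]
      exact ⟨a, a.2, b, ⟨b.2, hab⟩, c, ⟨c.2, hbc⟩, rfl⟩
    rw [← beqList_spec _ _ sexLit_heads] at hmem
    obtain ⟨l, hl, he⟩ := List.mem_map.1 hmem
    obtain ⟨hok, hfs⟩ := sexLit_spec hl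
    refine ⟨l, hl, sextet_eq hfs hS ?_ ht⟩
    cases l with
    | nil => exact absurd hfs.1 (by simp [famSet])
    | cons x l => exact mem_famSet.2 ⟨x, List.mem_cons_self, by rw [← hmask, ← he]; rfl⟩
  · rintro ⟨l, hl, rfl⟩
    exact (sexLit_spec hl).2

theorem sexLit_head_nodup : (sexLit.map fun l => l.headD 0).Nodup := by
  rw [beqList_spec _ _ sexLit_heads]
  exact tetradMasks_nodup

theorem sexLit_inj {l l' : List ℕ} (hl : l ∈ sexLit) (hl' : l' ∈ sexLit)
    (h : famSet l = famSet l') : l = l' := by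
  have key : ∀ l ∈ sexLit, (maskSet (l.headD 0) ∈ famSet l ∧ (none : GolayPt) ∈ maskSet (l.headD 0)) ∧
      l.headD 0 < 2 ^ 24 := by
    intro l hl
    obtain ⟨hok, hfs⟩ := sexLit_spec hl
    cases l with
    | nil => exact absurd hfs.1 (by simp [famSet])
    | cons x l =>
      refine ⟨⟨mem_famSet.2 ⟨x, List.mem_cons_self, rfl⟩, ?_⟩, (famOK_spec hok).2 x List.mem_cons_self⟩
      have hmem : x ∈ tetradMasks := by
        rw [← beqList_spec _ _ sexLit_heads]; exact List.mem_map.2 ⟨_, hl, rfl⟩
      simp only [tetradMasks, List.mem_flatMap, List.mem_map] at hmem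
      obtain ⟨a, -, b, -, c, -, rfl⟩ := hmem
      rw [none_mem_maskSet, List.headD_cons]
      rw [Nat.testBit_or, Nat.testBit_or, Nat.testBit_or, show Nat.testBit 8388608 23 = true by decide]
      simp
  obtain ⟨⟨hm, hn⟩, hlt⟩ := key l hl
  obtain ⟨⟨hm', hn'⟩, hlt'⟩ := key l' hl'
  have heq : maskSet (l.headD 0) = maskSet (l'.headD 0) := by
    by_contra hne
    rw [h] at hm
    exact Finset.disjoint_left.1 ((sextet_cover (sexLit_spec hl').2).2 _ hm _ hm' hne) hn hn'
  exact List.inj_on_of_nodup_map sexLit_head_nodup hl hl' (maskSet_inj hlt hlt' heq)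

theorem ncard_filter_sextets (P : Finset (Finset GolayPt) → Prop) (b : List ℕ → Bool)
    (h : ∀ l ∈ sexLit, b l = true ↔ P (famSet l)) :
    {S | S ∈ sextets ∧ P S}.ncard = (sexLit.filter b).length := by
  classical
  have hnd : (sexLit.filter b).Nodup := (List.Nodup.of_map _ sexLit_head_nodup).filter b
  rw [show {S | S ∈ sextets ∧ P S} =
      (((sexLit.filter b).toFinset.image famSet : Finset _) : Set (Finset (Finset GolayPt))) from ?_,
    Set.ncard_coe_finset, Finset.card_image_of_injOn, List.toFinset_card_of_nodup hnd]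
  · intro x hx y hy e
    simp only [List.coe_toFinset, Set.mem_ofPred_eq, List.mem_filter] at hx hy
    exact sexLit_inj hx.1 hy.1 e
  · ext S
    simp only [Set.mem_ofPred_eq, Finset.coe_image, Set.mem_image, List.coe_toFinset, List.mem_filter,
      mem_sextets]
    exact ⟨fun ⟨⟨l, hl, e⟩, hp⟩ => ⟨l, ⟨hl, (h l hl).2 (e ▸ hp)⟩, e⟩,
      fun ⟨l, ⟨hl, hb⟩, e⟩ => ⟨⟨l, hl, e⟩, e ▸ (h l hl).1 hb⟩⟩

/-! ### Trios -/

theorem triList_spec {l : List ℕ} (hl : l ∈ triList) : famOK l = true ∧ famSet l ∈ trios := by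
  have h := allF_iff.1 triList_ok l hl
  simp only [triEntryOK, Bool.and_eq_true, Nat.beq_eq, allF_iff, inF_eq, pcF_eq] at h
  obtain ⟨⟨⟨hok, hlen⟩, h8⟩, hpair⟩ := h
  refine ⟨hok, by rw [card_famSet hok, hlen], fun t ht => ?_, fun t ht u hu hne => ?_⟩
  · obtain ⟨m, hm, rfl⟩ := mem_famSet.1 ht
    exact maskSet_mem_octads (h8 m hm).1 (h8 m hm).2
  · obtain ⟨m, hm, rfl⟩ := mem_famSet.1 ht
    obtain ⟨k, hk, rfl⟩ := mem_famSet.1 hu
    have := pairsB_spec (fun a b => by show Nat.beq _ 0 = Nat.beq _ 0; rw [show Nat.land a b = Nat.land b a from Nat.land_comm a b]) hpair m hm k hk (fun e => hne (by rw [e]))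
    simp only [Nat.beq_eq] at this
    rw [Finset.disjoint_iff_inter_eq_empty, ← maskSet_and, show m &&& k = 0 from this]
    simp [maskSet]

theorem trio_cover {T : Finset (Finset GolayPt)} (hT : T ∈ trios) : T.biUnion id = Finset.univ := by
  refine Finset.eq_univ_of_card _ ?_
  rw [Finset.card_biUnion (t := id) (fun t ht u hu hne => hT.2.2 t ht u hu hne)]
  simp only [id]
  rw [Finset.sum_const_nat (fun t ht => card_octad (hT.2.1 t ht)), hT.1]
  decide

theorem mem_trios {T : Finset (Finset GolayPt)} : T ∈ trios ↔ ∃ l ∈ triList, famSet l = T := by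
  constructor
  · intro hT
    obtain ⟨t, ht, hn⟩ := Finset.mem_biUnion.1 (trio_cover hT ▸ Finset.mem_univ (none : GolayPt))
    simp only [id] at hn
    obtain ⟨m, hm, rfl⟩ := mem_octads'.1 (hT.2.1 t ht)
    have hkey : m ∈ triLit.map fun e => e.1 := by
      rw [beqList_spec _ _ triLit_keys, List.mem_filter]
      exact ⟨hm, none_mem_maskSet.1 hn⟩
    obtain ⟨e, he, rfl⟩ := List.mem_map.1 hkey
    obtain ⟨u, hu, hut⟩ : ∃ u ∈ T, u ≠ maskSet e.1 := by
      by_contra h
      push Not at h
      have := Finset.card_le_card (fun x hx => Finset.mem_singleton.2 (h x hx) : T ⊆ {maskSet e.1})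
      rw [hT.1, Finset.card_singleton] at this
      omega
    obtain ⟨k, hk, rfl⟩ := mem_octads'.1 (hT.2.1 u hu)
    have hd := hT.2.2 _ ht _ hu (Ne.symm hut)
    have hek : e.1 &&& k = 0 := by
      refine maskSet_inj (lt_of_le_of_lt Nat.and_le_left (octLit_lt hm)) (by norm_num) ?_
      rw [maskSet_and, Finset.disjoint_iff_inter_eq_empty.1 hd]
      simp [maskSet]
    have hc := allF_iff.1 (allF_iff.1 triLit_complete e he) k hk
    simp only [show Nat.land e.1 k = 0 from hek, Nat.beq_refl, Bool.not_true, Bool.false_or, Bool.or_eq_true] at hc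
    -- the third member
    have hin : e.1 < 2 ^ 24 ∧ k < 2 ^ 24 := ⟨octLit_lt hm, octLit_lt hk⟩
    have hthird : maskSet (16777215 ^^^ e.1 ^^^ k) ∈ T := by
      obtain ⟨v, hv, hve, hvk⟩ : ∃ v ∈ T, v ≠ maskSet e.1 ∧ v ≠ maskSet k := by
        by_contra h
        push Not at h
        have := Finset.card_le_card (fun x hx => by
          by_cases hx1 : x = maskSet e.1
          · simp [hx1]
          · simp [h x hx hx1] : T ⊆ {maskSet e.1, maskSet k})
        rw [hT.1] at this
        have := this.trans Finset.card_le_two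
        omega
      suffices v = maskSet (16777215 ^^^ e.1 ^^^ k) by rw [← this]; exact hv
      have hd1 := hT.2.2 _ hv _ ht hve
      have hd2 := hT.2.2 _ hv _ hu hvk
      ext p
      rw [mem_maskSet, Nat.testBit_xor, Nat.testBit_xor, testBit_full (idx_lt p)]
      have hcov := trio_cover hT ▸ Finset.mem_univ p
      obtain ⟨w, hw, hpw⟩ := Finset.mem_biUnion.1 hcov
      simp only [id] at hpw
      by_cases hp1 : p ∈ maskSet e.1
      · have hp2 : p ∉ maskSet k := Finset.disjoint_left.1 hd hp1
        rw [mem_maskSet] at hp1 hp2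
        simp only [Bool.not_eq_true] at hp2
        simp only [hp1, hp2]
        simp [Finset.disjoint_right.1 hd1 (mem_maskSet.2 hp1)]
      by_cases hp2 : p ∈ maskSet k
      · have := Finset.disjoint_right.1 hd2 hp2
        rw [mem_maskSet] at hp1 hp2
        simp only [Bool.not_eq_true] at hp1
        simp [hp1, hp2, this]
      · have hwv : w = v := by
          by_contra hwv
          have hwe : w ≠ maskSet e.1 := fun e' => hp1 (e' ▸ hpw)
          have hwk : w ≠ maskSet k := fun e' => hp2 (e' ▸ hpw)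
          have := Finset.card_le_card (fun x hx => by
            simp only [Finset.mem_insert, Finset.mem_singleton] at hx
            rcases hx with rfl | rfl | rfl | rfl <;> assumption :
            ({w, v, maskSet e.1, maskSet k} : Finset (Finset GolayPt)) ⊆ T)
          rw [hT.1, Finset.card_insert_of_notMem (by simp [hwv, hwe, hwk]),
            Finset.card_insert_of_notMem (by simp [hve, hvk]), Finset.card_pair (Ne.symm hut)] at this
          omega
        rw [mem_maskSet] at hp1 hp2
        simp only [Bool.not_eq_true] at hp1 hp2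
        simp [hp1, hp2, ← hwv, hpw]
    have hall : ∀ x, x ∈ e.2 → (x = k ∨ x = 16777215 ^^^ e.1 ^^^ k) →
        ∃ l ∈ triList, famSet l = T := by
      intro x hx hxk
      have hl : [e.1, x, 16777215 ^^^ e.1 ^^^ x] ∈ triList :=
        List.mem_flatMap.2 ⟨e, he, List.mem_map.2 ⟨x, hx, rfl⟩⟩
      refine ⟨_, hl, Finset.eq_of_subset_of_card_le ?_ (by rw [hT.1, (triList_spec hl).2.1])⟩
      intro s hs
      obtain ⟨y, hy, rfl⟩ := mem_famSet.1 hs
      have hback : 16777215 ^^^ e.1 ^^^ (16777215 ^^^ e.1 ^^^ k) = k := by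
        rw [← Nat.xor_assoc, Nat.xor_self, Nat.zero_xor]
      simp only [List.mem_cons, List.not_mem_nil, or_false] at hy
      rcases hxk with rfl | rfl <;> rcases hy with rfl | rfl | rfl
      all_goals first | assumption | (rw [hback]; assumption)
    rcases hc with hc | hc
    · exact hall k (memF_iff.1 hc) (Or.inl rfl)
    · exact hall _ (memF_iff.1 hc) (Or.inr rfl)
  · rintro ⟨l, hl, rfl⟩
    exact (triList_spec hl).2

theorem triList_inj {l l' : List ℕ} (hl : l ∈ triList) (hl' : l' ∈ triList)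
    (h : famSet l = famSet l') : l = l' := by
  obtain ⟨e, he, hm⟩ := List.mem_flatMap.1 hl
  obtain ⟨x, hx, rfl⟩ := List.mem_map.1 hm
  obtain ⟨e', he', hm'⟩ := List.mem_flatMap.1 hl'
  obtain ⟨x', hx', rfl⟩ := List.mem_map.1 hm'
  obtain ⟨hok, hT⟩ := triList_spec hl'
  have key : ∀ e ∈ triLit, e.1 ∈ octLit ∧ (none : GolayPt) ∈ maskSet e.1 := by
    intro e he
    have : e.1 ∈ triLit.map fun e => e.1 := List.mem_map.2 ⟨e, he, rfl⟩
    rw [beqList_spec _ _ triLit_keys, List.mem_filter] at this
    exact ⟨this.1, none_mem_maskSet.2 this.2⟩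
  have h1 : maskSet e.1 = maskSet e'.1 := by
    by_contra hne
    refine Finset.disjoint_left.1 (hT.2.2 _ ?_ _ ?_ hne) (key e he).2 (key e' he').2
    · rw [← h]; exact mem_famSet.2 ⟨e.1, by simp, rfl⟩
    · exact mem_famSet.2 ⟨e'.1, by simp, rfl⟩
  have hee : e = e' := by
    refine List.inj_on_of_nodup_map (f := fun e : ℕ × List ℕ => e.1) ?_ he he'
      (maskSet_inj (octLit_lt (key e he).1) (octLit_lt (key e' he').1) h1)
    rw [beqList_spec _ _ triLit_keys]
    exact octLit_nodup.filter _
  subst hee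
  have hxm : maskSet x ∈ famSet [e.1, x', 16777215 ^^^ e.1 ^^^ x'] := by
    rw [← h]; exact mem_famSet.2 ⟨x, by simp, rfl⟩
  obtain ⟨y, hy, hyx⟩ := mem_famSet.1 hxm
  obtain ⟨hnd, hlt⟩ := famOK_spec (triList_spec hl).1
  rw [maskSet_inj ((famOK_spec hok).2 y hy) (hlt x (by simp)) hyx] at hy
  simp only [List.mem_cons, List.not_mem_nil, or_false] at hy
  rcases hy with hy | hy | hy
  · simp [hy] at hnd
  · rw [hy]
  · by_cases hxx : x' = x
    · rw [hxx]
    have hsep := pairsB_spec (f := fun a b => !(Nat.beq a b) && !(Nat.beq (16777215 ^^^ e.1 ^^^ a) b))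
      (fun a b => by
        rw [Bool.eq_iff_iff]
        simp only [Bool.and_eq_true, Bool.not_eq_true', ← Bool.not_eq_true, Nat.beq_eq]
        have hflip : ∀ u v, 16777215 ^^^ e.1 ^^^ u = v → 16777215 ^^^ e.1 ^^^ v = u := fun u v huv => by
          rw [← huv, ← Nat.xor_assoc, Nat.xor_self, Nat.zero_xor]
        exact ⟨fun hh => ⟨fun k => hh.1 k.symm, fun k => hh.2 (hflip _ _ k)⟩,
          fun hh => ⟨fun k => hh.1 k.symm, fun k => hh.2 (hflip _ _ k)⟩⟩)
      (allF_iff.1 triLit_sep e he) x' hx' x hx hxx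
    simp [hy] at hsep

theorem triList_nodup : triList.Nodup := by
  rw [triList, List.nodup_flatMap]
  constructor
  · intro e he
    refine List.Nodup.map_on (fun a _ b _ hh => by simpa using (List.cons.injEq _ _ _ _ ▸ hh :)) ?_
    have := allF_iff.1 triLit_sep e he
    exact pairsB_nodup this
  · have hk : (triLit.map fun e => e.1).Nodup := by
      rw [beqList_spec _ _ triLit_keys]; exact octLit_nodup.filter _
    rw [List.nodup_iff_pairwise_ne, List.pairwise_map] at hk
    refine hk.imp fun {a b} hab => ?_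
    intro l hla hlb
    obtain ⟨x, -, rfl⟩ := List.mem_map.1 hla
    obtain ⟨y, -, hy⟩ := List.mem_map.1 hlb
    exact hab (by simpa using (List.cons.inj hy).1.symm)
where
  pairsB_nodup {f : ℕ → ℕ} : ∀ {l : List ℕ},
      pairsB (fun a b => !(Nat.beq a b) && !(Nat.beq (f a) b)) l = true → l.Nodup := by
    intro l
    induction l with
    | nil => intro _; exact List.nodup_nil
    | cons a l ih =>
      intro h
      simp only [pairsB, Bool.and_eq_true, allF_iff, Bool.not_eq_true'] at h
      exact List.nodup_cons.2 ⟨fun ha => by simpa using (h.1 a ha).1, ih h.2⟩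

theorem ncard_filter_trios (P : Finset (Finset GolayPt) → Prop) (b : List ℕ → Bool)
    (h : ∀ l ∈ triList, b l = true ↔ P (famSet l)) :
    {T | T ∈ trios ∧ P T}.ncard = (triList.filter b).length := by
  classical
  have hnd : (triList.filter b).Nodup := triList_nodup.filter b
  rw [show {T | T ∈ trios ∧ P T} =
      (((triList.filter b).toFinset.image famSet : Finset _) : Set (Finset (Finset GolayPt))) from ?_,
    Set.ncard_coe_finset, Finset.card_image_of_injOn, List.toFinset_card_of_nodup hnd]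
  · intro x hx y hy e
    simp only [List.coe_toFinset, Set.mem_ofPred_eq, List.mem_filter] at hx hy
    exact triList_inj hx.1 hy.1 e
  · ext S
    simp only [Set.mem_ofPred_eq, Finset.coe_image, Set.mem_image, List.coe_toFinset, List.mem_filter,
      mem_trios]
    exact ⟨fun ⟨⟨l, hl, e⟩, hp⟩ => ⟨l, ⟨hl, (h l hl).2 (e ▸ hp)⟩, e⟩,
      fun ⟨l, ⟨hl, hb⟩, e⟩ => ⟨⟨l, hl, e⟩, e ▸ (h l hl).1 hb⟩⟩

end Cfsg.Agent.Golay.Local
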