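import Cfsg.Agent.Lib.Golay.Local.ClassChecks
import Cfsg.Agent.Lib.Golay.Local.Families

/-! Prunes and leaves of the centraliser and normaliser searches. -/

namespace Cfsg.Agent.Golay.Local

open Cfsg Cfsg.Agent.PermCert Cfsg.Agent.Golay.Cert

/-- Commuting with the fixed-point-free involution and fixing the last point. -/
def pr2B (F : List ℕ) (f : ℕ → ℕ) : Bool :=
  prConj rep2B.1 rep2B.1 F f && (!(memF 23 F) || Nat.beq (f 23) 23)

/-- Such an element sifts into the listed centraliser. -/
def leafC2B (e : ℕ) : Bool :=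
  !(sameF (cmpF e rep2B.1) (cmpF rep2B.1 e)) || sift 5 24 cen2BLevels e

/-- Powers of the element of order seven. -/
def pow7 : List ℕ :=
  let x := rep7.1
  [x, cmpF x x, cmpF x (cmpF x x), cmpF x (cmpF x (cmpF x x)), cmpF x (cmpF x (cmpF x (cmpF x x))),
    cmpF x (cmpF x (cmpF x (cmpF x (cmpF x x))))]

/-- Normalising the subgroup of order seven. -/
def pr7 (F : List ℕ) (f : ℕ → ℕ) : Bool := pow7 |> anyF fun y => prConj rep7.1 y F f

/-- Such an element is listed. -/
def leaf7 (e : ℕ) : Bool :=
  !(anyF (fun y => sameF (cmpF e rep7.1) (cmpF y e)) pow7) || anyF (fun n => sameF e n.1) norm7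

/-- An involution commuting with `x`, on a prefix. -/
def prInv (x : ℕ) (F : List ℕ) (f : ℕ → ℕ) : Bool :=
  prConj x x F f && (F |> allF fun b => !(memF (f b) F) || Nat.beq (f (f b)) b)

/-- A commuting involution has the expected number of fixed points. -/
def leafInv (x n : ℕ) (e : ℕ) : Bool :=
  !(sameF (cmpF e x) (cmpF x e) && sameF (cmpF e e) idC && !(sameF e idC)) || Nat.beq (pcF (fixF e)) n

/-- Fixing a set of positions. -/
def prFix (m : ℕ) (F : List ℕ) (f : ℕ → ℕ) : Bool := F |> allF fun b => !(bitB m b) || Nat.beq (f b) b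

/-- Membership in a list of codes. -/
def leafList (l : List Elt) (e : ℕ) : Bool := anyF (fun n => sameF e n.1) l

end Cfsg.Agent.Golay.Local
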