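import Cfsg.Agent.Lib.Golay.Local.ClassChecks
import Cfsg.Agent.Lib.Golay.Mathieu

/-!
Classes of involutions, of elements of order three and of subgroups of order seven in the group of
the code.
-/

namespace Cfsg.Agent.Golay.Local

open Cfsg Cfsg.Agent.PermCert Cfsg.Agent.Golay.Cert
open scoped Pointwise

/-- An involution fixing an octad pointwise. -/
noncomputable abbrev R2A : Equiv.Perm GolayPt := permOf rep2A
/-- A fixed-point-free involution. -/
noncomputable abbrev R2B : Equiv.Perm GolayPt := permOf rep2B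
/-- An element of order three with six fixed points. -/
noncomputable abbrev R3A : Equiv.Perm GolayPt := permOf rep3A
/-- A fixed-point-free element of order three. -/
noncomputable abbrev R3B : Equiv.Perm GolayPt := permOf rep3B
/-- An element of order seven. -/
noncomputable abbrev R7 : Equiv.Perm GolayPt := permOf rep7

theorem reps_spec :
    (validElt 5 24 rep2A = true ∧ R2A ∈ M24) ∧ (validElt 5 24 rep2B = true ∧ R2B ∈ M24) ∧
      (validElt 5 24 rep3A = true ∧ R3A ∈ M24) ∧ (validElt 5 24 rep3B = true ∧ R3B ∈ M24) ∧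
      (validElt 5 24 rep7 = true ∧ R7 ∈ M24) := by
  have h := allF_iff.1 reps_ok
  exact ⟨eltOK_spec (h _ (by simp)), eltOK_spec (h _ (by simp)), eltOK_spec (h _ (by simp)),
    eltOK_spec (h _ (by simp)), eltOK_spec (h _ (by simp))⟩

theorem code_R2A : Code rep2A.1 R2A := code_permOf reps_spec.1.1
theorem code_R2B : Code rep2B.1 R2B := code_permOf reps_spec.2.1.1
theorem code_R3A : Code rep3A.1 R3A := code_permOf reps_spec.2.2.1.1
theorem code_R3B : Code rep3B.1 R3B := code_permOf reps_spec.2.2.2.1.1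
theorem code_R7 : Code rep7.1 R7 := code_permOf reps_spec.2.2.2.2.1

theorem facts :
    (R2A ^ 2 = 1 ∧ R2A ≠ 1 ∧ pcF (fixF rep2A.1) = 8 ∧ (Finset.univ.filter fun p => R2A p = p) ∈ octads) ∧
    (R2B ^ 2 = 1 ∧ R2B ≠ 1 ∧ ∀ p, R2B p ≠ p) ∧
    (R3A ^ 3 = 1 ∧ R3A ≠ 1 ∧ (Finset.univ.filter fun p => R3A p = p).card = 6) ∧
    (R3B ^ 3 = 1 ∧ R3B ≠ 1 ∧ ∀ p, R3B p ≠ p) := by
  have h := rep_facts
  simp only [Bool.and_eq_true, Bool.not_eq_true', Nat.beq_eq, Nat.blt_eq] at h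
  obtain ⟨⟨⟨⟨⟨⟨⟨a1, a2⟩, a3⟩, a4⟩, a5⟩, ⟨b1, b2⟩, b3⟩, ⟨c1, c2⟩, c3⟩, ⟨d1, d2⟩, d3⟩ := h
  have sq : ∀ {e : ℕ} {σ : Equiv.Perm GolayPt}, Code e σ → sameF (cmpF e e) idC = true → σ ^ 2 = 1 :=
    fun he hh => (sameF_iff he.pow_two code_idC).1 hh
  have cu : ∀ {e : ℕ} {σ : Equiv.Perm GolayPt}, Code e σ → sameF (cmpF e (cmpF e e)) idC = true →
      σ ^ 3 = 1 := fun he hh => (sameF_iff he.pow_three code_idC).1 hh
  have ne : ∀ {e : ℕ} {σ : Equiv.Perm GolayPt}, Code e σ → sameF e idC = false → σ ≠ 1 :=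
    fun he hh hs => by rw [(sameF_iff he code_idC).2 hs] at hh; simp at hh
  have nofix : ∀ {e : ℕ} {σ : Equiv.Perm GolayPt}, Code e σ → fixF e = 0 → ∀ p, σ p ≠ p := by
    intro e σ he hh p hp
    have : p ∈ maskSet (fixF e) := he.fixed ▸ Finset.mem_filter.2 ⟨Finset.mem_univ p, hp⟩
    simp [hh, maskSet] at this
  refine ⟨⟨sq code_R2A a1, ne code_R2A a2, a3, ?_⟩, ⟨sq code_R2B b1, ne code_R2B b2, nofix code_R2B b3⟩,
    ⟨cu code_R3A c1, ne code_R3A c2, ?_⟩, ⟨cu code_R3B d1, ne code_R3B d2, nofix code_R3B d3⟩⟩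
  · rw [code_R2A.fixed]
    exact maskSet_mem_octads' (by rw [← inF_eq]; exact a4) (by rw [← pcF_eq]; exact a3)
  · rw [code_R3A.fixed, card_maskSet, ← pcF_eq]; exact c3
where
  maskSet_mem_octads' {m : ℕ} (h1 : inCode m = true) (h2 : popCount m 24 = 8) : maskSet m ∈ octads :=
    mem_octads.2 ⟨m, mem_octadList.2 ⟨inCode_iff.1 h1, h2⟩, rfl⟩

theorem factorization_M24 :
    Nat.factorization 244823040 2 = 10 ∧ Nat.factorization 244823040 3 = 3 ∧
      Nat.factorization 244823040 7 = 1 := by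
  have key : ∀ p a r : ℕ, p.Prime → 244823040 = p ^ a * r → ¬ p ∣ r →
      Nat.factorization 244823040 p = a := by
    intro p a r hp he hr
    have hr0 : r ≠ 0 := by rintro rfl; simp at he
    rw [he, Nat.factorization_mul (pow_ne_zero _ hp.ne_zero) hr0, Nat.Prime.factorization_pow hp]
    simp [Nat.factorization_eq_zero_of_not_dvd hr]
  exact ⟨key 2 10 239085 Nat.prime_two (by norm_num) (by norm_num),
    key 3 3 9067520 Nat.prime_three (by norm_num) (by norm_num),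
    key 7 1 34974720 (by norm_num) (by norm_num) (by norm_num)⟩

theorem class2 {σ : Equiv.Perm GolayPt} (hσ : σ ∈ M24) (h2 : orderOf σ = 2) :
    ∃ k ∈ M24, σ = k * R2A * k⁻¹ ∨ σ = k * R2B * k⁻¹ := by
  haveI : Fact (Nat.Prime 2) := ⟨Nat.prime_two⟩
  have ho := syl_orders
  simp only [Bool.and_eq_true, Nat.beq_eq] at ho
  have hX : IsPGroup 2 ↥(Subgroup.zpowers (⟨σ, hσ⟩ : M24)) :=
    IsPGroup.of_card (n := 1) (by rw [Nat.card_zpowers, Subgroup.orderOf_mk, h2, pow_one])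
  obtain ⟨k, hk, hmem⟩ := exists_conj_into (n := 10) syl2_elts syl2_cert
    (by rw [ho.1.1.1.1.1]; norm_num) factorization_M24.1 _ hX
  have hs := hmem _ (Subgroup.mem_zpowers _)
  obtain ⟨e, he, hleaf⟩ := enum_cert syl2_cert ho.1.1.2 search2_ok hs
  have h2' : (k * σ * k⁻¹) ^ 2 = 1 := by
    rw [conj_pow, ← h2, pow_orderOf_eq_one]; simp
  have h1 : k * σ * k⁻¹ ≠ 1 := fun h => by
    rw [mul_inv_eq_one, mul_eq_left] at h; simp [h] at h2
  simp only [leaf2, Bool.or_eq_true, Bool.not_eq_true', anyF_iff, Bool.and_eq_true] at hleaf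
  rcases hleaf with (hf | hid) | ⟨t, ht, -, hsame⟩
  · rw [(sameF_iff he.pow_two code_idC).2 h2'] at hf; simp at hf
  · exact absurd ((sameF_iff he code_idC).1 hid) h1
  · have hc := conjs_ok
    simp only [Bool.and_eq_true, allF_iff] at hc
    obtain ⟨hv, hM⟩ := eltOK_spec (hc.1 t ht)
    have key : ∀ R : Equiv.Perm GolayPt, k * σ * k⁻¹ = permOf t.2.2 * R * (permOf t.2.2)⁻¹ →
        σ = k⁻¹ * permOf t.2.2 * R * (k⁻¹ * permOf t.2.2)⁻¹ := fun R h => by
      have : σ = k⁻¹ * (k * σ * k⁻¹) * k := by group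
      rw [this, h]; group
    refine ⟨k⁻¹ * permOf t.2.2, mul_mem (inv_mem hk) hM, ?_⟩
    cases ht1 : t.2.1 <;> rw [ht1] at hsame <;> simp only [cond_false, cond_true] at hsame
    · exact Or.inr (key _ ((sameF_iff he (code_R2B.conj hv)).1 hsame))
    · exact Or.inl (key _ ((sameF_iff he (code_R2A.conj hv)).1 hsame))

theorem class3 {σ : Equiv.Perm GolayPt} (hσ : σ ∈ M24) (h3 : orderOf σ = 3) :
    ∃ k ∈ M24, σ = k * R3A * k⁻¹ ∨ σ = k * R3B * k⁻¹ := by
  haveI : Fact (Nat.Prime 3) := ⟨Nat.prime_three⟩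
  have ho := syl_orders
  simp only [Bool.and_eq_true, Nat.beq_eq] at ho
  have hX : IsPGroup 3 ↥(Subgroup.zpowers (⟨σ, hσ⟩ : M24)) :=
    IsPGroup.of_card (n := 1) (by rw [Nat.card_zpowers, Subgroup.orderOf_mk, h3, pow_one])
  obtain ⟨k, hk, hmem⟩ := exists_conj_into (n := 3) syl3_elts syl3_cert
    (by rw [ho.1.1.1.1.2]; norm_num) factorization_M24.2.1 _ hX
  have hs := hmem _ (Subgroup.mem_zpowers _)
  obtain ⟨e, he, hleaf⟩ := enum_cert syl3_cert ho.1.2 search3_ok hs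
  have h3' : (k * σ * k⁻¹) ^ 3 = 1 := by
    rw [conj_pow, ← h3, pow_orderOf_eq_one]; simp
  have h1 : k * σ * k⁻¹ ≠ 1 := fun h => by
    rw [mul_inv_eq_one, mul_eq_left] at h; simp [h] at h3
  simp only [leaf3, Bool.or_eq_true, Bool.not_eq_true', anyF_iff, Bool.and_eq_true] at hleaf
  rcases hleaf with (hf | hid) | ⟨t, ht, -, hsame⟩
  · rw [(sameF_iff he.pow_three code_idC).2 h3'] at hf; simp at hf
  · exact absurd ((sameF_iff he code_idC).1 hid) h1
  · have hc := conjs_ok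
    simp only [Bool.and_eq_true, allF_iff] at hc
    obtain ⟨hv, hM⟩ := eltOK_spec (hc.2 t ht)
    have key : ∀ R : Equiv.Perm GolayPt, k * σ * k⁻¹ = permOf t.2.2 * R * (permOf t.2.2)⁻¹ →
        σ = k⁻¹ * permOf t.2.2 * R * (k⁻¹ * permOf t.2.2)⁻¹ := fun R h => by
      have : σ = k⁻¹ * (k * σ * k⁻¹) * k := by group
      rw [this, h]; group
    refine ⟨k⁻¹ * permOf t.2.2, mul_mem (inv_mem hk) hM, ?_⟩
    cases ht1 : t.2.1 <;> rw [ht1] at hsame <;> simp only [cond_false, cond_true] at hsame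
    · exact Or.inr (key _ ((sameF_iff he (code_R3B.conj hv)).1 hsame))
    · exact Or.inl (key _ ((sameF_iff he (code_R3A.conj hv)).1 hsame))

theorem conj_fixed_card (k σ : Equiv.Perm GolayPt) :
    (Finset.univ.filter fun p => (k * σ * k⁻¹) p = p).card =
      (Finset.univ.filter fun p => σ p = p).card := by
  rw [fixed_conj, Finset.card_smul_finset]

theorem card_fixed_R2A : (Finset.univ.filter fun p => R2A p = p).card = 8 :=
  card_octad facts.1.2.2.2

theorem card_fixed_of_free {σ : Equiv.Perm GolayPt} (h : ∀ p, σ p ≠ p) :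
    (Finset.univ.filter fun p => σ p = p).card = 0 := by
  simp [h]

theorem free_of_card {σ : Equiv.Perm GolayPt} (h : (Finset.univ.filter fun p => σ p = p).card = 0) :
    ∀ p, σ p ≠ p := fun p hp => by
  rw [Finset.card_eq_zero] at h
  exact Finset.notMem_empty p (h ▸ Finset.mem_filter.2 ⟨Finset.mem_univ p, hp⟩)

/-- An involution with eight fixed points is conjugate to the first representative. -/
theorem class2A {σ : Equiv.Perm GolayPt} (hσ : σ ∈ M24) (h2 : orderOf σ = 2)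
    (h8 : (Finset.univ.filter fun p => σ p = p).card ≠ 0) : ∃ k ∈ M24, σ = k * R2A * k⁻¹ := by
  obtain ⟨k, hk, h | h⟩ := class2 hσ h2
  · exact ⟨k, hk, h⟩
  · exact absurd (by rw [h, conj_fixed_card, card_fixed_of_free facts.2.1.2.2]) h8

/-- A fixed-point-free involution is conjugate to the second representative. -/
theorem class2B {σ : Equiv.Perm GolayPt} (hσ : σ ∈ M24) (h2 : orderOf σ = 2)
    (h0 : (Finset.univ.filter fun p => σ p = p).card = 0) : ∃ k ∈ M24, σ = k * R2B * k⁻¹ := by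
  obtain ⟨k, hk, h | h⟩ := class2 hσ h2
  · rw [h, conj_fixed_card, card_fixed_R2A] at h0; simp at h0
  · exact ⟨k, hk, h⟩

theorem class3A {σ : Equiv.Perm GolayPt} (hσ : σ ∈ M24) (h3 : orderOf σ = 3)
    (h6 : (Finset.univ.filter fun p => σ p = p).card ≠ 0) : ∃ k ∈ M24, σ = k * R3A * k⁻¹ := by
  obtain ⟨k, hk, h | h⟩ := class3 hσ h3
  · exact ⟨k, hk, h⟩
  · exact absurd (by rw [h, conj_fixed_card, card_fixed_of_free facts.2.2.2.2.2]) h6

theorem class3B {σ : Equiv.Perm GolayPt} (hσ : σ ∈ M24) (h3 : orderOf σ = 3)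
    (h0 : (Finset.univ.filter fun p => σ p = p).card = 0) : ∃ k ∈ M24, σ = k * R3B * k⁻¹ := by
  obtain ⟨k, hk, h | h⟩ := class3 hσ h3
  · rw [h, conj_fixed_card, facts.2.2.1.2.2] at h0; simp at h0
  · exact ⟨k, hk, h⟩

theorem orderOf_R2A : orderOf R2A = 2 := orderOf_eq_prime facts.1.1 facts.1.2.1
theorem orderOf_R2B : orderOf R2B = 2 := orderOf_eq_prime facts.2.1.1 facts.2.1.2.1
theorem orderOf_R3A : orderOf R3A = 3 := by
  haveI : Fact (Nat.Prime 3) := ⟨Nat.prime_three⟩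
  exact orderOf_eq_prime facts.2.2.1.1 facts.2.2.1.2.1
theorem orderOf_R3B : orderOf R3B = 3 := by
  haveI : Fact (Nat.Prime 3) := ⟨Nat.prime_three⟩
  exact orderOf_eq_prime facts.2.2.2.1 facts.2.2.2.2.1

end Cfsg.Agent.Golay.Local
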