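import Cfsg.Agent.Lib.Golay.Local.CentChecks
import Cfsg.Agent.Lib.Golay.Local.Classes

/-!
The centraliser of a fixed-point-free involution, the normaliser of a subgroup of order seven,
involutions centralising elements of order three, and pointwise stabilisers of six points.
-/

namespace Cfsg.Agent.Golay.Local

open Cfsg Cfsg.Agent.PermCert Cfsg.Agent.Golay.Cert
open scoped Pointwise

theorem leaf_false_iff {a b : ℕ} {σ τ : Equiv.Perm GolayPt} (ha : Code a σ) (hb : Code b τ) :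
    sameF a b = false ↔ σ ≠ τ := by
  rw [Bool.eq_false_iff, ne_eq, sameF_iff ha hb]

/-- The verified centraliser of the fixed-point-free involution. -/
noncomputable def C2B : Subgroup (Equiv.Perm GolayPt) := genPerm cen2BGens

theorem cen2B_facts :
    allF eltOK₂ cen2BGens = true ∧ keysOK cen2BLevels = true ∧ fullOK 0 cen2BLevels 1 = true ∧
      certOrder cen2BLevels = 7680 ∧
      (∀ g ∈ cen2BGens, permOf g * R2B = R2B * permOf g ∧ permOf g • famSet cen2BSext = famSet cen2BSext) ∧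
      R2B • famSet cen2BSext = famSet cen2BSext ∧ famSet cen2BSext ∈ sextets := by
  have h := cen2B_gens
  simp only [Bool.and_eq_true, Nat.beq_eq] at h
  obtain ⟨⟨⟨⟨⟨⟨⟨h1, h2⟩, h3⟩, h4⟩, h5⟩, h6⟩, h7⟩, h8⟩ := h
  refine ⟨h1, h2, h3, h4, fun g hg => ?_, (fixesFam_iff reps_spec.2.1.1 h6).1 h7, ?_⟩
  · have hv := (eltOK_spec (allF_iff.1 h1 g hg)).1
    have h5' := allF_iff.1 h5 g hg
    simp only [Bool.and_eq_true] at h5'
    exact ⟨(sameF_iff ((code_permOf hv).cmp code_R2B) (code_R2B.cmp (code_permOf hv))).1 h5'.1,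
      (fixesFam_iff hv h6).1 h5'.2⟩
  · obtain ⟨l, hl, hs⟩ := anyF_iff.1 h8
    exact mem_sextets.2 ⟨l, hl, famSet_congr hs⟩

theorem mem_C2B_imp {c : Equiv.Perm GolayPt} (hc : c ∈ C2B) :
    c ∈ M24 ∧ c * R2B = R2B * c ∧ c • famSet cen2BSext = famSet cen2BSext := by
  refine ⟨genPerm_le cen2B_facts.1 hc, ?_, ?_⟩
  · have := genPerm_induction (gens := cen2BGens)
      (Subgroup.centralizer ({R2B} : Set (Equiv.Perm GolayPt))) fun e he =>
        Subgroup.mem_centralizer_singleton_iff.2 (cen2B_facts.2.2.2.2.1 e he).1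
    exact Subgroup.mem_centralizer_singleton_iff.1 (this hc)
  · exact genPerm_induction (gens := cen2BGens)
      (MulAction.stabilizer (Equiv.Perm GolayPt) (famSet cen2BSext))
      (fun e he => (cen2B_facts.2.2.2.2.1 e he).2) hc

theorem C2B_transitive (p : GolayPt) : ∃ c ∈ C2B, c none = p := by
  obtain ⟨g, hg, he⟩ := stabCert_reach cen2B_cert cen2B_facts.2.1 cen2B_facts.2.2.1 [p] rfl
    (List.nodup_singleton p)
  refine ⟨g, hg, ?_⟩
  have hb : (cen2BLevels.map fun l => pt (Fin.ofNat 24 l.1)).take 1 = [(none : GolayPt)] := by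
    decide +kernel
  rw [hb] at he
  simpa using he

theorem C2B_upper {c : Equiv.Perm GolayPt} (hc : c ∈ M24) (hcomm : c * R2B = R2B * c) : c ∈ C2B := by
  obtain ⟨k, hk, hk0⟩ := C2B_transitive (c none)
  obtain ⟨hkM, hkc, -⟩ := mem_C2B_imp hk
  set τ := k⁻¹ * c with hτ
  have hτc : τ * R2B = R2B * τ := by
    have h1 : R2B * k⁻¹ = k⁻¹ * R2B := by
      rw [eq_inv_mul_iff_mul_eq, ← mul_assoc, hkc, mul_inv_cancel_right]
    rw [hτ, mul_assoc, hcomm, ← mul_assoc, ← h1, mul_assoc]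
  have hτ0 : τ none = none := by
    rw [hτ, Equiv.Perm.mul_apply, ← hk0]; simp
  have hb := chains_bases
  simp only [Bool.and_eq_true] at hb
  obtain ⟨e, he, hleaf⟩ := search_chain chains_gens.1.2 invBChain_cert hb.1.1.2 cen2B_search
    (mul_mem (inv_mem hkM) hc : τ ∈ M24) fun F f hF hf => by
      simp only [pr2B, Bool.and_eq_true, Bool.or_eq_true, Bool.not_eq_true', Nat.beq_eq]
      refine ⟨prConj_spec code_R2B code_R2B hτc hF hf, ?_⟩
      by_cases hm : (23 : ℕ) ∈ F
      · right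
        rw [hf 23 hm, natImg, show ptN 23 = none from rfl, hτ0]
        rfl
      · left
        rw [Bool.eq_false_iff]
        exact fun h => hm (memF_iff.1 h)
  simp only [leafC2B, Bool.or_eq_true, Bool.not_eq_true'] at hleaf
  rcases hleaf with h | h
  · exact absurd hτc ((leaf_false_iff (he.cmp code_R2B) (code_R2B.cmp he)).1 h)
  · have : τ ∈ C2B := mem_genPerm_of_sift cen2B_cert he h
    simpa [hτ] using mul_mem hk this

theorem mem_C2B_iff {c : Equiv.Perm GolayPt} : c ∈ C2B ↔ c ∈ M24 ∧ c * R2B = R2B * c :=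
  ⟨fun h => ⟨(mem_C2B_imp h).1, (mem_C2B_imp h).2.1⟩, fun h => C2B_upper h.1 h.2⟩

theorem card_C2B : Nat.card C2B = 7680 := (card_genPerm cen2B_cert).trans cen2B_facts.2.2.2.1

/-! ### Involutions centralising elements of order three -/

theorem prInv_spec {x : ℕ} {X σ : Equiv.Perm GolayPt} (hx : Code x X) (hc : σ * X = X * σ)
    (h2 : σ * σ = 1) {F : List ℕ} {f : ℕ → ℕ} (hF : ∀ b ∈ F, b < 24)
    (hf : ∀ b ∈ F, f b = natImg σ b) : prInv x F f = true := by
  simp only [prInv, Bool.and_eq_true, allF_iff, Bool.or_eq_true, Bool.not_eq_true', Nat.beq_eq]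
  refine ⟨prConj_spec hx hx hc hF hf, fun b hb => ?_⟩
  by_cases hm : f b ∈ F
  · right
    rw [hf _ hm, natImg, hf b hb, natImg, ptN_idx]
    have := DFunLike.congr_fun h2 (ptN b)
    simp only [Equiv.Perm.mul_apply, Equiv.Perm.coe_one, id_eq] at this
    rw [this, idx_ptN (hF b hb)]
  · left
    rw [Bool.eq_false_iff]
    exact fun h => hm (memF_iff.1 h)

theorem inv_commuting {x n : ℕ} {gens : List Elt} {derived : List (Elt × List ℕ)} {L : List CLevel}
    {X s : Equiv.Perm GolayPt} (hx : Code x X) (hg : gens = m24Gens)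
    (hc : checkCert 5 24 gens derived L = true) (hb : basesOK L = true)
    (hsearch : searchB (prInv x) (leafInv x n) L [] idC = true) (hs : s ∈ M24) (hcomm : s * X = X * s)
    (h2 : orderOf s = 2) : (Finset.univ.filter fun p => s p = p).card = n := by
  have hs2 : s * s = 1 := by rw [← pow_two, ← h2, pow_orderOf_eq_one]
  obtain ⟨e, he, hleaf⟩ := search_chain hg hc hb hsearch hs fun F f hF hf => prInv_spec hx hcomm hs2 hF hf
  simp only [leafInv, Bool.or_eq_true, Bool.not_eq_true', Bool.and_eq_false_iff, Bool.not_eq_false', Nat.beq_eq] at hleaf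
  rcases hleaf with ((h | h) | h) | h
  · exact absurd hcomm ((leaf_false_iff (he.cmp hx) (hx.cmp he)).1 h)
  · exact absurd hs2 ((leaf_false_iff (he.cmp he) code_idC).1 h)
  · rw [(sameF_iff he code_idC).1 h] at h2; simp at h2
  · rw [he.fixed, card_maskSet, ← pcF_eq]; exact h

/-! ### The normaliser of a subgroup of order seven -/

theorem norm7_facts :
    allF eltOK₂ norm7 = true ∧ distinctCodes norm7 = true ∧ norm7.length = 126 ∧
      (∀ g ∈ norm7, (∃ i, 1 ≤ i ∧ i ≤ 6 ∧ permOf g * R7 = R7 ^ i * permOf g) ∧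
        permOf g • famSet trio7 = famSet trio7) ∧
      famSet trio7 ∈ trios ∧
      (norm7.filter fun g => sameF (cmpF g.1 rep7.1) (cmpF rep7.1 g.1)).length = 42 ∧
      R7 ^ 7 = 1 ∧ R7 ≠ 1 ∧
      (permOf cen7a ∈ M24 ∧ permOf cen7a * R7 = R7 * permOf cen7a) ∧
      (permOf cen7b ∈ M24 ∧ permOf cen7b * R7 = R7 * permOf cen7b) ∧
      permOf cen7a * permOf cen7b ≠ permOf cen7b * permOf cen7a := by
  have h := norm7_list
  simp only [Bool.and_eq_true, Nat.beq_eq, Bool.not_eq_true'] at h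
  obtain ⟨⟨⟨⟨⟨⟨⟨h1, h2⟩, h3⟩, h4⟩, h5⟩, h6⟩, h7⟩, ⟨⟨⟨h8, h9⟩, h10⟩, h11⟩, h12⟩ := h
  have hr := allF_iff.1 reps_ok
  obtain ⟨ha, haM⟩ := eltOK_spec (hr cen7a (by simp))
  obtain ⟨hb, hbM⟩ := eltOK_spec (hr cen7b (by simp))
  have c2 := code_R7.cmp code_R7
  have c3 := code_R7.cmp c2
  have c4 := code_R7.cmp c3
  have c5 := code_R7.cmp c4
  have c6 := code_R7.cmp c5
  refine ⟨h1, h2, h3, fun g hg => ?_, ?_, h7, ?_, (leaf_false_iff code_R7 code_idC).1 h9,
    ⟨haM, (sameF_iff ((code_permOf ha).cmp code_R7) (code_R7.cmp (code_permOf ha))).1 h10⟩,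
    ⟨hbM, (sameF_iff ((code_permOf hb).cmp code_R7) (code_R7.cmp (code_permOf hb))).1 h11⟩,
    (leaf_false_iff ((code_permOf ha).cmp (code_permOf hb)) ((code_permOf hb).cmp (code_permOf ha))).1 h12⟩
  · have hv := code_permOf (eltOK_spec (allF_iff.1 h1 g hg)).1
    have h4' := allF_iff.1 h4 g hg
    simp only [Bool.and_eq_true, anyF_iff] at h4'
    refine ⟨?_, (fixesFam_iff (eltOK_spec (allF_iff.1 h1 g hg)).1 h5).1 h4'.2⟩
    obtain ⟨y, hy, hs⟩ := h4'.1
    simp only [pow7, List.mem_cons, List.not_mem_nil, or_false] at hy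
    rcases hy with rfl | rfl | rfl | rfl | rfl | rfl
    · exact ⟨1, le_rfl, by norm_num, by rw [pow_one]; exact (sameF_iff (hv.cmp code_R7) (code_R7.cmp hv)).1 hs⟩
    · exact ⟨2, by norm_num, by norm_num, by
        rw [pow_two]; exact (sameF_iff (hv.cmp code_R7) (c2.cmp hv)).1 hs⟩
    · exact ⟨3, by norm_num, by norm_num, by
        rw [pow_succ', pow_two]; exact (sameF_iff (hv.cmp code_R7) (c3.cmp hv)).1 hs⟩
    · exact ⟨4, by norm_num, by norm_num, by
        rw [pow_succ', pow_succ', pow_two]; exact (sameF_iff (hv.cmp code_R7) (c4.cmp hv)).1 hs⟩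
    · exact ⟨5, by norm_num, by norm_num, by
        rw [pow_succ', pow_succ', pow_succ', pow_two]; exact (sameF_iff (hv.cmp code_R7) (c5.cmp hv)).1 hs⟩
    · exact ⟨6, by norm_num, le_rfl, by
        rw [pow_succ', pow_succ', pow_succ', pow_succ', pow_two]
        exact (sameF_iff (hv.cmp code_R7) (c6.cmp hv)).1 hs⟩
  · obtain ⟨l, hl, hs⟩ := anyF_iff.1 h6
    exact mem_trios.2 ⟨l, hl, famSet_congr hs⟩
  · rw [pow_succ', pow_succ', pow_succ', pow_succ', pow_succ', pow_two]
    exact (sameF_iff (code_R7.cmp c6) code_idC).1 h8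

theorem distinctCodes_spec {l : List Elt} (hv : allF eltOK₂ l = true) (hd : distinctCodes l = true) :
    (l.map permOf).Nodup := by
  have h := distinctKeys_spec _ hd
  have hl : l.Nodup := h.of_map _
  refine hl.map_on fun a ha b hb e => List.inj_on_of_nodup_map h ha hb ?_
  exact Code.cmpF_congr (code_permOf (eltOK_spec (allF_iff.1 hv a ha)).1)
    (e ▸ code_permOf (eltOK_spec (allF_iff.1 hv b hb)).1) code_idC

theorem norm7_upper {σ : Equiv.Perm GolayPt} (hσ : σ ∈ M24) {i : ℕ} (h1 : 1 ≤ i) (h6 : i ≤ 6)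
    (h : σ * R7 = R7 ^ i * σ) : ∃ g ∈ norm7, permOf g = σ := by
  have c2 := code_R7.cmp code_R7
  have c3 := code_R7.cmp c2
  have c4 := code_R7.cmp c3
  have c5 := code_R7.cmp c4
  have c6 := code_R7.cmp c5
  obtain ⟨y, hyc, hy⟩ : ∃ y, Code y (R7 ^ i) ∧ y ∈ pow7 := by
    interval_cases i
    · exact ⟨_, by rw [pow_one]; exact code_R7, by simp [pow7]⟩
    · exact ⟨_, by rw [pow_two]; exact c2, by simp [pow7]⟩
    · exact ⟨_, by rw [pow_succ', pow_two]; exact c3, by simp [pow7]⟩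
    · exact ⟨_, by rw [pow_succ', pow_succ', pow_two]; exact c4, by simp [pow7]⟩
    · exact ⟨_, by rw [pow_succ', pow_succ', pow_succ', pow_two]; exact c5, by simp [pow7]⟩
    · exact ⟨_, by rw [pow_succ', pow_succ', pow_succ', pow_succ', pow_two]; exact c6, by simp [pow7]⟩
  have hb := chains_bases
  simp only [Bool.and_eq_true] at hb
  obtain ⟨e, he, hleaf⟩ := search_chain chains_gens.1.1 sevenChain_cert hb.1.1.1 norm7_search hσ
    fun F f hF hf => anyF_iff.2 ⟨y, hy, prConj_spec code_R7 hyc h hF hf⟩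
  simp only [leaf7, Bool.or_eq_true, Bool.not_eq_true'] at hleaf
  rcases hleaf with hf | hl
  · have htrue : anyF (fun y => sameF (cmpF e rep7.1) (cmpF y e)) pow7 = true :=
      anyF_iff.2 ⟨y, hy, (sameF_iff (he.cmp code_R7) (hyc.cmp he)).2 h⟩
    rw [hf] at htrue
    exact absurd htrue (by simp)
  · obtain ⟨g, hg, hs⟩ := anyF_iff.1 hl
    exact ⟨g, hg, ((sameF_iff he (code_permOf (eltOK_spec (allF_iff.1 norm7_facts.1 g hg)).1)).1 hs).symm⟩

/-! ### Six points -/

theorem prFix_spec {σ : Equiv.Perm GolayPt} {m : ℕ} (h : ∀ p ∈ maskSet m, σ p = p) {F : List ℕ}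
    {f : ℕ → ℕ} (hF : ∀ b ∈ F, b < 24) (hf : ∀ b ∈ F, f b = natImg σ b) : prFix m F f = true := by
  simp only [prFix, allF_iff, Bool.or_eq_true, Bool.not_eq_true', Nat.beq_eq, bitB_eq]
  intro b hb
  cases hbit : m.testBit b
  · exact Or.inl rfl
  · right
    have : ptN b ∈ maskSet m := mem_maskSet.2 (by rw [idx_ptN (hF b hb)]; exact hbit)
    rw [hf b hb, natImg, h _ this, idx_ptN (hF b hb)]

theorem fix_list {m : ℕ} {l : List Elt} (hm : m < 2 ^ 24) (hv : allF eltOK₂ l = true)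
    (hd : distinctCodes l = true) (hall : allF (fun g => Nat.beq (Nat.land (fixF g.1) m) m) l = true)
    (hsearch : searchB (prFix m) (leafList l) m24Levels [] idC = true) :
    Nat.card {g : Equiv.Perm GolayPt // g ∈ M24 ∧ ∀ p ∈ maskSet m, g p = p} = l.length := by
  classical
  have hset : {g : Equiv.Perm GolayPt | g ∈ M24 ∧ ∀ p ∈ maskSet m, g p = p} =
      ↑(l.map permOf).toFinset := by
    ext σ
    simp only [Set.mem_ofPred_eq, List.coe_toFinset, List.mem_map]
    constructor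
    · rintro ⟨hσ, hfix⟩
      obtain ⟨e, he, hl⟩ := search_M24 hsearch hσ fun F f hF hf => prFix_spec hfix hF hf
      obtain ⟨g, hg, hs⟩ := anyF_iff.1 hl
      exact ⟨g, hg, ((sameF_iff he (code_permOf (eltOK_spec (allF_iff.1 hv g hg)).1)).1 hs).symm⟩
    · rintro ⟨g, hg, rfl⟩
      obtain ⟨hgv, hgM⟩ := eltOK_spec (allF_iff.1 hv g hg)
      refine ⟨hgM, fun p hp => ?_⟩
      have h := Nat.beq_eq.mp (allF_iff.1 hall g hg)
      have : p ∈ maskSet (fixF g.1) ∩ maskSet m := by
        rw [← maskSet_and, show fixF g.1 &&& m = m from h]; exact hp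
      rw [← (code_permOf hgv).fixed] at this
      exact (Finset.mem_filter.1 (Finset.mem_inter.1 this).1).2
  show Nat.card ({g : Equiv.Perm GolayPt | g ∈ M24 ∧ ∀ p ∈ maskSet m, g p = p} : Set _) = _
  rw [hset, Nat.card_coe_set_eq, Set.ncard_coe_finset, List.toFinset_card_of_nodup (distinctCodes_spec hv hd),
    List.length_map]

end Cfsg.Agent.Golay.Local
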