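import Cfsg.Agent.Lib.Golay.Local.ClassTools
import Cfsg.Agent.Lib.Golay.Local.ClassData
import Cfsg.Agent.Lib.Golay.Local.ChainData

/-! Kernel checks for the classes of elements of small order. -/

namespace Cfsg.Agent.Golay.Local

open Cfsg Cfsg.Agent.PermCert Cfsg.Agent.Golay.Cert

theorem syl2_cert : checkCert 5 24 syl2Gens syl2Derived syl2Levels = true := by decide +kernel
theorem syl3_cert : checkCert 5 24 syl3Gens syl3Derived syl3Levels = true := by decide +kernel
theorem syl7_cert : checkCert 5 24 syl7Gens syl7Derived syl7Levels = true := by decide +kernel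
theorem syl2_elts : allF eltOK₂ syl2Gens = true := by decide +kernel
theorem syl3_elts : allF eltOK₂ syl3Gens = true := by decide +kernel
theorem syl7_elts : allF eltOK₂ syl7Gens = true := by decide +kernel
theorem syl_orders :
    (Nat.beq (certOrder syl2Levels) 1024 && Nat.beq (certOrder syl3Levels) 27 &&
      Nat.beq (certOrder syl7Levels) 7 && basesOK syl2Levels && basesOK syl3Levels &&
      basesOK syl7Levels) = true := by decide +kernel

theorem reps_ok : allF eltOK₂ [rep2A, rep2B, rep3A, rep3B, rep7, conj7, cen7a, cen7b] = true := by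
  decide +kernel

theorem conjs_ok :
    (allF (fun t => eltOK₂ t.2.2) conj2 && allF (fun t => eltOK₂ t.2.2) conj3) = true := by
  decide +kernel

/-- An involution of the Sylow subgroup is conjugate to one of the two representatives. -/
def leaf2 (e : ℕ) : Bool :=
  !(sameF (cmpF e e) idC) || sameF e idC ||
    anyF (fun t => Nat.beq t.1 e && sameF e (conjF t.2.2 (bif t.2.1 then rep2A.1 else rep2B.1))) conj2

/-- An element of order three of the Sylow subgroup is conjugate to one of the representatives. -/
def leaf3 (e : ℕ) : Bool :=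
  !(sameF (cmpF e (cmpF e e)) idC) || sameF e idC ||
    anyF (fun t => Nat.beq t.1 e && sameF e (conjF t.2.2 (bif t.2.1 then rep3A.1 else rep3B.1))) conj3

theorem search2_ok : searchB prTop leaf2 syl2Levels [] idC = true := by decide +kernel
theorem search3_ok : searchB prTop leaf3 syl3Levels [] idC = true := by decide +kernel

theorem rep_facts :
    (sameF (cmpF rep2A.1 rep2A.1) idC && !(sameF rep2A.1 idC) &&
      Nat.beq (pcF (fixF rep2A.1)) 8 && inF (fixF rep2A.1) && Nat.blt (fixF rep2A.1) 16777216 &&
      (sameF (cmpF rep2B.1 rep2B.1) idC && !(sameF rep2B.1 idC) && Nat.beq (fixF rep2B.1) 0) &&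
      (sameF (cmpF rep3A.1 (cmpF rep3A.1 rep3A.1)) idC && !(sameF rep3A.1 idC) &&
        Nat.beq (pcF (fixF rep3A.1)) 6) &&
      (sameF (cmpF rep3B.1 (cmpF rep3B.1 rep3B.1)) idC && !(sameF rep3B.1 idC) &&
        Nat.beq (fixF rep3B.1) 0)) = true := by
  decide +kernel

end Cfsg.Agent.Golay.Local
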