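import Cfsg.Agent.Lib.Golay.Local.Search
import Mathlib.GroupTheory.Sylow

/-!
Tools for classifying elements of prime order through Sylow enumeration and for centralisers.
-/

namespace Cfsg.Agent.Golay.Local

open Cfsg Cfsg.Agent.PermCert Cfsg.Agent.Golay.Cert
open scoped Pointwise

theorem Code.pow_two {e : ℕ} {σ : Equiv.Perm GolayPt} (h : Code e σ) : Code (cmpF e e) (σ ^ 2) := by
  rw [_root_.pow_two]; exact h.cmp h

theorem Code.pow_three {e : ℕ} {σ : Equiv.Perm GolayPt} (h : Code e σ) :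
    Code (cmpF e (cmpF e e)) (σ ^ 3) := by
  rw [_root_.pow_succ', _root_.pow_two]; exact h.cmp (h.cmp h)

/-- Code of the conjugate of `e` by `k`. -/
def conjF (k : Elt) (e : ℕ) : ℕ := cmpF (cmpF k.1 e) k.2

theorem Code.conj {k : Elt} (hk : validElt 5 24 k = true) {e : ℕ} {σ : Equiv.Perm GolayPt}
    (h : Code e σ) : Code (conjF k e) (permOf k * σ * (permOf k)⁻¹) :=
  ((code_permOf hk).cmp h).cmp (code_permOf_inv hk)

/-- A coded element of the group of the code. -/
def eltOK₂ (e : Elt) : Bool := validElt 5 24 e && isAutB e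

theorem eltOK_spec {e : Elt} (h : eltOK₂ e = true) : validElt 5 24 e = true ∧ permOf e ∈ M24 := by
  simp only [eltOK₂, Bool.and_eq_true] at h
  exact ⟨h.1, permOf_mem_M24 h.1 h.2⟩

theorem genPerm_le {gens : List Elt} (h : allF eltOK₂ gens = true) : genPerm gens ≤ M24 := by
  rw [genPerm, Subgroup.map_le_iff_le_comap, genGroup, Subgroup.closure_le]
  intro σ hσ
  obtain ⟨g, hg, rfl⟩ := List.mem_map.1 hσ
  exact (eltOK_spec (allF_iff.1 h g hg)).2

theorem permOf_mem_genPerm {gens : List Elt} {e : Elt} (h : e ∈ gens) : permOf e ∈ genPerm gens :=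
  ⟨toPerm 5 24 e, Subgroup.subset_closure (List.mem_map.2 ⟨e, h, rfl⟩), rfl⟩

theorem genPerm_induction {gens : List Elt}
    (K : Subgroup (Equiv.Perm GolayPt)) (h : ∀ e ∈ gens, permOf e ∈ K) : genPerm gens ≤ K := by
  rw [genPerm, Subgroup.map_le_iff_le_comap, genGroup, Subgroup.closure_le]
  intro σ hσ
  obtain ⟨g, hg, rfl⟩ := List.mem_map.1 hσ
  exact h g hg

theorem card_genPerm {gens : List Elt} {derived : List (Elt × List ℕ)} {L : List CLevel}
    (hc : checkCert 5 24 gens derived L = true) : Nat.card (genPerm gens) = certOrder L := by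
  rw [genPerm, Subgroup.card_map_of_injective phi.injective, cert_card hc]

/-- The same generators along another base. -/
theorem search_chain {gens : List Elt} {derived : List (Elt × List ℕ)} {L : List CLevel}
    (hg : gens = m24Gens) (hc : checkCert 5 24 gens derived L = true) (hb : basesOK L = true)
    {pr : List ℕ → (ℕ → ℕ) → Bool} {leaf : ℕ → Bool} (hs : searchB pr leaf L [] idC = true)
    {σ : Equiv.Perm GolayPt} (hσ : σ ∈ M24)
    (hpr : ∀ (F : List ℕ) (f : ℕ → ℕ), (∀ b ∈ F, b < 24) → (∀ b ∈ F, f b = natImg σ b) →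
      pr F f = true) : ∃ e, Code e σ ∧ leaf e = true :=
  search_cert hc hb hs (hg ▸ genPerm_M24 ▸ hσ) hpr

/-- The certified group has order `p ^ n`, the exact power of `p` in the order of the group. -/
theorem exists_conj_into {p n : ℕ} [Fact p.Prime] {gens : List Elt}
    {derived : List (Elt × List ℕ)} {L : List CLevel} (hgens : allF eltOK₂ gens = true)
    (hc : checkCert 5 24 gens derived L = true) (hn : certOrder L = p ^ n)
    (hmax : Nat.factorization 244823040 p = n) (X : Subgroup M24) (hX : IsPGroup p X) :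
    ∃ k ∈ M24, ∀ x ∈ X, k * (x : Equiv.Perm GolayPt) * k⁻¹ ∈ genPerm gens := by
  obtain ⟨Q, hQ⟩ := hX.exists_le_sylow
  have hle := genPerm_le hgens
  have hcard : Nat.card ↥((genPerm gens).subgroupOf M24) = p ^ (Nat.card M24).factorization p := by
    rw [Nat.card_congr (Subgroup.subgroupOfEquivOfLe hle).toEquiv, card_genPerm hc, hn, card_M24, hmax]
  let R : Sylow p M24 := Sylow.ofCard _ hcard
  obtain ⟨k, hk⟩ := MulAction.exists_smul_eq M24 Q R
  refine ⟨k, k.2, fun x hx => ?_⟩
  have : k * x * k⁻¹ ∈ (R : Subgroup M24) := by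
    rw [← hk]
    exact ⟨x, hQ hx, rfl⟩
  exact this

/-- Search with no pruning. -/
def prTop (_ : List ℕ) (_ : ℕ → ℕ) : Bool := true

theorem enum_cert {gens : List Elt} {derived : List (Elt × List ℕ)} {L : List CLevel}
    (hc : checkCert 5 24 gens derived L = true) (hb : basesOK L = true) {leaf : ℕ → Bool}
    (hs : searchB prTop leaf L [] idC = true) {σ : Equiv.Perm GolayPt} (hσ : σ ∈ genPerm gens) :
    ∃ e, Code e σ ∧ leaf e = true :=
  search_cert hc hb hs hσ fun _ _ _ _ => rfl

/-- A code for every permutation. -/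
theorem exists_code₂ (σ : Equiv.Perm GolayPt) : ∃ e, Code e σ :=
  ⟨pack 5 (natImg σ) 24, fun p => by
    rw [get_pack _ _ _ _ (idx_lt p), natImg, ptN_idx,
      Nat.mod_eq_of_lt (lt_of_lt_of_le (idx_lt _) (by norm_num))]⟩

/-- Sifting to the identity gives membership. -/
theorem mem_genPerm_of_sift {gens : List Elt} {derived : List (Elt × List ℕ)} {L : List CLevel}
    (hc : checkCert 5 24 gens derived L = true) {e : ℕ} {σ : Equiv.Perm GolayPt} (he : Code e σ)
    (hs : sift 5 24 L e = true) : σ ∈ genPerm gens := by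
  obtain ⟨hgood, hclo⟩ := cert_good (n := 24) hc
  obtain ⟨e', he'⟩ := exists_code₂ σ⁻¹
  obtain ⟨τ, rfl⟩ := phi.surjective σ
  have hrep : Rep 5 (e, e') τ := fun i => by
    have h1 := he (pt i)
    have h2 := he' (pt i)
    rw [idx_pt] at h1 h2
    refine ⟨h1.trans ?_, h2.trans ?_⟩
    · rw [idx_phi]
      simp [idx_pt]
    · rw [← map_inv, idx_phi]
      simp [idx_pt]
  have := sift_spec (by norm_num) L (allRep_of_cert hc) e e' τ hrep hs
  rw [prodSet_eq _ hgood, ← closure_carrier, hclo] at this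
  exact ⟨τ, this, rfl⟩

/-- Fixed points of a conjugate. -/
theorem fixed_conj (k σ : Equiv.Perm GolayPt) :
    (Finset.univ.filter fun p => (k * σ * k⁻¹) p = p) = k • (Finset.univ.filter fun p => σ p = p) := by
  ext p
  rw [← Finset.inv_smul_mem_iff, Finset.mem_filter, Finset.mem_filter]
  simp only [Finset.mem_univ, true_and, Equiv.Perm.smul_def, Equiv.Perm.mul_apply]
  constructor
  · intro h
    apply k.injective
    rw [h]
    simp
  · intro h
    rw [h]
    simp

theorem smul_eq_of_conj {α : Type*} [MulAction (Equiv.Perm GolayPt) α] (k σ : Equiv.Perm GolayPt) (X : α) :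
    (k * σ * k⁻¹) • (k • X) = k • X ↔ σ • X = X := by
  rw [mul_smul, inv_smul_smul, mul_smul]
  exact (MulAction.injective k).eq_iff

theorem ncard_fix_conj {α : Type*} [MulAction (Equiv.Perm GolayPt) α] (k σ : Equiv.Perm GolayPt)
    (U : Set α) (hU : ∀ X, k • X ∈ U ↔ X ∈ U) :
    {X | X ∈ U ∧ (k * σ * k⁻¹) • X = X}.ncard = {X | X ∈ U ∧ σ • X = X}.ncard := by
  rw [← Set.ncard_image_of_injective {X | X ∈ U ∧ σ • X = X} (MulAction.injective k)]
  congr 1
  ext X
  simp only [Set.mem_ofPred_eq, Set.mem_image]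
  constructor
  · rintro ⟨h1, h2⟩
    refine ⟨k⁻¹ • X, ⟨(hU _).1 (by rwa [smul_inv_smul]), ?_⟩, smul_inv_smul k X⟩
    rw [← smul_eq_of_conj k, smul_inv_smul]; exact h2
  · rintro ⟨Y, ⟨h1, h2⟩, rfl⟩
    exact ⟨(hU Y).2 h1, (smul_eq_of_conj k σ Y).2 h2⟩

end Cfsg.Agent.Golay.Local
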