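import Mathlib.SetTheory.Cardinal.Finite
import Mathlib.GroupTheory.OrderOfElement
import Cfsg.Agent.Lib.Golay.M24
import Cfsg.Agent.Lib.Golay.Local.OctData

/-!
Forward codes of permutations of the 24 points, images of masks by tables.
-/

namespace Cfsg.Agent.Golay.Local

open Cfsg Cfsg.Agent.PermCert Cfsg.Agent.Golay.Cert
open scoped Pointwise

/-! ### Forward codes -/

/-- `e` lists the images of the 24 positions under `σ`. -/
def Code (e : ℕ) (σ : Equiv.Perm GolayPt) : Prop := ∀ p, get 5 e (idx p) = idx (σ p)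

/-- The point at a position below 24. -/
def ptN (i : ℕ) : GolayPt := pt (Fin.ofNat 24 i)

theorem idx_ptN {i : ℕ} (h : i < 24) : idx (ptN i) = i := by
  simp [ptN, idx_pt, Fin.val_ofNat, Nat.mod_eq_of_lt h]

theorem ptN_idx (p : GolayPt) : ptN (idx p) = p := idx_injective (idx_ptN (idx_lt p))

theorem Code.get {e : ℕ} {σ : Equiv.Perm GolayPt} (h : Code e σ) {i : ℕ} (hi : i < 24) :
    PermCert.get 5 e i = idx (σ (ptN i)) := by
  rw [← h, idx_ptN hi]

theorem Code.lt {e : ℕ} {σ : Equiv.Perm GolayPt} (h : Code e σ) {i : ℕ} (hi : i < 24) :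
    PermCert.get 5 e i < 24 := by
  rw [h.get hi]; exact idx_lt _

theorem Code.unique {e : ℕ} {σ τ : Equiv.Perm GolayPt} (h : Code e σ) (h' : Code e τ) : σ = τ :=
  Equiv.ext fun p => idx_injective ((h p).symm.trans (h' p))

theorem Code.apply_eq {e : ℕ} {σ : Equiv.Perm GolayPt} (h : Code e σ) (p : GolayPt) :
    σ p = ptN (PermCert.get 5 e (idx p)) := by rw [h p, ptN_idx]

theorem code_one : Code (idCode 5 24) 1 := fun p => by
  rw [get_idCode 5 24 _ (by norm_num) (idx_lt p)]; rfl

theorem Code.comp {a b : ℕ} {σ τ : Equiv.Perm GolayPt} (ha : Code a σ) (hb : Code b τ) :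
    Code (PermCert.comp 5 24 a b) (σ * τ) := fun p => by
  rw [get_comp _ _ _ _ _ (idx_lt p), hb, ha, Equiv.Perm.mul_apply]

theorem code_permOf {e : Elt} (h : validElt 5 24 e = true) : Code e.1 (permOf e) := fun p =>
  (idx_permOf h p).symm

theorem code_permOf_inv {e : Elt} (h : validElt 5 24 e = true) : Code e.2 (permOf e)⁻¹ := fun p =>
  (idx_permOf_symm h p).symm

theorem code_phi {e : Elt} {σ : Equiv.Perm (Fin 24)} (h : Rep 5 e σ) : Code e.1 (phi σ) := fun p => by
  rw [idx_phi]; exact (h ⟨idx p, idx_lt p⟩).1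

/-- Two codes list the same images. -/
def sameC (a b : ℕ) : Bool := allBelow (fun i => Nat.beq (get 5 a i) (get 5 b i)) 24

theorem sameC_iff {a b : ℕ} {σ τ : Equiv.Perm GolayPt} (ha : Code a σ) (hb : Code b τ) :
    sameC a b = true ↔ σ = τ := by
  constructor
  · intro h
    refine Equiv.ext fun p => idx_injective ?_
    rw [← ha, ← hb]
    simpa using allBelow_spec _ _ h _ (idx_lt p)
  · rintro rfl
    suffices ∀ n, n ≤ 24 → allBelow (fun i => Nat.beq (get 5 a i) (get 5 b i)) n = true from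
      this 24 le_rfl
    intro n
    induction n with
    | zero => intro _; rfl
    | succ n ih =>
      intro hn
      show (allBelow _ n && Nat.beq (get 5 a n) (get 5 b n)) = true
      rw [ih (by omega), ha.get (by omega), hb.get (by omega)]
      simp

/-- All positions below 24 satisfy `f`. -/
theorem allBelow_of_forall {f : ℕ → Bool} : ∀ {n}, (∀ i < n, f i = true) → allBelow f n = true := by
  intro n
  induction n with
  | zero => intro _; rfl
  | succ n ih =>
    intro h
    show (allBelow f n && f n) = true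
    rw [ih fun i hi => h i (by omega), h n (by omega)]; rfl

/-! ### Fast images of masks -/

/-- Image of the bits `4j, …, 4j + 3` of a mask. -/
def nib (e : Elt) (j v : ℕ) : ℕ := imgMask e (v <<< (4 * j))

/-- The packed table of images of the nibble `j`. -/
def mkTab (e : Elt) (j : ℕ) : ℕ := pack 24 (fun v => nib e j v) 16

/-- A permutation with its tables. -/
structure Tab where
  t0 : ℕ
  t1 : ℕ
  t2 : ℕ
  t3 : ℕ
  t4 : ℕ
  t5 : ℕ

/-- Tables of a coded permutation. -/
def tabOf (e : Elt) : Tab :=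
  ⟨mkTab e 0, mkTab e 1, mkTab e 2, mkTab e 3, mkTab e 4, mkTab e 5⟩

/-- Image of a mask by tables. -/
def Tab.img (T : Tab) (m : ℕ) : ℕ :=
  get 24 T.t0 (m % 16) ||| get 24 T.t1 (m / 16 % 16) ||| get 24 T.t2 (m / 256 % 16) |||
    get 24 T.t3 (m / 4096 % 16) ||| get 24 T.t4 (m / 65536 % 16) ||| get 24 T.t5 (m / 1048576 % 16)

theorem imgMask_lt (e : Elt) (m : ℕ) : imgMask e m < 2 ^ 24 := mkMask_lt _ _

theorem get_mkTab (e : Elt) (j : ℕ) {v : ℕ} (h : v < 16) : get 24 (mkTab e j) v = nib e j v := by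
  rw [mkTab, get_pack _ _ _ _ h, nib, Nat.mod_eq_of_lt (imgMask_lt _ _)]

theorem imgMask_or (e : Elt) (a b : ℕ) : imgMask e (a ||| b) = imgMask e a ||| imgMask e b :=
  Nat.eq_of_testBit_eq fun i => by
    simp only [imgMask, testBit_mkMask, Nat.testBit_or]
    cases decide (i < 24) <;> simp

theorem nib_split {m : ℕ} (hm : m < 2 ^ 24) :
    m = (m % 16) <<< (4 * 0) ||| (m / 16 % 16) <<< (4 * 1) ||| (m / 256 % 16) <<< (4 * 2) |||
      (m / 4096 % 16) <<< (4 * 3) ||| (m / 65536 % 16) <<< (4 * 4) |||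
      (m / 1048576 % 16) <<< (4 * 5) := by
  refine Nat.eq_of_testBit_eq fun i => ?_
  rw [show (16 : ℕ) = 2 ^ 4 from rfl, show (256 : ℕ) = 2 ^ 8 from rfl,
    show (4096 : ℕ) = 2 ^ 12 from rfl, show (65536 : ℕ) = 2 ^ 16 from rfl,
    show (1048576 : ℕ) = 2 ^ 20 from rfl]
  simp only [Nat.testBit_or, Nat.testBit_shiftLeft, Nat.testBit_mod_two_pow, Nat.testBit_div_two_pow]
  by_cases hi : i < 24
  · interval_cases i <;> simp
  · rw [Nat.testBit_lt_two_pow (lt_of_lt_of_le hm (Nat.pow_le_pow_right (by norm_num) (not_lt.1 hi)))]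
    simp [show ¬ i < 4 by omega, show ¬ (i - 4 < 4) by omega, show ¬ (i - 8 < 4) by omega,
      show ¬ (i - 12 < 4) by omega, show ¬ (i - 16 < 4) by omega, show ¬ (i - 20 < 4) by omega]

theorem tab_img (e : Elt) {m : ℕ} (hm : m < 2 ^ 24) : (tabOf e).img m = imgMask e m := by
  have h : ∀ x : ℕ, x % 16 < 16 := fun x => Nat.mod_lt _ (by norm_num)
  rw [Tab.img, tabOf]
  simp only [get_mkTab _ _ (h _), nib, ← imgMask_or]
  rw [← nib_split hm]

theorem smul_maskSet {e : Elt} (h : validElt 5 24 e = true) {m : ℕ} (hm : m < 2 ^ 24) :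
    permOf e • maskSet m = maskSet ((tabOf e).img m) := by
  rw [tab_img e hm, maskSet_imgMask h]

theorem tab_img_lt (e : Elt) {m : ℕ} (hm : m < 2 ^ 24) : (tabOf e).img m < 2 ^ 24 := by
  rw [tab_img e hm]; exact imgMask_lt _ _

end Cfsg.Agent.Golay.Local
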