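import Cfsg.Agent.Lib.Golay.Local.PermModule
import Cfsg.Agent.Lib.Golay.Local.ClassTools

/-! Stabilisers of code words fix no nonzero coset of the code. -/

namespace Cfsg.Agent.Golay.Local

open Cfsg Cfsg.Agent.PermCert Cfsg.Agent.Golay.Cert
open scoped Pointwise

/-- Some listed generator moves the coset of the word. -/
def movesCoset (gens : List Elt) (x : ℕ) : Bool :=
  Nat.beq x 0 || anyF (fun e => !(inF (Nat.xor (imgF (tabOf e) x) x))) gens

/-- All nonzero cosets are moved. -/
def movesAll (gens : List Elt) : Bool :=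
  allBelow (fun a => allBelow (fun b => movesCoset gens (64 * a + b)) 64) 64

theorem movesAll_oct :
    (movesAll octGens &&
      allF (fun e => eltOK₂ e && Nat.beq (imgF (tabOf e) 8536111) 8536111) octGens) = true := by
  decide +kernel

theorem movesAll_dod :
    (movesAll m12Gens &&
      allF (fun e => eltOK₂ e && Nat.beq (imgF (tabOf e) 340831) 340831) m12Gens) = true := by
  decide +kernel

theorem moves_spec {gens : List Elt} {u : ℕ} (hu : u < 2 ^ 24)
    (h : (movesAll gens && allF (fun e => eltOK₂ e && Nat.beq (imgF (tabOf e) u) u) gens) = true)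
    {w : GolayPt → ZMod 2} (hw : w ∉ golayCode) :
    ∃ σ ∈ M24, σ • maskSet u = maskSet u ∧ (fun p => w (σ.symm p)) - w ∉ golayCode := by
  simp only [Bool.and_eq_true, allF_iff, Nat.beq_eq] at h
  obtain ⟨hall, hgens⟩ := h
  set m := toMask (support₂ w) with hm
  have hmlt : m < 2 ^ 24 := toMask_lt _
  have hwm : w = ofMask m := (ofMask_toMask w).symm
  have hhi : m >>> 12 < 4096 := by
    rw [Nat.shiftRight_eq_div_pow]; omega
  have hmem : m >>> 12 ∈ codeList.map (fun x => x >>> 12) := by
    rw [codeList_top]; exact List.mem_range.2 hhi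
  obtain ⟨c, hc, hce⟩ := List.mem_map.1 hmem
  set x := m ^^^ c with hx
  have hxlt : x < 4096 := by
    have hz : x >>> 12 = 0 := by
      rw [hx, Nat.shiftRight_xor_distrib, hce, Nat.xor_self]
    rw [Nat.shiftRight_eq_div_pow] at hz
    omega
  have hcmem : ofMask c ∈ golayCode := mem_golayCode.2 ⟨c, hc, rfl⟩
  have hwx : w = ofMask x + ofMask c := by
    rw [hwm, ← ofMask_xor, hx, Nat.xor_assoc, Nat.xor_self, Nat.xor_zero]
  have hx0 : x ≠ 0 := fun e => hw (by rw [hwx, e, ofMask_zero, zero_add]; exact hcmem)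
  have hb := allBelow_spec _ _ (allBelow_spec _ _ hall (x / 64) (by omega)) (x % 64) (by omega)
  rw [show 64 * (x / 64) + x % 64 = x from Nat.div_add_mod x 64] at hb
  simp only [movesCoset, Bool.or_eq_true, Nat.beq_eq, anyF_iff, Bool.not_eq_true'] at hb
  rcases hb with hb | ⟨e, he, hne⟩
  · exact absurd hb hx0
  obtain ⟨hok, hfix⟩ := hgens e he
  obtain ⟨hv, hM⟩ := eltOK_spec hok
  refine ⟨permOf e, hM, ?_, fun hmem => ?_⟩
  · rw [smul_maskSet hv hu, ← imgF_eq, hfix]
  · have hx24 : x < 2 ^ 24 := by omega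
    have h1 : (fun p => w ((permOf e).symm p)) = ofMask ((tabOf e).img x) + fun p => ofMask c ((permOf e).symm p) := by
      rw [hwx, ofMask_eq_ind ((tabOf e).img x), ← smul_maskSet hv hx24, ← ind_comp, ← ofMask_eq_ind]
      rfl
    rw [h1] at hmem
    have h2 : ofMask ((tabOf e).img x ^^^ x) ∈ golayCode := by
      have h3 := sub_mem (add_mem hmem hcmem) (inv24_golayCode _ hM _ hcmem)
      rw [ofMask_xor]
      convert h3 using 1
      rw [hwx, sub_eq_add_neg, CharTwo.neg_eq]
      ext p
      simp only [Pi.add_apply, Pi.sub_apply]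
      rcases zmod2_cases (ofMask c p) with a | a <;> rw [a] <;>
        rcases zmod2_cases (ofMask x p) with b | b <;> rw [b] <;>
        rcases zmod2_cases (ofMask ((tabOf e).img x) p) with d | d <;> rw [d] <;>
        rcases zmod2_cases (ofMask c ((permOf e).symm p)) with f | f <;> rw [f] <;> rfl
    rw [ofMask_mem_iff (Nat.xor_lt_two_pow (tab_img_lt e hx24) hx24)] at h2
    rw [inF_eq] at hne
    rw [show Nat.xor (imgF (tabOf e) x) x = (tabOf e).img x ^^^ x from by rw [imgF_eq]; rfl] at hne
    rw [h2] at hne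
    simp at hne

/-- The stabiliser of a code word moves every nonzero coset. -/
theorem exists_fix_moves {u : GolayPt → ZMod 2} (hu : u ∈ golayCode) {w : GolayPt → ZMod 2}
    (hw : w ∉ golayCode) :
    ∃ σ ∈ M24, (fun p => u (σ.symm p)) = u ∧ (fun p => w (σ.symm p)) - w ∉ golayCode := by
  classical
  suffices ∀ (k : M24) (s : Finset GolayPt), (∀ w' : GolayPt → ZMod 2, w' ∉ golayCode →
      ∃ τ ∈ M24, τ • s = s ∧ (fun p => w' (τ.symm p)) - w' ∉ golayCode) →
      u = ind ((k : Equiv.Perm GolayPt) • s) →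
      ∃ σ ∈ M24, (fun p => u (σ.symm p)) = u ∧ (fun p => w (σ.symm p)) - w ∉ golayCode by
    have hO : ∀ s : Finset GolayPt, (s = stdOct ∨ s = Finset.univ \ stdOct) →
        ∀ w' : GolayPt → ZMod 2, w' ∉ golayCode →
        ∃ τ ∈ M24, τ • s = s ∧ (fun p => w' (τ.symm p)) - w' ∉ golayCode := by
      intro s hs w' hw'
      obtain ⟨τ, hτ, h1, h2⟩ := moves_spec (by norm_num) movesAll_oct hw'
      refine ⟨τ, hτ, ?_, h2⟩
      rcases hs with rfl | rfl
      · exact h1
      · rw [Finset.smul_finset_sdiff, Finset.smul_finset_univ, show τ • stdOct = stdOct from h1]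
    rcases code_cases hu with h | h | h | h | h
    · refine this 1 ∅ (fun w' hw' => ?_) (by rw [h]; ext; simp [ind])
      obtain ⟨τ, hτ, -, h2⟩ := hO _ (Or.inl rfl) w' hw'
      exact ⟨τ, hτ, Finset.smul_finset_empty _, h2⟩
    · refine this 1 Finset.univ (fun w' hw' => ?_) (by rw [h, Subgroup.coe_one, one_smul, ind_univ])
      obtain ⟨τ, hτ, -, h2⟩ := hO _ (Or.inl rfl) w' hw'
      exact ⟨τ, hτ, Finset.smul_finset_univ, h2⟩
    · obtain ⟨k, hk⟩ := exists_smul_octad stdOct_mem h
      exact this k stdOct (hO _ (Or.inl rfl))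
        (by rw [show (k : Equiv.Perm GolayPt) • stdOct = support₂ u from hk, ind_support])
    · obtain ⟨k, hk, -⟩ := exists_smul_duo stdDod_mem h
      exact this k stdDod (fun w' hw' => moves_spec (by norm_num) movesAll_dod hw')
        (by rw [show (k : Equiv.Perm GolayPt) • stdDod = support₂ u from hk, ind_support])
    · obtain ⟨k, hk⟩ := exists_smul_octad stdOct_mem h
      refine this k (Finset.univ \ stdOct) (hO _ (Or.inr rfl)) ?_
      rw [Finset.smul_finset_sdiff, Finset.smul_finset_univ,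
        show (k : Equiv.Perm GolayPt) • stdOct = Finset.univ \ support₂ u from hk,
        Finset.sdiff_sdiff_self_left, Finset.inter_eq_right.2 (Finset.subset_univ _), ind_support]
  intro k s hstab hus
  set κ := (k : Equiv.Perm GolayPt) with hκ
  have hw' : (fun p => w (κ p)) ∉ golayCode := fun h => hw (by
    have := inv24_golayCode κ k.2 _ h
    simpa using this)
  obtain ⟨τ, hτ, hτs, hτw⟩ := hstab _ hw'
  refine ⟨κ * τ * κ⁻¹, mul_mem (mul_mem k.2 hτ) (inv_mem k.2), ?_, fun h => hτw ?_⟩
  · rw [hus, ind_comp, mul_smul, mul_smul, inv_smul_smul, hτs]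
  · have hmem := inv24_golayCode κ⁻¹ (inv_mem k.2) _ h
    convert hmem using 1
    ext p
    simp [Equiv.Perm.inv_def, Equiv.Perm.mul_def]

end Cfsg.Agent.Golay.Local
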