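import Cfsg.Agent.Lib.Golay.Local.Orbits
import Cfsg.Agent.Lib.Golay.Local.OrbDataOct

/-! Kernel checks of orbit certificates. -/

namespace Cfsg.Agent.Golay.Local

theorem octRef_ok : famOK octRef = true := by decide +kernel

theorem octGens_ok : gensOK octGens octTabs octRef = true := by decide +kernel

theorem octTri0Root_ok : famOK octTri0Root = true := by decide +kernel

theorem octTri0_ok : orbitOK octTabs triList octRef octTri0Root 4096 15 octTri0Tree = true := by
  decide +kernel

theorem octTri1Root_ok : famOK octTri1Root = true := by decide +kernel

theorem octTri1_ok : orbitOK octTabs triList octRef octTri1Root 512 420 octTri1Tree = true := by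
  decide +kernel

theorem octTri2Root_ok : famOK octTri2Root = true := by decide +kernel

theorem octTri2_ok : orbitOK octTabs triList octRef octTri2Root 288 3360 octTri2Tree = true := by
  decide +kernel

theorem octTri_values : valuesOK triList octRef [4096, 512, 288] = true := by
  decide +kernel

theorem octSex0Root_ok : famOK octSex0Root = true := by decide +kernel

theorem octSex0_ok : orbitOK octTabs sexLit octRef octSex0Root 512 35 octSex0Tree = true := by
  decide +kernel

theorem octSex1Root_ok : famOK octSex1Root = true := by decide +kernel

theorem octSex1_ok : orbitOK octTabs sexLit octRef octSex1Root 64 840 octSex1Tree = true := by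
  decide +kernel

theorem octSex2Root_ok : famOK octSex2Root = true := by decide +kernel

theorem octSex2_ok : orbitOK octTabs sexLit octRef octSex2Root 86 896 octSex2Tree = true := by
  decide +kernel

theorem octSex_values : valuesOK sexLit octRef [512, 64, 86] = true := by
  decide +kernel

theorem octOct0Root_ok : famOK octOct0Root = true := by decide +kernel

theorem octOct0_ok : orbitOK octTabs (octLit.map fun m => [m]) octRef octOct0Root 4096 1 octOct0Tree = true := by
  decide +kernel

theorem octOct1Root_ok : famOK octOct1Root = true := by decide +kernel

theorem octOct1_ok : orbitOK octTabs (octLit.map fun m => [m]) octRef octOct1Root 0 30 octOct1Tree = true := by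
  decide +kernel

theorem octOct2Root_ok : famOK octOct2Root = true := by decide +kernel

theorem octOct2_ok : orbitOK octTabs (octLit.map fun m => [m]) octRef octOct2Root 256 280 octOct2Tree = true := by
  decide +kernel

theorem octOct3Root_ok : famOK octOct3Root = true := by decide +kernel

theorem octOct3_ok : orbitOK octTabs (octLit.map fun m => [m]) octRef octOct3Root 16 448 octOct3Tree = true := by
  decide +kernel

theorem octOct_values : valuesOK (octLit.map fun m => [m]) octRef [4096, 0, 256, 16] = true := by
  decide +kernel

end Cfsg.Agent.Golay.Local
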