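import Cfsg.Agent.Lib.Golay.Local.Moving
import Cfsg.Agent.Lib.Golay.Local.OrbOct
import Cfsg.Agent.Lib.Golay.Local.OrbDataSext
import Cfsg.Agent.Lib.Golay.Local.OrbDataTrio
import Cfsg.Agent.Lib.Golay.Local.OrbDataDuo
import Cfsg.Agent.Lib.Golay.Local.OrbDataThree

/-! The standard octad, sextet, trio, dodecad pair and three-set. -/

namespace Cfsg.Agent.Golay.Local

open Cfsg Cfsg.Agent.PermCert
open scoped Pointwise

/-- The standard octad. -/
abbrev stdOct : Finset GolayPt := maskSet 8536111

/-- The standard sextet. -/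
abbrev stdSext : Finset (Finset GolayPt) := famSet sextRef

/-- The standard trio. -/
abbrev stdTrio : Finset (Finset GolayPt) := famSet trioRef

theorem famSet_octRef : famSet octRef = {stdOct} := famSet_single _

theorem stdOct_mem : stdOct ∈ octads := maskSet_mem_octads (by decide +kernel) (by decide +kernel)

theorem stdSext_mem : stdSext ∈ sextets := by
  have h : anyF (fun l => sameFam l sextRef) sexLit = true := by decide +kernel
  obtain ⟨l, hl, hs⟩ := anyF_iff.1 h
  exact mem_sextets.2 ⟨l, hl, famSet_congr hs⟩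

theorem stdTrio_mem : stdTrio ∈ trios := by
  have h : anyF (fun l => sameFam l trioRef) triList = true := by decide +kernel
  obtain ⟨l, hl, hs⟩ := anyF_iff.1 h
  exact mem_trios.2 ⟨l, hl, famSet_congr hs⟩

theorem stdOct_mem_stdTrio : stdOct ∈ stdTrio := mem_famSet.2 ⟨8536111, by decide, rfl⟩

theorem stab_stdOct : MulAction.stabilizer M24 stdOct = famStab (famSet octRef) := stab_maskSet _

theorem octTri_class : IsClass triUniv stdOct (famSet octRef) (famSet octTri0Root) 4096 15 :=
  isClass_of_spec triUniv octRef_ok octTri0Root_ok octGens_ok octTri0_ok stab_stdOct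

theorem exists_smul_stdTrio {T : Finset (Finset GolayPt)} (hT : T ∈ trios) :
    ∃ g : M24, g • stdTrio = T := by
  obtain ⟨o, ho⟩ := Finset.card_pos.1 (by rw [hT.1]; norm_num : 0 < T.card)
  obtain ⟨g, hg⟩ := exists_smul_octad stdOct_mem (hT.2.1 o ho)
  have hmem : g⁻¹ • T ∈ trios := smul_mem_trios (g⁻¹).2 hT
  have hoin : stdOct ∈ g⁻¹ • T := by
    rw [← inv_smul_smul g stdOct, hg]
    exact Finset.smul_mem_smul_finset ho
  obtain ⟨h, -, hh⟩ := octTri_class.mem_orbit hmem
    (by rw [famSet_octRef]; exact wProf_self hmem hoin)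
  obtain ⟨k, -, hk⟩ := octTri_class.mem_orbit stdTrio_mem
    (by rw [famSet_octRef]; exact wProf_self stdTrio_mem stdOct_mem_stdTrio)
  refine ⟨g * h * k⁻¹, ?_⟩
  rw [← hk, mul_smul, inv_smul_smul, mul_smul, hh, smul_inv_smul]

/-- The standard dodecad. -/
abbrev stdDod : Finset GolayPt := maskSet 340831

theorem stdDod_mem : stdDod ∈ dodecads :=
  mem_dodecads.2 ⟨340831, mem_dodecadList.2 ⟨inCode_iff.1 (by decide +kernel), by decide +kernel⟩, rfl⟩

theorem famSet_duoRef : famSet duoRef = {stdDod, Finset.univ \ stdDod} := by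
  have h2 : maskSet 16436384 = Finset.univ \ stdDod := by
    ext p
    rw [Finset.mem_sdiff, mem_maskSet, mem_maskSet]
    simp only [Finset.mem_univ, true_and]
    have hp := idx_lt p
    generalize idx p = i at hp ⊢
    revert i
    decide +kernel
  ext s
  simp [famSet, duoRef, ← h2]

theorem exists_smul_stdDuo {d : Finset GolayPt} (hd : d ∈ dodecads) :
    ∃ g : M24, g • famSet duoRef = {d, Finset.univ \ d} := by
  obtain ⟨g, h1, h2⟩ := exists_smul_duo stdDod_mem hd
  exact ⟨g, by rw [famSet_duoRef, Finset.smul_finset_insert, Finset.smul_finset_singleton, h1, h2]⟩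

end Cfsg.Agent.Golay.Local
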