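import Cfsg.Agent.Lib.Golay.Local.Classes
import Cfsg.Agent.Lib.Golay.Local.CentDefs
import Cfsg.Agent.Lib.Golay.Local.StdObjects
import Cfsg.Agent.Lib.Golay.Local.Dod3Data
import Cfsg.Agent.Lib.Golay.Local.Cents
import Mathlib.GroupTheory.SpecificGroups.Quaternion

/-! The stabiliser of a dodecad and three of its points. -/

namespace Cfsg.Agent.Golay.Local

open Cfsg Cfsg.Agent.PermCert Cfsg.Agent.Golay.Cert
open scoped Pointwise

/-- The entry of the quaternion list. -/
def quatElt : QuaternionGroup 2 → Elt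
  | .a i => dod3Quat.getD i.val (idC, idC)
  | .xa i => dod3Quat.getD (4 + i.val) (idC, idC)

/-- The cube of a code is trivial. -/
def cubeOne (e : Elt) : Bool := sameF (cmpF e.1 (cmpF e.1 e.1)) idC

theorem dod3_ok :
    (allF (fun e => eltOK₂ e && Nat.beq (imgF (tabOf e) 340831) 340831 &&
        allF (fun i => Nat.beq (g5 e.1 i) i) [0, 1, 2]) (dod3Elts ++ dod3Quat) &&
      distinctCodes dod3Elts && Nat.beq dod3Elts.length 72 &&
      allBelow (fun a => allBelow (fun b => Nat.beq a b || !(bitB 340831 a) || !(bitB 340831 b) ||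
        Nat.blt a 3 || Nat.blt b 3 ||
        anyF (fun e => Nat.beq (g5 e.1 3) a && Nat.beq (g5 e.1 4) b) dod3Elts) 24) 24 &&
      Nat.beq (dod3Elts.filter fun e => cubeOne e).length 9 &&
      allF (fun e => !(sameF (cmpF (cmpF e.1 (cmpF e.1 e.1))
        (cmpF (cmpF e.1 (cmpF e.1 e.1)) (cmpF e.1 (cmpF e.1 e.1)))) idC) || cubeOne e) dod3Elts) = true := by
  decide +kernel

theorem quat_hom : ∀ x y : QuaternionGroup 2,
    sameF (cmpF (quatElt x).1 (quatElt y).1) (quatElt (x * y)).1 = true := by
  decide +kernel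

theorem quat_inj : ∀ x y : QuaternionGroup 2, sameF (quatElt x).1 (quatElt y).1 = true → x = y := by
  decide +kernel

theorem quat_mem : ∀ x : QuaternionGroup 2, memF (quatElt x).1 (dod3Quat.map fun e => e.1) = true ∧
    validElt 5 24 (quatElt x) = true ∧ isAutB (quatElt x) = true ∧
    Nat.beq (imgF (tabOf (quatElt x)) 340831) 340831 = true ∧
    allF (fun i => Nat.beq (g5 (quatElt x).1 i) i) [0, 1, 2] = true := by
  decide +kernel

/-- The standard group. -/
def InStd (σ : Equiv.Perm GolayPt) : Prop :=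
  σ ∈ M24 ∧ σ • Spor.squareDodecad = Spor.squareDodecad ∧ ∀ i : Fin 3, σ (base12 (Fin.castLE (by norm_num) i)) = base12 (Fin.castLE (by norm_num) i)

theorem inStd_of {e : Elt} (hv : validElt 5 24 e = true) (haut : isAutB e = true)
    (himg : Nat.beq (imgF (tabOf e) 340831) 340831 = true)
    (hfix : allF (fun i => Nat.beq (g5 e.1 i) i) [0, 1, 2] = true) : InStd (permOf e) := by
  refine ⟨permOf_mem_M24 hv haut, ?_, fun i => ?_⟩
  · rw [squareDodecad_eq, smul_maskSet hv (by norm_num), ← imgF_eq, Nat.eq_of_beq_eq_true himg]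
  · apply idx_injective
    rw [← code_permOf hv, ← g5_eq]
    have hidx : ∀ i : Fin 3, idx (base12 (Fin.castLE (by norm_num) i)) = (i : ℕ) := by decide
    rw [hidx i]
    refine Nat.eq_of_beq_eq_true (allF_iff.1 hfix _ ?_)
    revert i; decide

theorem std_list : {σ | InStd σ} = ↑(dod3Elts.map permOf).toFinset := by
  classical
  have h := dod3_ok
  simp only [Bool.and_eq_true] at h
  obtain ⟨⟨⟨⟨⟨hel, -⟩, -⟩, hcov⟩, -⟩, -⟩ := h
  have hel' := allF_iff.1 hel
  have hin : ∀ e ∈ dod3Elts, InStd (permOf e) := fun e he => by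
    have h1 := hel' e (List.mem_append_left _ he)
    simp only [Bool.and_eq_true, eltOK₂] at h1
    exact inStd_of h1.1.1.1 h1.1.1.2 h1.1.2 h1.2
  ext σ
  simp only [Set.mem_ofPred_eq, List.coe_toFinset, List.mem_map]
  refine ⟨fun hσ => ?_, fun ⟨e, he, hee⟩ => hee ▸ hin e he⟩
  obtain ⟨hM, hd, hf⟩ := hσ
  have hbd : ∀ i : Fin 5, σ (base12 i) ∈ Spor.squareDodecad := fun i => by
    have h1 := Finset.smul_mem_smul_finset (a := σ) (base12_mem i)
    rwa [hd, Equiv.Perm.smul_def] at h1
  have hbit : ∀ i : Fin 5, bitB 340831 (idx (σ (base12 i))) = true := fun i => by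
    have h1 := hbd i
    rw [squareDodecad_eq, mem_maskSet] at h1
    rw [bitB_eq]; exact h1
  have hge : ∀ i : Fin 5, 3 ≤ (i : ℕ) → ¬ idx (σ (base12 i)) < 3 := fun i hi hlt => by
    obtain ⟨j, hj⟩ : ∃ j : Fin 3, idx (base12 (Fin.castLE (by norm_num) j)) = idx (σ (base12 i)) := by
      have hidx : ∀ j : Fin 3, idx (base12 (Fin.castLE (by norm_num) j)) = (j : ℕ) := by decide
      exact ⟨⟨_, hlt⟩, hidx _⟩
    have e := idx_injective hj
    rw [← hf j] at e
    have := congrArg Fin.val (base12_injective (σ.injective e))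
    simp only [Fin.val_castLE] at this
    omega
  have hab : idx (σ (base12 3)) ≠ idx (σ (base12 4)) := fun e =>
    absurd (base12_injective (σ.injective (idx_injective e))) (by decide)
  have hc := allBelow_spec _ _ (allBelow_spec _ _ hcov (idx (σ (base12 3))) (idx_lt _))
    (idx (σ (base12 4))) (idx_lt _)
  simp only [Bool.or_eq_true, Nat.beq_eq, Bool.not_eq_true', Nat.blt_eq, anyF_iff, Bool.and_eq_true,
    hbit, Bool.true_eq_false, or_false] at hc
  rcases hc with ((hc | hc) | hc) | ⟨e, he, h3, h4⟩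
  · exact absurd hc hab
  · exact absurd hc (hge 3 le_rfl)
  · exact absurd hc (hge 4 (by decide))
  refine ⟨e, he, ?_⟩
  obtain ⟨heM, hed, hef⟩ := hin e he
  have h1 := hel' e (List.mem_append_left _ he)
  simp only [Bool.and_eq_true, eltOK₂] at h1
  have hv := h1.1.1.1
  have hmemS : ∀ τ : Equiv.Perm GolayPt, τ ∈ M24 → τ • Spor.squareDodecad = Spor.squareDodecad →
      τ ∈ stabSets [Spor.squareDodecad] := fun τ h1 h2 => by
    rw [← sporM12_eq]; exact Subgroup.mem_inf.2 ⟨h1, h2⟩
  obtain ⟨a, -, huniq⟩ := existsUnique_m12 (fun i => σ (base12 i)) (σ.injective.comp base12_injective) hbd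
  have e1 := huniq ⟨σ, hmemS σ hM hd⟩ fun i => rfl
  have e2 := huniq ⟨permOf e, hmemS _ heM hed⟩ fun i => by
    fin_cases i
    · exact (hef 0).trans (hf 0).symm
    · exact (hef 1).trans (hf 1).symm
    · exact (hef 2).trans (hf 2).symm
    · apply idx_injective
      show idx (permOf e (base12 3)) = idx (σ (base12 3))
      rw [← code_permOf hv, ← g5_eq, show idx (base12 3) = 3 from by decide]; exact h3
    · apply idx_injective
      show idx (permOf e (base12 4)) = idx (σ (base12 4))
      rw [← code_permOf hv, ← g5_eq, show idx (base12 4) = 4 from by decide]; exact h4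
  exact congrArg Subtype.val (e2.trans e1.symm)

/-- A group carried by conjugation onto the standard one. -/
theorem dod3_structure {G : Type*} [Group G] (φ : G →* Equiv.Perm GolayPt) (hφ : Function.Injective φ)
    (hrange : Set.range φ = {σ | InStd σ}) :
    (∀ Q : Sylow 3 G, (Q : Subgroup G).Normal ∧ Nat.card Q = 9 ∧ ∀ x ∈ (Q : Subgroup G), x ^ 3 = 1) ∧
      ∀ P : Sylow 2 G, Nonempty (P ≃* QuaternionGroup 2) := by
  classical
  haveI : Fact (Nat.Prime 3) := ⟨Nat.prime_three⟩
  haveI : Fact (Nat.Prime 2) := ⟨Nat.prime_two⟩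
  haveI : Finite G := Finite.of_injective φ hφ
  have h := dod3_ok
  simp only [Bool.and_eq_true, Nat.beq_eq] at h
  obtain ⟨⟨⟨⟨⟨hel, hdist⟩, hlen⟩, -⟩, hcube⟩, hnine⟩ := h
  have hv : allF eltOK₂ dod3Elts = true := allF_iff.2 fun e he => by
    have h1 := allF_iff.1 hel e (List.mem_append_left _ he)
    simp only [Bool.and_eq_true] at h1
    exact h1.1.1
  have hnd := distinctCodes_spec hv hdist
  rw [std_list] at hrange
  have hcard : Nat.card G = 72 := by
    rw [← Set.ncard_univ, ← Set.ncard_image_of_injective _ hφ, Set.image_univ, hrange,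
      Set.ncard_coe_finset, List.toFinset_card_of_nodup hnd, List.length_map, hlen]
  have hcode : ∀ e ∈ dod3Elts, Code e.1 (permOf e) := fun e he =>
    code_permOf (eltOK_spec (allF_iff.1 hv e he)).1
  have hlist : ∀ x : G, ∃ e ∈ dod3Elts, permOf e = φ x := fun x => by
    have : φ x ∈ Set.range φ := ⟨x, rfl⟩
    rw [hrange, List.coe_toFinset, Set.mem_ofPred_eq, List.mem_map] at this
    exact this
  have h9 : ∀ x : G, x ^ 9 = 1 → x ^ 3 = 1 := by
    intro x hx
    obtain ⟨e, he, hee⟩ := hlist x
    have h1 := allF_iff.1 hnine e he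
    simp only [Bool.or_eq_true, Bool.not_eq_true'] at h1
    have hc := (hcode e he)
    rcases h1 with h1 | h1
    · exfalso
      have : sameF (cmpF (cmpF e.1 (cmpF e.1 e.1)) (cmpF (cmpF e.1 (cmpF e.1 e.1)) (cmpF e.1 (cmpF e.1 e.1)))) idC = true := by
        rw [sameF_iff hc.pow_three.pow_three code_idC, ← pow_mul, hee, ← map_pow,
          show 3 * 3 = 9 from rfl, hx, map_one]
      rw [h1] at this
      simp at this
    · apply hφ
      rw [map_pow, map_one, ← hee]
      exact (sameF_iff hc.pow_three code_idC).1 h1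
  have h3count : {x : G | x ^ 3 = 1}.ncard = 9 := by
    rw [← Set.ncard_image_of_injective _ hφ]
    have himg : φ '' {x : G | x ^ 3 = 1} = ↑((dod3Elts.filter fun e => cubeOne e).map permOf).toFinset := by
      ext σ
      simp only [Set.mem_image, Set.mem_ofPred_eq, List.coe_toFinset, List.mem_map, List.mem_filter]
      constructor
      · rintro ⟨x, hx, rfl⟩
        obtain ⟨e, he, hee⟩ := hlist x
        refine ⟨e, ⟨he, ?_⟩, hee⟩
        rw [cubeOne, sameF_iff (hcode e he).pow_three code_idC, hee, ← map_pow, hx, map_one]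
      · rintro ⟨e, ⟨he, hc⟩, rfl⟩
        obtain ⟨x, hx⟩ : permOf e ∈ Set.range φ := by
          rw [hrange, List.coe_toFinset, Set.mem_ofPred_eq, List.mem_map]; exact ⟨e, he, rfl⟩
        refine ⟨x, hφ ?_, hx⟩
        rw [map_pow, map_one, hx]
        exact (sameF_iff (hcode e he).pow_three code_idC).1 hc
    rw [himg, Set.ncard_coe_finset, List.toFinset_card_of_nodup (hnd.sublist
      ((List.filter_sublist).map permOf)), List.length_map, hcube]
  have hfac : Nat.factorization 72 3 = 2 ∧ Nat.factorization 72 2 = 3 := by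
    constructor <;>
    · rw [show (72 : ℕ) = 2 ^ 3 * 3 ^ 2 by norm_num,
        Nat.factorization_mul (by norm_num) (by norm_num),
        Nat.Prime.factorization_pow Nat.prime_two, Nat.Prime.factorization_pow Nat.prime_three]
      simp
  constructor
  · intro Q
    have hQ : Nat.card Q = 9 := by rw [Q.card_eq_multiplicity, hcard, hfac.1]; norm_num
    have hQ3 : ∀ x ∈ (Q : Subgroup G), x ^ 3 = 1 := fun x hx => h9 x (by
      have h1 := pow_card_eq_one' (x := (⟨x, hx⟩ : (Q : Subgroup G)))
      rw [show Nat.card (Q : Subgroup G) = 9 from hQ] at h1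
      exact congrArg Subtype.val h1)
    have hset : ((Q : Subgroup G) : Set G) = {x : G | x ^ 3 = 1} := by
      refine Set.eq_of_subset_of_ncard_le hQ3 ?_ (Set.toFinite _)
      rw [h3count, ← Nat.card_coe_set_eq]
      exact le_of_eq hQ.symm
    refine ⟨⟨fun x hx g => ?_⟩, hQ, hQ3⟩
    have : g * x * g⁻¹ ∈ {x : G | x ^ 3 = 1} := by
      show (g * x * g⁻¹) ^ 3 = 1
      rw [conj_pow, hQ3 x hx, mul_one, mul_inv_cancel]
    rw [← hset] at this
    exact this
  · intro P
    have hmem : ∀ x : QuaternionGroup 2, ∃ y : G, φ y = permOf (quatElt x) := fun x => by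
      obtain ⟨-, hv', haut, himg, hfix⟩ := quat_mem x
      have : permOf (quatElt x) ∈ Set.range φ := by
        rw [hrange, ← std_list]; exact inStd_of hv' haut himg hfix
      exact this
    choose f hf using hmem
    have hcq : ∀ x, Code (quatElt x).1 (φ (f x)) := fun x => hf x ▸ code_permOf (quat_mem x).2.1
    let ψ : QuaternionGroup 2 →* G := MonoidHom.mk' f fun x y => hφ (by
      rw [map_mul]
      exact ((sameF_iff ((hcq x).cmp (hcq y)) (hcq (x * y))).1 (quat_hom x y)).symm)
    have hψ : Function.Injective ψ := fun x y h => by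
      have h' : f x = f y := h
      exact quat_inj x y ((sameF_iff (hcq x) (hcq y)).2 (by rw [h']))
    have hc8 : Nat.card ψ.range = 2 ^ (Nat.card G).factorization 2 := by
      rw [Nat.card_congr (MonoidHom.ofInjective hψ).toEquiv.symm, hcard, hfac.2,
        Nat.card_eq_fintype_card, QuaternionGroup.card]
      norm_num
    exact ⟨((P.equiv (Sylow.ofCard ψ.range hc8)).trans (MonoidHom.ofInjective hψ).symm)⟩

end Cfsg.Agent.Golay.Local
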