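import Cfsg.Agent.Lib.Golay.Local.Code

/-!
Straight-line versions of the mask and code primitives, fast in the kernel.
-/

namespace Cfsg.Agent.Golay.Local

open Cfsg Cfsg.Agent.PermCert

/-! ### Lists -/

/-- `List.all` by the recursor. -/
def allF {α : Type} (f : α → Bool) (l : List α) : Bool :=
  List.rec true (fun a _ ih => bif f a then ih else false) l

/-- `List.any` by the recursor. -/
def anyF {α : Type} (f : α → Bool) (l : List α) : Bool :=
  List.rec false (fun a _ ih => bif f a then true else ih) l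

theorem allF_iff {α : Type} {f : α → Bool} {l : List α} :
    allF f l = true ↔ ∀ a ∈ l, f a = true := by
  induction l with
  | nil => simp [allF]
  | cons a l ih =>
    show (bif f a then allF f l else false) = true ↔ _
    cases h : f a <;> simp [h, ih]

theorem anyF_iff {α : Type} {f : α → Bool} {l : List α} :
    anyF f l = true ↔ ∃ a ∈ l, f a = true := by
  induction l with
  | nil => simp [anyF]
  | cons a l ih =>
    show (bif f a then true else anyF f l) = true ↔ _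
    cases h : f a <;> simp [h, ih]

/-- Membership of a number in a list. -/
def memF (a : ℕ) (l : List ℕ) : Bool := anyF (fun x => Nat.beq x a) l

theorem memF_iff {a : ℕ} {l : List ℕ} : memF a l = true ↔ a ∈ l := by
  simp [memF, anyF_iff]

/-- Bit `i` of `m`. -/
def bitB (m i : ℕ) : Bool := Nat.beq (Nat.mod (Nat.shiftRight m i) 2) 1

theorem bitB_eq (m i : ℕ) : bitB m i = m.testBit i := by
  show Nat.beq (m >>> i % 2) 1 = _
  rw [Nat.shiftRight_eq_div_pow, Nat.testBit_eq_decide_div_mod_eq]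
  rcases Nat.mod_two_eq_zero_or_one (m / 2 ^ i) with h | h <;> rw [h] <;> rfl

/-! ### Codes -/

/-- Entry of a code. -/
def g5 (p i : ℕ) : ℕ := Nat.mod (Nat.shiftRight p (Nat.mul 5 i)) 32

theorem g5_eq (p i : ℕ) : g5 p i = get 5 p i := rfl

/-- The identity code. -/
def idC : ℕ := 984818244535754528103549039458486304

theorem idC_eq : idC = idCode 5 24 := by decide +kernel

/-- Composition of codes. -/
def cmpF (p q : ℕ) : ℕ :=
  (Nat.add (Nat.add (Nat.add (Nat.add (Nat.add (Nat.add (Nat.add (Nat.add (Nat.add (Nat.add (Nat.add (Nat.add (Nat.add (Nat.add (Nat.add (Nat.add (Nat.add (Nat.add (Nat.add (Nat.add (Nat.add (Nat.add (Nat.add (Nat.add 0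
    (Nat.shiftLeft (g5 p (g5 q 0)) 0))
    (Nat.shiftLeft (g5 p (g5 q 1)) 5))
    (Nat.shiftLeft (g5 p (g5 q 2)) 10))
    (Nat.shiftLeft (g5 p (g5 q 3)) 15))
    (Nat.shiftLeft (g5 p (g5 q 4)) 20))
    (Nat.shiftLeft (g5 p (g5 q 5)) 25))
    (Nat.shiftLeft (g5 p (g5 q 6)) 30))
    (Nat.shiftLeft (g5 p (g5 q 7)) 35))
    (Nat.shiftLeft (g5 p (g5 q 8)) 40))
    (Nat.shiftLeft (g5 p (g5 q 9)) 45))
    (Nat.shiftLeft (g5 p (g5 q 10)) 50))
    (Nat.shiftLeft (g5 p (g5 q 11)) 55))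
    (Nat.shiftLeft (g5 p (g5 q 12)) 60))
    (Nat.shiftLeft (g5 p (g5 q 13)) 65))
    (Nat.shiftLeft (g5 p (g5 q 14)) 70))
    (Nat.shiftLeft (g5 p (g5 q 15)) 75))
    (Nat.shiftLeft (g5 p (g5 q 16)) 80))
    (Nat.shiftLeft (g5 p (g5 q 17)) 85))
    (Nat.shiftLeft (g5 p (g5 q 18)) 90))
    (Nat.shiftLeft (g5 p (g5 q 19)) 95))
    (Nat.shiftLeft (g5 p (g5 q 20)) 100))
    (Nat.shiftLeft (g5 p (g5 q 21)) 105))
    (Nat.shiftLeft (g5 p (g5 q 22)) 110))
    (Nat.shiftLeft (g5 p (g5 q 23)) 115))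

theorem pack24 (f : ℕ → ℕ) : pack 5 f 24 =
  (Nat.add (Nat.add (Nat.add (Nat.add (Nat.add (Nat.add (Nat.add (Nat.add (Nat.add (Nat.add (Nat.add (Nat.add (Nat.add (Nat.add (Nat.add (Nat.add (Nat.add (Nat.add (Nat.add (Nat.add (Nat.add (Nat.add (Nat.add (Nat.add 0
    (Nat.shiftLeft (Nat.mod (f 0) 32) 0))
    (Nat.shiftLeft (Nat.mod (f 1) 32) 5))
    (Nat.shiftLeft (Nat.mod (f 2) 32) 10))
    (Nat.shiftLeft (Nat.mod (f 3) 32) 15))
    (Nat.shiftLeft (Nat.mod (f 4) 32) 20))
    (Nat.shiftLeft (Nat.mod (f 5) 32) 25))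
    (Nat.shiftLeft (Nat.mod (f 6) 32) 30))
    (Nat.shiftLeft (Nat.mod (f 7) 32) 35))
    (Nat.shiftLeft (Nat.mod (f 8) 32) 40))
    (Nat.shiftLeft (Nat.mod (f 9) 32) 45))
    (Nat.shiftLeft (Nat.mod (f 10) 32) 50))
    (Nat.shiftLeft (Nat.mod (f 11) 32) 55))
    (Nat.shiftLeft (Nat.mod (f 12) 32) 60))
    (Nat.shiftLeft (Nat.mod (f 13) 32) 65))
    (Nat.shiftLeft (Nat.mod (f 14) 32) 70))
    (Nat.shiftLeft (Nat.mod (f 15) 32) 75))
    (Nat.shiftLeft (Nat.mod (f 16) 32) 80))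
    (Nat.shiftLeft (Nat.mod (f 17) 32) 85))
    (Nat.shiftLeft (Nat.mod (f 18) 32) 90))
    (Nat.shiftLeft (Nat.mod (f 19) 32) 95))
    (Nat.shiftLeft (Nat.mod (f 20) 32) 100))
    (Nat.shiftLeft (Nat.mod (f 21) 32) 105))
    (Nat.shiftLeft (Nat.mod (f 22) 32) 110))
    (Nat.shiftLeft (Nat.mod (f 23) 32) 115)) := rfl

theorem g5_mod (p i : ℕ) : Nat.mod (g5 p i) 32 = g5 p i := Nat.mod_mod _ _

theorem cmpF_eq (p q : ℕ) : cmpF p q = PermCert.comp 5 24 p q := by
  show _ = pack 5 (fun i => g5 p (g5 q i)) 24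
  simp only [pack24, g5_mod]
  rfl

/-- Two codes list the same images. -/
def sameF (a b : ℕ) : Bool := Nat.beq (cmpF a idC) (cmpF b idC)

/-- The mask of the fixed positions of a code. -/
def fixF (e : ℕ) : ℕ :=
  (Nat.lor (Nat.lor (Nat.lor (Nat.lor (Nat.lor (Nat.lor (Nat.lor (Nat.lor (Nat.lor (Nat.lor (Nat.lor (Nat.lor (Nat.lor (Nat.lor (Nat.lor (Nat.lor (Nat.lor (Nat.lor (Nat.lor (Nat.lor (Nat.lor (Nat.lor (Nat.lor (Nat.lor 0
    (bif Nat.beq (g5 e 0) 0 then 1 else 0))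
    (bif Nat.beq (g5 e 1) 1 then 2 else 0))
    (bif Nat.beq (g5 e 2) 2 then 4 else 0))
    (bif Nat.beq (g5 e 3) 3 then 8 else 0))
    (bif Nat.beq (g5 e 4) 4 then 16 else 0))
    (bif Nat.beq (g5 e 5) 5 then 32 else 0))
    (bif Nat.beq (g5 e 6) 6 then 64 else 0))
    (bif Nat.beq (g5 e 7) 7 then 128 else 0))
    (bif Nat.beq (g5 e 8) 8 then 256 else 0))
    (bif Nat.beq (g5 e 9) 9 then 512 else 0))
    (bif Nat.beq (g5 e 10) 10 then 1024 else 0))
    (bif Nat.beq (g5 e 11) 11 then 2048 else 0))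
    (bif Nat.beq (g5 e 12) 12 then 4096 else 0))
    (bif Nat.beq (g5 e 13) 13 then 8192 else 0))
    (bif Nat.beq (g5 e 14) 14 then 16384 else 0))
    (bif Nat.beq (g5 e 15) 15 then 32768 else 0))
    (bif Nat.beq (g5 e 16) 16 then 65536 else 0))
    (bif Nat.beq (g5 e 17) 17 then 131072 else 0))
    (bif Nat.beq (g5 e 18) 18 then 262144 else 0))
    (bif Nat.beq (g5 e 19) 19 then 524288 else 0))
    (bif Nat.beq (g5 e 20) 20 then 1048576 else 0))
    (bif Nat.beq (g5 e 21) 21 then 2097152 else 0))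
    (bif Nat.beq (g5 e 22) 22 then 4194304 else 0))
    (bif Nat.beq (g5 e 23) 23 then 8388608 else 0))

/-! ### Masks -/

/-- Population of a nibble. -/
def nibPop (v : ℕ) : ℕ := Nat.mod (Nat.shiftRight 4841987667533046032 (Nat.mul 4 v)) 16

/-- Population of a mask. -/
def pcF (m : ℕ) : ℕ :=
  (Nat.add (Nat.add (Nat.add (Nat.add (Nat.add (nibPop (Nat.mod (Nat.shiftRight m 0) 16))
    (nibPop (Nat.mod (Nat.shiftRight m 4) 16)))
    (nibPop (Nat.mod (Nat.shiftRight m 8) 16)))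
    (nibPop (Nat.mod (Nat.shiftRight m 12) 16)))
    (nibPop (Nat.mod (Nat.shiftRight m 16) 16)))
    (nibPop (Nat.mod (Nat.shiftRight m 20) 16)))

/-- One elimination step. -/
def redStep (a k v : ℕ) : ℕ := Nat.xor a (Nat.mul (Nat.mod (Nat.shiftRight a k) 2) v)

/-- Membership of a mask in the code. -/
def inF (m : ℕ) : Bool :=
  Nat.beq (redStep (redStep (redStep (redStep (redStep (redStep (redStep (redStep (redStep (redStep (redStep (redStep m 23 8391797) 22 4196943) 21 2101096) 20 1050548) 19 525274) 18 262637) 17 133817) 16 69395) 15 36294) 14 18147) 13 10558) 12 5279) 0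

/-- Image of a mask by tables. -/
def imgF (T : Tab) (m : ℕ) : ℕ :=
  (Nat.lor (Nat.lor (Nat.lor (Nat.lor (Nat.lor (Nat.mod (Nat.shiftRight T.t0 (Nat.mul 24 (Nat.mod (Nat.shiftRight m 0) 16))) 16777216)
    (Nat.mod (Nat.shiftRight T.t1 (Nat.mul 24 (Nat.mod (Nat.shiftRight m 4) 16))) 16777216))
    (Nat.mod (Nat.shiftRight T.t2 (Nat.mul 24 (Nat.mod (Nat.shiftRight m 8) 16))) 16777216))
    (Nat.mod (Nat.shiftRight T.t3 (Nat.mul 24 (Nat.mod (Nat.shiftRight m 12) 16))) 16777216))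
    (Nat.mod (Nat.shiftRight T.t4 (Nat.mul 24 (Nat.mod (Nat.shiftRight m 16) 16))) 16777216))
    (Nat.mod (Nat.shiftRight T.t5 (Nat.mul 24 (Nat.mod (Nat.shiftRight m 20) 16))) 16777216))

theorem imgF_eq (T : Tab) (m : ℕ) : imgF T m = T.img m := by
  have h : ∀ x k : ℕ, Nat.shiftRight x k = x / 2 ^ k := Nat.shiftRight_eq_div_pow
  unfold imgF Tab.img PermCert.get
  simp only [h, Nat.shiftRight_eq_div_pow]
  rw [pow_zero, Nat.div_one]
  rfl

theorem nibPop_eq : ∀ v : Fin 16, nibPop v =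
    (bif v.val.testBit 0 then 1 else 0) + (bif v.val.testBit 1 then 1 else 0) +
      (bif v.val.testBit 2 then 1 else 0) + (bif v.val.testBit 3 then 1 else 0) := by decide +kernel

theorem popCount_succ (m n : ℕ) :
    popCount m (n + 1) = popCount m n + (bif m.testBit n then 1 else 0) := by
  show (bif m.testBit n then popCount m n + 1 else popCount m n) = _
  cases m.testBit n <;> rfl

theorem pcF_eq (m : ℕ) : pcF m = popCount m 24 := by
  have h : ∀ j, nibPop ((m >>> j) % 16) =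
      (bif m.testBit (j + 0) then 1 else 0) + (bif m.testBit (j + 1) then 1 else 0) +
        (bif m.testBit (j + 2) then 1 else 0) + (bif m.testBit (j + 3) then 1 else 0) := by
    intro j
    have h16 := nibPop_eq ⟨(m >>> j) % 16, Nat.mod_lt _ (by norm_num)⟩
    simp only at h16
    rw [h16]
    simp only [show (16 : ℕ) = 2 ^ 4 from rfl, Nat.testBit_mod_two_pow, Nat.testBit_shiftRight]
    simp
  show (Nat.add (Nat.add (Nat.add (Nat.add (Nat.add (nibPop ((m >>> 0) % 16))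
    (nibPop ((m >>> 4) % 16)))
    (nibPop ((m >>> 8) % 16)))
    (nibPop ((m >>> 12) % 16)))
    (nibPop ((m >>> 16) % 16)))
    (nibPop ((m >>> 20) % 16))) = _
  simp only [h, popCount_succ, Nat.add_eq]
  simp only [show popCount m 0 = 0 from rfl, Nat.reduceAdd]
  omega

theorem redStep_eq (a k v : ℕ) : redStep a k v = bif a.testBit k then a ^^^ v else a := by
  rw [← bitB_eq]
  show Nat.xor a (a >>> k % 2 * v) = bif Nat.beq (a >>> k % 2) 1 then _ else _
  rcases Nat.mod_two_eq_zero_or_one (a >>> k) with h | h <;> rw [h] <;> simp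
  rfl

theorem inF_eq (m : ℕ) : inF m = inCode m := by
  simp only [inF, inCode, gBasis, List.foldl_cons, List.foldl_nil, redStep_eq]

theorem pack_congr {w : ℕ} {f g : ℕ → ℕ} :
    ∀ {n}, (∀ i < n, f i = g i) → pack w f n = pack w g n := by
  intro n
  induction n with
  | zero => intro _; rfl
  | succ n ih => intro h; rw [pack_succ, pack_succ, ih fun i hi => h i (by omega), h n (by omega)]

/-- Codes with the same images compose alike. -/
theorem Code.cmpF_congr {a b c : ℕ} {σ ρ : Equiv.Perm GolayPt} (ha : Code a σ) (hb : Code b σ)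
    (hc : Code c ρ) : cmpF a c = cmpF b c := by
  rw [cmpF_eq, cmpF_eq]
  exact pack_congr fun i hi => by rw [ha.get (hc.lt hi), hb.get (hc.lt hi)]

theorem Code.cmp {a b : ℕ} {σ τ : Equiv.Perm GolayPt} (ha : Code a σ) (hb : Code b τ) :
    Code (cmpF a b) (σ * τ) := by
  rw [cmpF_eq]; exact ha.comp hb

theorem code_idC : Code idC 1 := idC_eq ▸ code_one

theorem sameF_iff {a b : ℕ} {σ τ : Equiv.Perm GolayPt} (ha : Code a σ) (hb : Code b τ) :
    sameF a b = true ↔ σ = τ := by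
  rw [sameF, Nat.beq_eq]
  constructor
  · intro h
    have h1 := ha.cmp code_idC
    rw [h, mul_one] at h1
    have h2 := hb.cmp code_idC
    rw [mul_one] at h2
    exact h1.unique h2
  · rintro rfl
    exact ha.cmpF_congr hb code_idC

theorem mkMask_step (f : ℕ → Bool) (n : ℕ) :
    mkMask f (n + 1) = Nat.lor (mkMask f n) (bif f n then 1 <<< n else 0) := by
  show (bif f n then mkMask f n ||| (1 <<< n) else mkMask f n) = _
  cases f n
  · exact (Nat.or_zero _).symm
  · rfl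

theorem fixF_eq (e : ℕ) : fixF e = mkMask (fun i => Nat.beq (g5 e i) i) 24 := by
  simp only [mkMask_step]
  rfl

/-- The fixed points of a code. -/
theorem Code.fixed {e : ℕ} {σ : Equiv.Perm GolayPt} (h : Code e σ) :
    (Finset.univ.filter fun p => σ p = p) = maskSet (fixF e) := by
  ext p
  rw [mem_maskSet, fixF_eq, testBit_mkMask]
  simp only [Finset.mem_filter, Finset.mem_univ, true_and, idx_lt, decide_true, Bool.true_and,
    Nat.beq_eq, g5_eq]
  rw [h]
  exact idx_injective.eq_iff.symm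

end Cfsg.Agent.Golay.Local
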