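import Cfsg.Agent.Lib.Golay.Local.Fast

/-! Search trees of orbit certificates, and their checkers. -/

namespace Cfsg.Agent.Golay.Local

open Cfsg Cfsg.Agent.PermCert

/-- An orbit certificate: each node has a key, a family, the generator and the key of the parent
producing it, and its depth. -/
inductive BT where
  | leaf
  | node (l : BT) (key : ℕ) (F : List ℕ) (gen par dep : ℕ) (r : BT)

/-- Lookup by key. -/
noncomputable def BT.find (t : BT) (k : ℕ) : Option (List ℕ × ℕ) :=
  BT.rec (motive := fun _ => Option (List ℕ × ℕ)) none
    (fun _ key F _ _ dep _ ihl ihr =>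
      bif Nat.beq k key then some (F, dep) else bif Nat.blt k key then ihl else ihr) t

/-- Every node satisfies `f`. -/
noncomputable def BT.allN (f : List ℕ → ℕ → ℕ → ℕ → Bool) (t : BT) : Bool :=
  BT.rec (motive := fun _ => Bool) true
    (fun _ _ F gen par dep _ ihl ihr => bif f F gen par dep then (bif ihl then ihr else false) else false) t

/-- The nodes. -/
inductive BT.Mem : List ℕ → ℕ → ℕ → ℕ → BT → Prop
  | here (l key F gen par dep r) : BT.Mem F gen par dep (.node l key F gen par dep r)
  | left {F gen par dep} (l key F' g' p' d' r) : BT.Mem F gen par dep l →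
      BT.Mem F gen par dep (.node l key F' g' p' d' r)
  | right {F gen par dep} (l key F' g' p' d' r) : BT.Mem F gen par dep r →
      BT.Mem F gen par dep (.node l key F' g' p' d' r)

theorem BT.find_mem : ∀ (t : BT) {k : ℕ} {F : List ℕ} {d : ℕ}, t.find k = some (F, d) →
    ∃ gen par, BT.Mem F gen par d t := by
  intro t
  induction t with
  | leaf => intro k F d h; cases h
  | node l key F' g' p' d' r ihl ihr =>
    intro k F d h
    change (bif Nat.beq k key then some (F', d') else bif Nat.blt k key then l.find k else r.find k) = _ at h
    cases h1 : Nat.beq k key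
    · rw [h1] at h
      cases h2 : Nat.blt k key
      · rw [h2] at h
        obtain ⟨g, p, hm⟩ := ihr h
        exact ⟨g, p, .right _ _ _ _ _ _ _ hm⟩
      · rw [h2] at h
        obtain ⟨g, p, hm⟩ := ihl h
        exact ⟨g, p, .left _ _ _ _ _ _ _ hm⟩
    · rw [h1] at h
      simp only [cond_true, Option.some.injEq, Prod.mk.injEq] at h
      obtain ⟨rfl, rfl⟩ := h
      exact ⟨g', p', .here _ _ _ _ _ _ _⟩

theorem BT.allN_spec {f : List ℕ → ℕ → ℕ → ℕ → Bool} : ∀ (t : BT), t.allN f = true →
    ∀ {F gen par dep}, BT.Mem F gen par dep t → f F gen par dep = true := by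
  intro t
  induction t with
  | leaf => intro _ F gen par dep hm; cases hm
  | node l key F' g' p' d' r ihl ihr =>
    intro h F gen par dep hm
    change (bif f F' g' p' d' then (bif l.allN f then r.allN f else false) else false) = true at h
    cases h1 : f F' g' p' d'
    · simp [h1] at h
    cases h2 : l.allN f
    · simp [h1, h2] at h
    cases hm with
    | here => exact h1
    | left _ _ _ _ _ _ _ hm => exact ihl h2 hm
    | right _ _ _ _ _ _ _ hm => exact ihr (by simpa [h1, h2] using h) hm

/-- A node is the root or the image of a shallower node. -/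
noncomputable def nodeOK (tabs : List Tab) (root : List ℕ) (t : BT) (F : List ℕ) (gen par dep : ℕ) : Bool :=
  allF (fun m => Nat.blt m 16777216) F &&
    bif Nat.beq dep 0 then allF (fun m => memF m root) F && allF (fun m => memF m F) root
    else
      match tabs[gen]?, t.find par with
      | some T, some (P, d) =>
        Nat.blt d dep && allF (fun m => memF (imgF T m) F) P &&
          allF (fun m => memF m (P.map (imgF T))) F
      | _, _ => false

/-- The tree consists of images of the root. -/
noncomputable def reachOK (tabs : List Tab) (root : List ℕ) (t : BT) : Bool := t.allN (nodeOK tabs root t)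

/-- Search key of a family. -/
def famKey (l : List ℕ) : ℕ := List.rec 0 (fun m _ ih => Nat.add (Nat.mul m m) ih) l

/-- Profile of a family against a reference family. -/
def prof (R l : List ℕ) : ℕ :=
  List.rec 0 (fun a _ ih => Nat.add
    (List.rec 0 (fun r _ ih' => Nat.add (Nat.pow (pcF (Nat.land a r)) 4) ih') R) ih) l

/-- Every member of `U` with profile `c` is in the tree. -/
noncomputable def coverOK (U : List (List ℕ)) (R : List ℕ) (c : ℕ) (t : BT) : Bool :=
  U |> allF fun l => !(Nat.beq (prof R l) c) ||
    match t.find (famKey l) with
    | some (F, _) => allF (fun m => memF m F) l && allF (fun m => memF m l) F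
    | none => false

/-- Counts of profiles. -/
def countProf (U : List (List ℕ)) (R : List ℕ) (c : ℕ) : ℕ :=
  List.rec 0 (fun l _ ih => bif Nat.beq (prof R l) c then Nat.succ ih else ih) U

theorem countProf_eq (U : List (List ℕ)) (R : List ℕ) (c : ℕ) :
    countProf U R c = (U.filter fun l => Nat.beq (prof R l) c).length := by
  induction U with
  | nil => rfl
  | cons l U ih =>
    show (bif Nat.beq (prof R l) c then Nat.succ (countProf U R c) else countProf U R c) = _
    cases h : Nat.beq (prof R l) c <;> simp [List.filter_cons, h, ih]

end Cfsg.Agent.Golay.Local
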