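import Cfsg.Agent.Lib.Golay.Local.Families
import Cfsg.Agent.Lib.Golay.Local.OrbitDefs

/-!
Orbits of stabilisers in the group of the code, from tree certificates and profiles.
-/

namespace Cfsg.Agent.Golay.Local

open Cfsg Cfsg.Agent.PermCert
open scoped Pointwise

/-- Profile of a family against a reference family. -/
def wProf (R F : Finset (Finset GolayPt)) : ℕ := ∑ a ∈ F, ∑ r ∈ R, (a ∩ r).card ^ 4

theorem wProf_smul (g : Equiv.Perm GolayPt) (R F : Finset (Finset GolayPt)) :
    wProf (g • R) (g • F) = wProf R F := by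
  unfold wProf
  rw [Finset.smul_finset_def, Finset.smul_finset_def,
    Finset.sum_image fun a _ b _ h => MulAction.injective g h]
  refine Finset.sum_congr rfl fun a _ => ?_
  rw [Finset.sum_image fun a _ b _ h => MulAction.injective g h]
  refine Finset.sum_congr rfl fun r _ => ?_
  rw [← Finset.smul_finset_inter, Finset.card_smul_finset]

theorem prof_eq {R l : List ℕ} (hR : famOK R = true) (hl : famOK l = true) :
    prof R l = wProf (famSet R) (famSet l) := by
  have hin : ∀ (a : ℕ) (R : List ℕ),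
      (List.rec 0 (fun r _ ih' => Nat.add (Nat.pow (pcF (Nat.land a r)) 4) ih') R : ℕ) =
        (R.map fun r => (maskSet a ∩ maskSet r).card ^ 4).sum := by
    intro a R
    induction R with
    | nil => rfl
    | cons r R ih =>
      rw [List.map_cons, List.sum_cons, ← ih, ← maskSet_and, card_maskSet, ← pcF_eq]
      rfl
  rw [wProf, sum_famSet hl]
  simp only [sum_famSet hR, ← hin]
  clear hl
  induction l with
  | nil => rfl
  | cons a l ih => rw [List.map_cons, List.sum_cons, ← ih]; rfl

/-- Tables of coded generators fixing a family. -/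
def gensOK (gens : List Elt) (tabs : List Tab) (R : List ℕ) : Bool :=
  Nat.beq gens.length tabs.length && (gens.zip tabs |> allF fun et =>
    validElt 5 24 et.1 && isAutB et.1 && Nat.beq et.2.t0 (mkTab et.1 0) &&
      Nat.beq et.2.t1 (mkTab et.1 1) && Nat.beq et.2.t2 (mkTab et.1 2) &&
      Nat.beq et.2.t3 (mkTab et.1 3) && Nat.beq et.2.t4 (mkTab et.1 4) &&
      Nat.beq et.2.t5 (mkTab et.1 5) && fixesFam et.2 R)

theorem gensOK_spec {gens : List Elt} {tabs : List Tab} {R : List ℕ} (hR : famOK R = true)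
    (h : gensOK gens tabs R = true) {i : ℕ} {T : Tab} (hi : tabs[i]? = some T) :
    ∃ e, T = tabOf e ∧ validElt 5 24 e = true ∧ permOf e ∈ M24 ∧
      permOf e • famSet R = famSet R := by
  simp only [gensOK, Bool.and_eq_true, Nat.beq_eq, allF_iff] at h
  obtain ⟨hlen, hall⟩ := h
  obtain ⟨hlt, rfl⟩ := List.getElem?_eq_some_iff.1 hi
  have hz : (gens[i]'(hlen ▸ hlt), tabs[i]) ∈ gens.zip tabs := by
    rw [List.mem_iff_getElem]
    exact ⟨i, by simp [hlen, hlt], by simp⟩
  obtain ⟨⟨⟨⟨⟨⟨⟨⟨hv, ha⟩, h0⟩, h1⟩, h2⟩, h3⟩, h4⟩, h5⟩, hfix⟩ := hall _ hz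
  refine ⟨gens[i]'(hlen ▸ hlt), ?_, hv, permOf_mem_M24 hv ha, ?_⟩
  · simp only at h0 h1 h2 h3 h4 h5
    cases hT : tabs[i]
    simp only [hT] at h0 h1 h2 h3 h4 h5
    simp [tabOf, h0, h1, h2, h3, h4, h5]
  · refine (fixesFam_iff hv hR).1 ?_
    have e : tabs[i] = tabOf (gens[i]'(hlen ▸ hlt)) := by
      simp only at h0 h1 h2 h3 h4 h5
      cases hT : tabs[i]
      simp only [hT] at h0 h1 h2 h3 h4 h5
      simp [tabOf, h0, h1, h2, h3, h4, h5]
    rw [← e]
    exact hfix

/-- The stabiliser of a family in the group of the code. -/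
abbrev famStab (R : Finset (Finset GolayPt)) : Subgroup M24 := MulAction.stabilizer M24 R

theorem famStab_mem {R : Finset (Finset GolayPt)} {g : M24} :
    g ∈ famStab R ↔ (g : Equiv.Perm GolayPt) • R = R := Iff.rfl

theorem orbit_step {G β : Type*} [Group G] [MulAction G β] {H : Subgroup G} {g : G} (hg : g ∈ H)
    {x y z : β} (hy : y ∈ MulAction.orbit H x) (h : g • y = z) : z ∈ MulAction.orbit H x := by
  obtain ⟨k, rfl⟩ := hy
  exact ⟨⟨g, hg⟩ * k, (mul_smul _ _ _).trans h⟩

attribute [local irreducible] famSet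

theorem reach_spec {gens : List Elt} {tabs : List Tab} {R root : List ℕ} (hR : famOK R = true)
    (hg : gensOK gens tabs R = true) {t : BT} (h : reachOK tabs root t = true) :
    ∀ {F gen par dep}, BT.Mem F gen par dep t →
      famSet F ∈ MulAction.orbit (famStab (famSet R)) (famSet root) := by
  suffices ∀ n, ∀ {F gen par dep}, BT.Mem F gen par dep t → dep = n →
      famSet F ∈ MulAction.orbit (famStab (famSet R)) (famSet root) from
    fun {F gen par dep} hm => this _ hm rfl
  intro n
  induction n using Nat.strong_induction_on with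
  | _ n ih =>
    intro F gen par dep hm hn
    have hok := BT.allN_spec t h hm
    simp only [nodeOK, Bool.and_eq_true, allF_iff, memF_iff] at hok
    obtain ⟨hlt, hok⟩ := hok
    cases hd : Nat.beq dep 0
    · rw [hd] at hok
      simp only [cond_false] at hok
      split at hok
      · rename_i T P d hT hP
        simp only [Bool.and_eq_true, allF_iff, memF_iff, Nat.blt_eq] at hok
        obtain ⟨⟨hdd, h1⟩, h2⟩ := hok
        obtain ⟨g', p', hmP⟩ := BT.find_mem t hP
        obtain ⟨e, rfl, hv, hM, hfix⟩ := gensOK_spec hR hg hT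
        obtain ⟨k, hk⟩ := ih d (hn ▸ hdd) hmP rfl
        have hPlt := BT.allN_spec t h hmP
        simp only [nodeOK, Bool.and_eq_true, allF_iff, Nat.blt_eq] at hPlt
        have himg : permOf e • famSet P = famSet F := by
          rw [famSet_smul hv fun m hm => by simpa using hPlt.1 m hm]
          refine famSet_congr ?_
          simp only [sameFam, Bool.and_eq_true, allF_iff, memF_iff]
          refine ⟨fun m hm => ?_, fun m hm => ?_⟩
          · obtain ⟨x, hx, rfl⟩ := List.mem_map.1 hm
            rw [← imgF_eq]; exact h1 x hx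
          · obtain ⟨x, hx, rfl⟩ := List.mem_map.1 (h2 m hm)
            exact List.mem_map.2 ⟨x, hx, (imgF_eq _ _).symm⟩
        have hs : (⟨permOf e, hM⟩ : M24) ∈ famStab (famSet R) := MulAction.mem_stabilizer_iff.2 hfix
        exact orbit_step hs ⟨k, hk⟩ ((Subgroup.smul_def (⟨permOf e, hM⟩ : M24) (famSet P)).trans himg)
      · simp at hok
    · rw [hd] at hok
      simp only [cond_true, Bool.and_eq_true, allF_iff, memF_iff] at hok
      have : famSet F = famSet root := famSet_congr (by
        simp only [sameFam, Bool.and_eq_true, allF_iff, memF_iff]; exact hok)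
      rw [this]; exact MulAction.mem_orbit_self _

/-- A verified list of the members of a set of families, permuted by the group. -/
structure Univ where
  set : Set (Finset (Finset GolayPt))
  list : List (List ℕ)
  ok : ∀ l ∈ list, famOK l = true
  mem : ∀ {X}, X ∈ set ↔ ∃ l ∈ list, famSet l = X
  count : ∀ (P : Finset (Finset GolayPt) → Prop) (b : List ℕ → Bool),
    (∀ l ∈ list, b l = true ↔ P (famSet l)) → {X | X ∈ set ∧ P X}.ncard = (list.filter b).length
  smul : ∀ g ∈ M24, ∀ X ∈ set, g • X ∈ set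

theorem smul_mem_sextets {g : Equiv.Perm GolayPt} (hg : g ∈ M24) {S : Finset (Finset GolayPt)}
    (hS : S ∈ sextets) : g • S ∈ sextets := by
  refine ⟨by rw [Finset.card_smul_finset]; exact hS.1, fun t ht => ?_, fun t ht u hu hne => ?_⟩
  · obtain ⟨t, ht', rfl⟩ := Finset.mem_smul_finset.1 ht
    rw [Finset.card_smul_finset]; exact hS.2.1 t ht'
  · obtain ⟨t, ht', rfl⟩ := Finset.mem_smul_finset.1 ht
    obtain ⟨u, hu', rfl⟩ := Finset.mem_smul_finset.1 hu
    rw [← Finset.smul_finset_union]
    exact smul_mem_octads hg (hS.2.2 t ht' u hu' fun e => hne (by rw [e]))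

theorem smul_mem_trios {g : Equiv.Perm GolayPt} (hg : g ∈ M24) {T : Finset (Finset GolayPt)}
    (hT : T ∈ trios) : g • T ∈ trios := by
  refine ⟨by rw [Finset.card_smul_finset]; exact hT.1, fun t ht => ?_, fun t ht u hu hne => ?_⟩
  · obtain ⟨t, ht', rfl⟩ := Finset.mem_smul_finset.1 ht
    exact smul_mem_octads hg (hT.2.1 t ht')
  · obtain ⟨t, ht', rfl⟩ := Finset.mem_smul_finset.1 ht
    obtain ⟨u, hu', rfl⟩ := Finset.mem_smul_finset.1 hu
    rw [Finset.disjoint_iff_inter_eq_empty, ← Finset.smul_finset_inter,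
      Finset.disjoint_iff_inter_eq_empty.1 (hT.2.2 t ht' u hu' fun e => hne (by rw [e])),
      Finset.smul_finset_empty]

/-- Sextets. -/
def sexUniv : Univ where
  set := sextets
  list := sexLit
  ok := fun l hl => (sexLit_spec hl).1
  mem := mem_sextets
  count := ncard_filter_sextets
  smul := fun _ hg _ hX => smul_mem_sextets hg hX

/-- Trios. -/
def triUniv : Univ where
  set := trios
  list := triList
  ok := fun l hl => (triList_spec hl).1
  mem := mem_trios
  count := ncard_filter_trios
  smul := fun _ hg _ hX => smul_mem_trios hg hX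

theorem famSet_single (m : ℕ) : famSet [m] = {maskSet m} := by simp [famSet]

/-- Octads, as one-member families. -/
def octUniv : Univ where
  set := (fun o => {o}) '' octads
  list := octLit.map fun m => [m]
  ok := fun l hl => by
    obtain ⟨m, hm, rfl⟩ := List.mem_map.1 hl
    simp only [famOK, Bool.and_eq_true, allF_iff, List.mem_singleton, Nat.blt_eq]
    exact ⟨rfl, fun x hx => by subst hx; simpa using octLit_lt hm⟩
  mem := fun {X} => by
    simp only [Set.mem_image, mem_octads', List.mem_map]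
    constructor
    · rintro ⟨_, ⟨m, hm, rfl⟩, rfl⟩; exact ⟨[m], ⟨m, hm, rfl⟩, famSet_single m⟩
    · rintro ⟨_, ⟨m, hm, rfl⟩, rfl⟩; exact ⟨_, ⟨m, hm, rfl⟩, (famSet_single m).symm⟩
  count := fun P b h => by
    rw [List.filter_map, List.length_map,
      ← ncard_filter_octads (fun o => P {o}) (b ∘ fun m => [m]) fun m hm => by
        rw [← famSet_single]; exact h [m] (List.mem_map.2 ⟨m, hm, rfl⟩)]
    rw [← Set.ncard_image_of_injective {o | o ∈ octads ∧ P {o}}
      (Finset.singleton_injective (α := Finset GolayPt))]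
    congr 1
    ext X
    simp only [Set.mem_ofPred_eq, Set.mem_image]
    exact ⟨fun ⟨⟨o, ho, e⟩, hp⟩ => ⟨o, ⟨ho, e ▸ hp⟩, e⟩,
      fun ⟨o, ⟨ho, hp⟩, e⟩ => ⟨⟨o, ho, e⟩, e ▸ hp⟩⟩
  smul := fun g hg X hX => by
    obtain ⟨o, ho, rfl⟩ := hX
    exact ⟨g • o, smul_mem_octads hg ho, (Finset.smul_finset_singleton o).symm⟩

/-- Full check of one orbit. -/
noncomputable def orbitOK (tabs : List Tab) (U : List (List ℕ)) (R root : List ℕ) (c n : ℕ) (t : BT) : Bool :=
  reachOK tabs root t && coverOK U R c t && Nat.beq (prof R root) c &&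
    Nat.beq (countProf U R c) n && anyF (fun l => sameFam l root) U

theorem orbit_spec (U : Univ) {gens : List Elt} {tabs : List Tab} {R root : List ℕ}
    (hR : famOK R = true) (hroot : famOK root = true) (hg : gensOK gens tabs R = true) {c n : ℕ}
    {t : BT} (h : orbitOK tabs U.list R root c n t = true) :
    famSet root ∈ U.set ∧
      MulAction.orbit (famStab (famSet R)) (famSet root) =
        {X | X ∈ U.set ∧ wProf (famSet R) X = c} ∧
      (MulAction.orbit (famStab (famSet R)) (famSet root)).ncard = n := by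
  simp only [orbitOK, Bool.and_eq_true, Nat.beq_eq, anyF_iff] at h
  obtain ⟨⟨⟨⟨hreach, hcover⟩, hprof⟩, hcount⟩, l0, hl0, hsame⟩ := h
  have hmem : famSet root ∈ U.set := U.mem.2 ⟨l0, hl0, famSet_congr hsame⟩
  rw [prof_eq hR hroot] at hprof
  have heq : MulAction.orbit (famStab (famSet R)) (famSet root) =
      {X | X ∈ U.set ∧ wProf (famSet R) X = c} := by
    apply Set.Subset.antisymm
    · rintro X ⟨⟨⟨g, hgM⟩, hgs⟩, rfl⟩
      refine ⟨U.smul g hgM _ hmem, ?_⟩
      show wProf (famSet R) (g • famSet root) = c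
      conv_lhs => rw [← famStab_mem.1 hgs]
      rw [wProf_smul]; exact hprof
    · rintro X ⟨hX, hc⟩
      obtain ⟨l, hl, rfl⟩ := U.mem.1 hX
      have h1 := allF_iff.1 hcover l hl
      rw [prof_eq hR (U.ok l hl), hc, Nat.beq_refl] at h1
      simp only [Bool.not_true, Bool.false_or] at h1
      split at h1
      · rename_i F d hF
        obtain ⟨g', p', hm⟩ := BT.find_mem t hF
        rw [famSet_congr (a := l) (b := F) h1]
        exact reach_spec hR hg hreach hm
      · simp at h1
  refine ⟨hmem, heq, ?_⟩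
  rw [heq, U.count (fun X => wProf (famSet R) X = c) (fun l => Nat.beq (prof R l) c) fun l hl => by
    rw [prof_eq hR (U.ok l hl), Nat.beq_eq], ← countProf_eq]
  exact hcount

/-- The profiles are among the listed values. -/
def valuesOK (U : List (List ℕ)) (R : List ℕ) (cs : List ℕ) : Bool := U |> allF fun l => memF (prof R l) cs

theorem values_spec (U : Univ) {R : List ℕ} (hR : famOK R = true) {cs : List ℕ}
    (h : valuesOK U.list R cs = true) {X : Finset (Finset GolayPt)} (hX : X ∈ U.set) :
    wProf (famSet R) X ∈ cs := by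
  obtain ⟨l, hl, rfl⟩ := U.mem.1 hX
  rw [← prof_eq hR (U.ok l hl)]
  exact memF_iff.1 (allF_iff.1 h l hl)

/-! ### Moving stabilisers -/

theorem orbit_stab_smul {G α β : Type*} [Group G] [MulAction G α] [MulAction G β] (g : G) (a : α)
    (x : β) : MulAction.orbit ↥(MulAction.stabilizer G (g • a)) (g • x) =
      (g • ·) '' MulAction.orbit ↥(MulAction.stabilizer G a) x := by
  ext y
  constructor
  · rintro ⟨⟨h, hh⟩, rfl⟩
    refine ⟨g⁻¹ • h • g • x, ⟨⟨g⁻¹ * h * g, ?_⟩, ?_⟩, smul_inv_smul g _⟩
    · rw [MulAction.mem_stabilizer_iff, mul_smul, mul_smul, MulAction.mem_stabilizer_iff.1 hh,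
        inv_smul_smul]
    · show (g⁻¹ * h * g) • x = _
      rw [mul_smul, mul_smul]
  · rintro ⟨_, ⟨⟨h, hh⟩, rfl⟩, rfl⟩
    refine ⟨⟨g * h * g⁻¹, ?_⟩, ?_⟩
    · rw [MulAction.mem_stabilizer_iff, mul_smul, mul_smul, inv_smul_smul,
        MulAction.mem_stabilizer_iff.1 hh]
    · show (g * h * g⁻¹) • g • x = g • h • x
      rw [mul_smul, mul_smul, inv_smul_smul]

theorem orbit_ncard_smul {G α β : Type*} [Group G] [MulAction G α] [MulAction G β] (g : G) (a : α)
    (x : β) : (MulAction.orbit ↥(MulAction.stabilizer G (g • a)) (g • x)).ncard =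
      (MulAction.orbit ↥(MulAction.stabilizer G a) x).ncard := by
  rw [orbit_stab_smul, Set.ncard_image_of_injective _ (MulAction.injective g)]

theorem stab_singleton (s : Finset GolayPt) :
    MulAction.stabilizer M24 ({s} : Finset (Finset GolayPt)) = MulAction.stabilizer M24 s := by
  ext g
  simp only [MulAction.mem_stabilizer_iff, Finset.smul_finset_singleton, Finset.singleton_inj]

theorem orbit_singleton (H : Subgroup M24) (o : Finset GolayPt) :
    MulAction.orbit H ({o} : Finset (Finset GolayPt)) = (fun s => {s}) '' MulAction.orbit H o := by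
  ext X
  constructor
  · rintro ⟨h, rfl⟩; exact ⟨h • o, ⟨h, rfl⟩, (Finset.smul_finset_singleton o).symm⟩
  · rintro ⟨_, ⟨h, rfl⟩, rfl⟩; exact ⟨h, Finset.smul_finset_singleton o⟩

end Cfsg.Agent.Golay.Local
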