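import Cfsg.Agent.Lib.Golay.Local.Classes
import Cfsg.Agent.Lib.Golay.Local.Orbits

/-! Structures fixed by the representatives of the small classes. -/

namespace Cfsg.Agent.Golay.Local

open Cfsg Cfsg.Agent.PermCert
open scoped Pointwise

/-- Tables of an element of the code's group as literal numbers are not needed: number of families
of a list fixed by it. -/
def fixCount (T : Tab) (U : List (List ℕ)) : ℕ :=
  List.rec 0 (fun l _ ih => bif fixesFam T l then Nat.succ ih else ih) U

theorem fixCount_eq (T : Tab) (U : List (List ℕ)) :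
    fixCount T U = (U.filter fun l => fixesFam T l).length := by
  induction U with
  | nil => rfl
  | cons l U ih =>
    show (bif fixesFam T l then Nat.succ (fixCount T U) else fixCount T U) = _
    cases h : fixesFam T l <;> simp [List.filter_cons, h, ih]

theorem ncard_fix (U : Univ) {e : Elt} (he : validElt 5 24 e = true) :
    {X | X ∈ U.set ∧ permOf e • X = X}.ncard = fixCount (tabOf e) U.list := by
  rw [fixCount_eq, U.count (fun X => permOf e • X = X) (fun l => fixesFam (tabOf e) l)
    fun l hl => fixesFam_iff he (U.ok l hl)]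

theorem mem_iff_smul_mem (U : Univ) {k : Equiv.Perm GolayPt} (hk : k ∈ M24) (X : Finset (Finset GolayPt)) :
    k • X ∈ U.set ↔ X ∈ U.set :=
  ⟨fun h => by simpa using U.smul k⁻¹ (inv_mem hk) _ h, U.smul k hk X⟩

theorem ncard_fix_conj' (U : Univ) {e : Elt} (he : validElt 5 24 e = true)
    {k : Equiv.Perm GolayPt} (hk : k ∈ M24) :
    {X | X ∈ U.set ∧ (k * permOf e * k⁻¹) • X = X}.ncard = fixCount (tabOf e) U.list := by
  rw [ncard_fix_conj k _ U.set (mem_iff_smul_mem U hk), ncard_fix U he]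

theorem ncard_fix_octads {e : Elt} (he : validElt 5 24 e = true) {k : Equiv.Perm GolayPt} (hk : k ∈ M24) :
    {o | o ∈ octads ∧ (k * permOf e * k⁻¹) • o = o}.ncard =
      fixCount (tabOf e) octUniv.list := by
  rw [← ncard_fix_conj' octUniv he hk,
    ← Set.ncard_image_of_injective {o | o ∈ octads ∧ (k * permOf e * k⁻¹) • o = o}
      (Finset.singleton_injective (α := Finset GolayPt))]
  congr 1
  ext X
  simp only [Set.mem_image, Set.mem_ofPred_eq]
  constructor
  · rintro ⟨o, ⟨ho, hfix⟩, rfl⟩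
    exact ⟨⟨o, ho, rfl⟩, by rw [Finset.smul_finset_singleton, hfix]⟩
  · rintro ⟨hX, hfix⟩
    obtain ⟨o, ho, rfl⟩ := hX
    rw [Finset.smul_finset_singleton, Finset.singleton_inj] at hfix
    exact ⟨o, ⟨ho, hfix⟩, rfl⟩

/-- Number of dodecads fixed. -/
def fixDod (T : Tab) : ℕ :=
  List.rec 0 (fun m _ ih => bif Nat.beq (pcF m) 12 && Nat.beq (imgF T m) m then Nat.succ ih else ih) codeList

theorem ncard_fix_dodecads {e : Elt} (he : validElt 5 24 e = true) {k : Equiv.Perm GolayPt}
    (hk : k ∈ M24) :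
    {d | d ∈ dodecads ∧ (k * permOf e * k⁻¹) • d = d}.ncard = fixDod (tabOf e) := by
  rw [ncard_fix_conj k _ dodecads fun X => ⟨fun h => by simpa using smul_mem_dodecads (inv_mem hk) h,
    smul_mem_dodecads hk⟩]
  have hc : ∀ l : List ℕ,
      (List.rec 0 (fun m _ ih => bif Nat.beq (pcF m) 12 && Nat.beq (imgF (tabOf e) m) m then Nat.succ ih else ih) l : ℕ) =
        (l.filter fun m => Nat.beq (pcF m) 12 && Nat.beq (imgF (tabOf e) m) m).length := by
    intro l
    induction l with
    | nil => rfl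
    | cons m l ih =>
      cases h : (Nat.beq (pcF m) 12 && Nat.beq (imgF (tabOf e) m) m) <;>
        simp only [List.filter_cons, h, cond_true, cond_false, ih] <;> rfl
  rw [fixDod, hc, ← ncard_image_maskSet (codeList_nodup.filter _)
    (fun m hm => lt_of_mem_codeList (List.mem_filter.1 hm).1)]
  congr 1
  ext s
  simp only [Set.mem_ofPred_eq, List.mem_filter, Bool.and_eq_true, Nat.beq_eq, imgF_eq, pcF_eq]
  constructor
  · rintro ⟨hs, hfix⟩
    obtain ⟨m, hm, rfl⟩ := mem_dodecads.1 hs
    have hlt := lt_of_mem_dodecadList hm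
    obtain ⟨hm1, hm2⟩ := mem_dodecadList.1 hm
    rw [smul_maskSet he hlt] at hfix
    exact ⟨m, ⟨hm1, hm2, maskSet_inj (tab_img_lt e hlt) hlt hfix⟩, rfl⟩
  · rintro ⟨m, ⟨hm1, hm2, hm3⟩, rfl⟩
    exact ⟨mem_dodecads.2 ⟨m, mem_dodecadList.2 ⟨hm1, hm2⟩, rfl⟩,
      by rw [smul_maskSet he (lt_of_mem_codeList hm1), hm3]⟩

end Cfsg.Agent.Golay.Local
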