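import Cfsg.Agent.Lib.Golay.Local.StdObjects
import Mathlib.GroupTheory.Perm.Sign

/-! Permutations of the members of a family induced by its stabiliser. -/

namespace Cfsg.Agent.Golay.Local

open Cfsg Cfsg.Agent.PermCert
open scoped Pointwise

attribute [local irreducible] famSet

theorem smul_mem_of_stab {S : Finset (Finset GolayPt)} {h : M24} (hh : h • S = S) {t : Finset GolayPt}
    (ht : t ∈ S) : h • t ∈ S :=
  hh ▸ Finset.smul_mem_smul_finset ht

/-- The permutation of the members induced by the stabiliser. -/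
def induced (S : Finset (Finset GolayPt)) : MulAction.stabilizer M24 S →* Equiv.Perm ↥S where
  toFun h :=
    { toFun := fun t => ⟨(h : M24) • (t : Finset GolayPt), smul_mem_of_stab h.2 t.2⟩
      invFun := fun t => ⟨(h : M24)⁻¹ • (t : Finset GolayPt), smul_mem_of_stab (h⁻¹).2 t.2⟩
      left_inv := fun t => Subtype.ext (inv_smul_smul (h : M24) (t : Finset GolayPt))
      right_inv := fun t => Subtype.ext (smul_inv_smul (h : M24) (t : Finset GolayPt)) }
  map_one' := Equiv.ext fun t => Subtype.ext (one_smul M24 (t : Finset GolayPt))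
  map_mul' a b := Equiv.ext fun t => Subtype.ext (mul_smul (a : M24) (b : M24) (t : Finset GolayPt))

theorem induced_apply (S : Finset (Finset GolayPt)) (h : MulAction.stabilizer M24 S) (t : ↥S) :
    ((induced S h t : ↥S) : Finset GolayPt) = (h : M24) • (t : Finset GolayPt) := rfl

/-- All transpositions of the members are induced. -/
def Swaps (S : Finset (Finset GolayPt)) : Prop :=
  ∀ s ∈ S, ∀ t ∈ S, s ≠ t → ∃ g : M24, g • S = S ∧ g • s = t ∧ g • t = s ∧ ∀ u ∈ S, u ≠ s → u ≠ t → g • u = u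

theorem induced_surjective {S : Finset (Finset GolayPt)} (h : Swaps S) : Function.Surjective (induced S) := by
  classical
  rw [← MonoidHom.range_eq_top, eq_top_iff, ← Equiv.Perm.closure_isSwap, Subgroup.closure_le]
  rintro _ ⟨⟨s, hs⟩, ⟨t, ht⟩, hne, rfl⟩
  obtain ⟨g, g1, g2, g3, g4⟩ := h s hs t ht fun e => hne (Subtype.ext e)
  refine ⟨⟨g, g1⟩, Equiv.ext fun u => Subtype.ext ?_⟩
  rw [induced_apply]
  by_cases h1 : u = ⟨s, hs⟩
  · subst h1; rw [Equiv.swap_apply_left]; exact g2
  by_cases h2 : u = ⟨t, ht⟩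
  · subst h2; rw [Equiv.swap_apply_right]; exact g3
  rw [Equiv.swap_apply_of_ne_of_ne h1 h2]
  exact g4 u u.2 (fun e => h1 (Subtype.ext e)) (fun e => h2 (Subtype.ext e))

theorem Swaps.move {S : Finset (Finset GolayPt)} (h : Swaps S) (g : M24) : Swaps (g • S) := by
  intro s hs t ht hne
  obtain ⟨s, hs', rfl⟩ := Finset.mem_smul_finset.1 hs
  obtain ⟨t, ht', rfl⟩ := Finset.mem_smul_finset.1 ht
  obtain ⟨k, k1, k2, k3, k4⟩ := h s hs' t ht' fun e => hne (by rw [e])
  refine ⟨g * k * g⁻¹, ?_, ?_, ?_, ?_⟩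
  · rw [mul_smul, mul_smul, inv_smul_smul, k1]
  · rw [mul_smul, mul_smul, inv_smul_smul, k2]
  · rw [mul_smul, mul_smul, inv_smul_smul, k3]
  · intro u hu hu1 hu2
    obtain ⟨u, hu', rfl⟩ := Finset.mem_smul_finset.1 hu
    rw [mul_smul, mul_smul, inv_smul_smul, k4 u hu' (fun e => hu1 (by rw [e])) (fun e => hu2 (by rw [e]))]

/-- A coded element of the group. -/
def eltOK (e : Elt) : Bool := validElt 5 24 e && isAutB e

/-- The group element of a code. -/
noncomputable def gOf (e : Elt) : M24 := if h : eltOK e = true then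
  ⟨permOf e, by simp only [eltOK, Bool.and_eq_true] at h; exact permOf_mem_M24 h.1 h.2⟩ else 1

theorem gOf_val {e : Elt} (h : eltOK e = true) : (gOf e : Equiv.Perm GolayPt) = permOf e := by
  rw [gOf, dif_pos h]

theorem code_gOf {e : Elt} (h : eltOK e = true) : Code e.1 (gOf e : Equiv.Perm GolayPt) := by
  rw [gOf_val h]
  simp only [eltOK, Bool.and_eq_true] at h
  exact code_permOf h.1

theorem gOf_smul_maskSet {e : Elt} (h : eltOK e = true) (m : ℕ) :
    gOf e • maskSet m = maskSet (imgMask e m) := by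
  rw [Subgroup.smul_def, gOf_val h]
  simp only [eltOK, Bool.and_eq_true] at h
  exact maskSet_imgMask h.1 m

theorem gOf_smul_famSet {e : Elt} (h : eltOK e = true) (l : List ℕ) :
    gOf e • famSet l = famSet (l.map (imgMask e)) := by
  ext s
  simp only [Finset.mem_smul_finset, mem_famSet, List.mem_map]
  constructor
  · rintro ⟨_, ⟨m, hm, rfl⟩, rfl⟩
    exact ⟨_, ⟨m, hm, rfl⟩, (gOf_smul_maskSet h m).symm⟩
  · rintro ⟨_, ⟨m, hm, rfl⟩, rfl⟩
    exact ⟨_, ⟨m, hm, rfl⟩, gOf_smul_maskSet h m⟩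

/-- The member sent to the member with index `p.getD i`. -/
def mapsB (R : List ℕ) (e : Elt) (p : List ℕ) : Bool :=
  eltOK e && sameFam (R.map (imgMask e)) R &&
    allF (fun i => Nat.beq (imgMask e (R.getD i 0)) (R.getD (p.getD i 0) 0)) (List.range R.length)

theorem mapsB_spec {R : List ℕ} {e : Elt} {p : List ℕ} (h : mapsB R e p = true) :
    eltOK e = true ∧ gOf e • famSet R = famSet R ∧
      ∀ i < R.length, gOf e • maskSet (R.getD i 0) = maskSet (R.getD (p.getD i 0) 0) := by
  simp only [mapsB, Bool.and_eq_true, allF_iff, List.mem_range, Nat.beq_eq] at h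
  refine ⟨h.1.1, ?_, fun i hi => ?_⟩
  · rw [gOf_smul_famSet h.1.1, famSet_congr h.1.2]
  · rw [gOf_smul_maskSet h.1.1, h.2 i hi]

theorem natCard_stabilizer_eq {S : Finset (Finset GolayPt)} {N k : ℕ} (hN : (MulAction.orbit M24 S).ncard = N)
    (h : N * k = 244823040) (hN0 : 0 < N) : Nat.card (MulAction.stabilizer M24 S) = k := by
  have h1 := Subgroup.index_mul_card (MulAction.stabilizer M24 S)
  rw [MulAction.index_stabilizer, hN, card_M24, ← h] at h1
  exact Nat.eq_of_mul_eq_mul_left hN0 h1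

end Cfsg.Agent.Golay.Local
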