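import Cfsg.Agent.Lib.Golay.PrimeNormalizer
import Mathlib.GroupTheory.Sylow

/-! The projective special linear group over twenty-three elements in the group of the code, and the maximality
of the normaliser of a Sylow subgroup for twenty-three in the one-point stabiliser. -/

namespace Cfsg.Agent.Golay.L223

open Cfsg Cfsg.Agent.PermCert Cfsg.Agent.Golay Cfsg.Agent.Golay.SB

local notation "Pm" => Equiv.Perm GolayPt

/-- Translation by one. -/
abbrev T : Pm := Equiv.optionCongr (Equiv.addRight (1 : ZMod 23))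

/-- Two as a unit. -/
def u2 : (ZMod 23)ˣ := ⟨2, 12, by decide, by decide⟩

/-- An affine map with square multiplier. -/
def aff (k : Fin 11) (b : ZMod 23) : Pm :=
  Equiv.optionCongr ((Units.mulLeft (u2 ^ (k : ℕ))).trans (Equiv.addRight b))

/-- Representatives of the cosets of the affine maps. -/
def rr : GolayPt → Pm
  | none => 1
  | some b => aff 0 b * projInv

/-- Multiplication by two. -/
abbrev M : Pm := aff 1 0

theorem aff_none (k : Fin 11) (b : ZMod 23) : aff k b none = none := rfl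

theorem aff_some (k : Fin 11) (b x : ZMod 23) : aff k b (some x) = some (u2 ^ (k : ℕ) * x + b) := by
  simp [aff, Equiv.optionCongr, Units.mulLeft]

theorem rr_none : ∀ p, rr p none = p := by decide +kernel

theorem aff_mul (k l : Fin 11) (b c : ZMod 23) :
    aff k b * aff l c = aff (k + l) ((u2 : ZMod 23) ^ (k : ℕ) * c + b) := by
  have h11 : (u2 : ZMod 23) ^ 11 = 1 := by decide +kernel
  refine Equiv.ext fun q => ?_
  rcases q with _ | x
  · rfl
  · rw [Equiv.Perm.mul_apply, aff_some, aff_some, aff_some, Fin.val_add]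
    congr 1
    rw [← pow_eq_pow_mod _ h11, pow_add]; ring

theorem aff_zero : aff 0 0 = 1 := by decide +kernel

theorem aff_inj : Function.Injective fun x : Fin 11 × ZMod 23 => aff x.1 x.2 := by
  have h : ∀ k l : Fin 11, (u2 : ZMod 23) ^ (k : ℕ) = u2 ^ (l : ℕ) → k = l := by decide +kernel
  rintro ⟨k, b⟩ ⟨l, c⟩ e
  have e0 := Equiv.ext_iff.1 e (some 0)
  have e1 := Equiv.ext_iff.1 e (some 1)
  rw [aff_some, aff_some] at e0 e1
  simp only [mul_zero, zero_add, Option.some.injEq, mul_one] at e0 e1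
  subst e0
  rw [h k l (add_right_cancel e1)]

theorem square_pow : ∀ r : (ZMod 23)ˣ, ∃ k : Fin 11, ((r * r : (ZMod 23)ˣ) : ZMod 23) = u2 ^ (k : ℕ) := by
  decide +kernel

/-- The generators fixing the extra point. -/
abbrev genInf : Set Pm := {T} ∪ {g : Pm | ∃ u : (ZMod 23)ˣ, IsSquare u ∧ g = Equiv.optionCongr (Units.mulLeft u)}

/-- All generators. -/
abbrev genAll : Set Pm := {T, projInv} ∪ {g : Pm | ∃ u : (ZMod 23)ˣ, IsSquare u ∧ g = Equiv.optionCongr (Units.mulLeft u)}

theorem T_eq : T = aff 0 1 := by decide +kernel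

theorem mul_eq {u : (ZMod 23)ˣ} (h : IsSquare u) :
    ∃ k, Equiv.optionCongr (Units.mulLeft u) = aff k 0 := by
  obtain ⟨r, rfl⟩ := h
  obtain ⟨k, hk⟩ := square_pow r
  refine ⟨k, Equiv.ext fun q => ?_⟩
  rcases q with _ | x
  · rfl
  · rw [aff_some, add_zero, ← hk]; rfl

theorem gen_aff {g : Pm} (h : g ∈ genInf) : ∃ k b, g = aff k b := by
  rcases h with rfl | ⟨u, hu, rfl⟩
  · exact ⟨0, 1, T_eq⟩
  · obtain ⟨k, hk⟩ := mul_eq hu; exact ⟨k, 0, hk⟩

theorem u2_square : IsSquare u2 := ⟨⟨5, 14, by decide, by decide⟩, by decide +kernel⟩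

theorem aff_mem (k : Fin 11) (b : ZMod 23) : aff k b ∈ Subgroup.closure genInf := by
  have hT : T ∈ Subgroup.closure genInf := Subgroup.subset_closure (Or.inl rfl)
  have hM : M ∈ Subgroup.closure genInf := by
    refine Subgroup.subset_closure (Or.inr ⟨u2, u2_square, ?_⟩)
    decide +kernel
  have hk : ∀ n : ℕ, ∀ k : Fin 11, (k : ℕ) = n → aff k 0 ∈ Subgroup.closure genInf := by
    intro n
    induction n with
    | zero => intro k hk; rw [show k = 0 from Fin.ext hk, aff_zero]; exact one_mem _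
    | succ n ih =>
      intro k hk
      have := mul_mem hM (ih ⟨n, by omega⟩ rfl)
      rw [aff_mul, mul_zero, add_zero] at this
      rwa [show k = 1 + ⟨n, by omega⟩ from Fin.ext (by
        rw [Fin.val_add, Fin.val_one, hk, Nat.mod_eq_of_lt (by omega : 1 + n < 11), Nat.add_comm])]
  have hb : ∀ n : ℕ, aff 0 (n : ZMod 23) ∈ Subgroup.closure genInf := by
    intro n
    induction n with
    | zero => rw [Nat.cast_zero, aff_zero]; exact one_mem _
    | succ n ih =>
      have := mul_mem hT ih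
      rw [T_eq, aff_mul] at this
      simpa [add_comm] using this
  have := mul_mem (hb b.val) (hk _ k rfl)
  rw [aff_mul] at this
  simpa [ZMod.natCast_zmod_val] using this

theorem gen_step : ∀ p : GolayPt,
    (∃ k b, ∀ q, projInv (rr p q) = rr (projInv p) (aff k b q)) ∧
    (∃ k b, ∀ q, T (rr p q) = rr (T p) (aff k b q)) ∧
    ∀ j : Fin 11, ∃ k b, ∀ q, aff j 0 (rr p q) = rr (aff j 0 p) (aff k b q) := by
  decide +kernel

/-- The closure of a set lies in a finite set stable under left multiplication by it. -/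
theorem mem_of_left_stable {G : Type*} [Group G] [Finite G] {S C : Set G} (h1 : (1 : G) ∈ C)
    (hs : ∀ s ∈ S, ∀ c ∈ C, s * c ∈ C) {g : G} (hg : g ∈ Subgroup.closure S) : g ∈ C := by
  have h : ∀ c ∈ C, g * c ∈ C := by
    induction hg using Subgroup.closure_induction with
    | mem x hx => exact hs x hx
    | one => intro c hc; rwa [one_mul]
    | mul x y _ _ hx hy => intro c hc; rw [mul_assoc]; exact hx _ (hy c hc)
    | inv x _ hx =>
      have hpow : ∀ n : ℕ, ∀ c ∈ C, x ^ n * c ∈ C := by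
        intro n
        induction n with
        | zero => intro c hc; rwa [pow_zero, one_mul]
        | succ n ih => intro c hc; rw [pow_succ', mul_assoc]; exact hx _ (ih c hc)
      intro c hc
      rw [show x⁻¹ = x ^ (orderOf x - 1) from inv_eq_of_mul_eq_one_left (by
        rw [← pow_succ, Nat.sub_add_cancel (orderOf_pos x), pow_orderOf_eq_one])]
      exact hpow _ c hc
  simpa using h 1 h1

theorem mem_inf_iff {g : Pm} : g ∈ Subgroup.closure genInf ↔ ∃ k b, g = aff k b := by
  refine ⟨fun h => ?_, fun ⟨k, b, h⟩ => h ▸ aff_mem k b⟩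
  refine mem_of_left_stable (C := {g | ∃ k b, g = aff k b}) ⟨0, 0, aff_zero.symm⟩ ?_ h
  rintro s hs _ ⟨k, b, rfl⟩
  obtain ⟨l, c, rfl⟩ := gen_aff hs
  exact ⟨_, _, aff_mul l k c b⟩

theorem inf_le : Subgroup.closure genInf ≤ Subgroup.closure genAll :=
  Subgroup.closure_mono (Set.union_subset_union_left _ (by simp))

theorem rr_mem (p : GolayPt) : rr p ∈ Subgroup.closure genAll := by
  rcases p with _ | b
  · exact one_mem _
  · exact mul_mem (inf_le (aff_mem 0 b)) (Subgroup.subset_closure (Or.inl (Or.inr rfl)))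

theorem mem_all_iff {g : Pm} : g ∈ Subgroup.closure genAll ↔ ∃ p k b, g = rr p * aff k b := by
  refine ⟨fun h => ?_, fun ⟨p, k, b, h⟩ => h ▸ mul_mem (rr_mem p) (inf_le (aff_mem k b))⟩
  refine mem_of_left_stable (C := {g | ∃ p k b, g = rr p * aff k b}) ⟨none, 0, 0, ?_⟩ ?_ h
  · rw [aff_zero, mul_one]; rfl
  rintro s hs _ ⟨p, k, b, rfl⟩
  obtain ⟨l, c, hl⟩ : ∃ l c, ∀ q, s (rr p q) = rr (s p) (aff l c q) := by
    rcases hs with (rfl | rfl) | ⟨u, hu, rfl⟩
    · exact (gen_step p).2.1
    · exact (gen_step p).1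
    · obtain ⟨j, hj⟩ := mul_eq hu
      rw [hj]; exact (gen_step p).2.2 j
  refine ⟨s p, l + k, (u2 : ZMod 23) ^ (l : ℕ) * b + c, ?_⟩
  rw [← aff_mul, ← mul_assoc, ← mul_assoc]
  congr 1
  exact Equiv.ext hl

theorem card_inf : Nat.card (Subgroup.closure genInf) = 253 := by
  let f : Fin 11 × ZMod 23 → Subgroup.closure genInf := fun x => ⟨aff x.1 x.2, aff_mem _ _⟩
  have hf : Function.Bijective f := ⟨fun x y e => aff_inj (congrArg Subtype.val e), fun g => by
    obtain ⟨k, b, h⟩ := mem_inf_iff.1 g.2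
    exact ⟨(k, b), Subtype.ext h.symm⟩⟩
  rw [← Nat.card_eq_of_bijective f hf, Nat.card_prod, Nat.card_zmod, Nat.card_fin]

theorem card_all : Nat.card (Subgroup.closure genAll) = 6072 := by
  let f : GolayPt × (Fin 11 × ZMod 23) → Subgroup.closure genAll := fun x =>
    ⟨rr x.1 * aff x.2.1 x.2.2, mul_mem (rr_mem _) (inf_le (aff_mem _ _))⟩
  have hf : Function.Bijective f := ⟨fun x y e => by
      have e' : rr x.1 * aff x.2.1 x.2.2 = rr y.1 * aff y.2.1 y.2.2 := congrArg Subtype.val e
      have hp : x.1 = y.1 := by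
        have := Equiv.ext_iff.1 e' none
        rwa [Equiv.Perm.mul_apply, Equiv.Perm.mul_apply, aff_none, aff_none, rr_none, rr_none] at this
      rw [hp] at e'
      exact Prod.ext hp (aff_inj (mul_left_cancel e')), fun g => by
    obtain ⟨p, k, b, h⟩ := mem_all_iff.1 g.2
    exact ⟨(p, k, b), Subtype.ext h.symm⟩⟩
  rw [← Nat.card_eq_of_bijective f hf, Nat.card_prod, Nat.card_prod, Nat.card_zmod, Nat.card_fin,
    Nat.card_eq_fintype_card, Fintype.card_option, ZMod.card]

/-- Multiplication by two as code. -/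
def eM : Elt :=
  (pack 5 (fun i => bif Nat.beq i 23 then 23 else 2 * i % 23) 24,
    pack 5 (fun i => bif Nat.beq i 23 then 23 else 12 * i % 23) 24)

/-- Translation as code. -/
def eT : Elt :=
  (pack 5 (fun i => bif Nat.beq i 23 then 23 else (i + 1) % 23) 24,
    pack 5 (fun i => bif Nat.beq i 23 then 23 else (i + 22) % 23) 24)

/-- Orbit data of multiplication by two. -/
def oM : Orb := ⟨11, eM, 2 ^ 23 + 1, [1, 5], [(0, 0), (0, 0), (0, 1), (0, 8), (0, 2), (1, 0), (0, 9), (1, 9), (0, 3), (0, 5), (1, 1), (1, 4), (0, 10), (0, 7), (1, 10), (1, 8), (0, 4), (1, 3), (0, 6), (1, 7), (1, 2), (1, 6), (1, 5), (0, 0)]⟩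

/-- Orbit data of translation. -/
def oT : Orb := ⟨23, eT, 2 ^ 23, [0], (List.range 24).map fun i => (0, i % 23)⟩

theorem orb_facts : oM.ok = true ∧ oM.valid.length ≤ 5 ∧ oT.ok = true ∧ oT.valid.length ≤ 11 ∧
    isAutB eM = true ∧ isAutB eT = true := by
  decide +kernel

theorem oM_x : permOf oM.x = M := by
  refine (eq_permOf (Orb.ok_valid orb_facts.1) ?_).symm
  decide +kernel

theorem oT_x : permOf oT.x = T := by
  refine (eq_permOf (Orb.ok_valid orb_facts.2.2.1) ?_).symm
  decide +kernel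

theorem T_mem : T ∈ M24 := oT_x ▸ permOf_mem_M24 (Orb.ok_valid orb_facts.2.2.1) orb_facts.2.2.2.2.2

theorem M_mem : M ∈ M24 := oM_x ▸ permOf_mem_M24 (Orb.ok_valid orb_facts.1) orb_facts.2.2.2.2.1

theorem aff_mem_M24 (k : Fin 11) (b : ZMod 23) : aff k b ∈ M24 := by
  have hk : ∀ n : ℕ, ∀ k : Fin 11, (k : ℕ) = n → aff k 0 ∈ M24 := by
    intro n
    induction n with
    | zero => intro k hk; rw [show k = 0 from Fin.ext hk, aff_zero]; exact one_mem _
    | succ n ih =>
      intro k hk
      have := mul_mem M_mem (ih ⟨n, by omega⟩ rfl)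
      rw [aff_mul, mul_zero, add_zero] at this
      rwa [show k = 1 + ⟨n, by omega⟩ from Fin.ext (by
        rw [Fin.val_add, Fin.val_one, hk, Nat.mod_eq_of_lt (by omega : 1 + n < 11), Nat.add_comm])]
  have hb : ∀ n : ℕ, aff 0 (n : ZMod 23) ∈ M24 := by
    intro n
    induction n with
    | zero => rw [Nat.cast_zero, aff_zero]; exact one_mem _
    | succ n ih =>
      have := mul_mem T_mem ih
      rw [T_eq, aff_mul] at this
      simpa [add_comm] using this
  have := mul_mem (hb b.val) (hk _ k rfl)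
  rw [aff_mul] at this
  simpa [ZMod.natCast_zmod_val] using this

theorem projInv_mem : projInv ∈ M24 :=
  closure_gens ▸ Subgroup.subset_closure (by simp)

theorem cubeTwist_mem : cubeTwist ∈ M24 :=
  closure_gens ▸ Subgroup.subset_closure (by simp)

theorem inf_le_M23 : Subgroup.closure genInf ≤ Spor.M23 := fun g hg => by
  obtain ⟨k, b, rfl⟩ := mem_inf_iff.1 hg
  exact ⟨aff_mem_M24 k b, aff_none k b⟩

theorem all_le_M24 : Subgroup.closure genAll ≤ M24 := fun g hg => by
  obtain ⟨p, k, b, rfl⟩ := mem_all_iff.1 hg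
  refine mul_mem ?_ (aff_mem_M24 k b)
  rcases p with _ | c
  · exact one_mem _
  · exact mul_mem (aff_mem_M24 0 c) projInv_mem

section Count

variable {G : Type*} [Group G] [Finite G]

theorem mem_normalizer_zpowers {a g : G} :
    g ∈ Subgroup.normalizer (Subgroup.zpowers a : Set G) ↔ g * a * g⁻¹ ∈ Subgroup.zpowers a := by
  rw [Subgroup.mem_normalizer_iff]
  refine ⟨fun h => (h a).1 (Subgroup.mem_zpowers a), fun h x => ?_⟩
  have hle : (Subgroup.zpowers a).map (MulAut.conj g).toMonoidHom = Subgroup.zpowers a := by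
    refine Subgroup.eq_of_le_of_card_ge ?_ ?_
    · rw [MonoidHom.map_zpowers, Subgroup.zpowers_le]; exact h
    · rw [Subgroup.card_map_of_injective (MulEquiv.injective _)]
  conv_rhs => rw [← hle, Subgroup.mem_map_equiv]
  simp [MulAut.conj_symm_apply, mul_assoc]

/-- Sylow's congruence inside a subgroup. -/
theorem sylow_count {p : ℕ} [hp : Fact p.Prime] {K : Subgroup G} {a : G} (haK : a ∈ K) (hord : orderOf a = p)
    (hsq : ¬ p ^ 2 ∣ Nat.card K) :
    ∃ n, Nat.card ↥(K ⊓ Subgroup.normalizer (Subgroup.zpowers a : Set G)) * n = Nat.card K ∧ n % p = 1 := by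
  have ha : orderOf (⟨a, haK⟩ : K) = p := by rw [Subgroup.orderOf_mk, hord]
  obtain ⟨S, hS⟩ := (IsPGroup.of_card (n := 1) (by rw [Nat.card_zpowers, ha, pow_one]) :
    IsPGroup p (Subgroup.zpowers (⟨a, haK⟩ : K))).exists_le_sylow
  have hSQ : (S : Subgroup K) = Subgroup.zpowers (⟨a, haK⟩ : K) := by
    refine (Subgroup.eq_of_le_of_card_ge hS ?_).symm
    obtain ⟨k, hk⟩ := IsPGroup.iff_card.1 S.2
    rw [hk, Nat.card_zpowers, ha]
    have hk1 : k ≤ 1 := by
      by_contra hc
      exact hsq ((pow_dvd_pow p (show 2 ≤ k by omega)).trans (hk ▸ Subgroup.card_subgroup_dvd_card (S : Subgroup K)))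
    calc p ^ k ≤ p ^ 1 := Nat.pow_le_pow_right hp.1.pos hk1
      _ = p := pow_one p
  have e : Subgroup.normalizer (S : Set K) =
      (K ⊓ Subgroup.normalizer (Subgroup.zpowers a : Set G)).subgroupOf K := by
    ext h
    rw [show (S : Set K) = ((S : Subgroup K) : Set K) from rfl, hSQ, mem_normalizer_zpowers, Subgroup.mem_subgroupOf, Subgroup.mem_inf, mem_normalizer_zpowers]
    simp only [SetLike.coe_mem, true_and, Subgroup.mem_zpowers_iff, Subtype.ext_iff, SubgroupClass.coe_zpow,
      Subgroup.coe_mul, InvMemClass.coe_inv]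
  refine ⟨Nat.card (Sylow p K), ?_, ?_⟩
  · rw [S.card_eq_index_normalizer, e, ← Nat.card_congr (Subgroup.subgroupOfEquivOfLe
      (inf_le_left : K ⊓ Subgroup.normalizer (Subgroup.zpowers a : Set G) ≤ K)).toEquiv, Subgroup.card_mul_index]
  · have h := card_sylow_modEq_one p K
    rwa [Nat.ModEq, Nat.mod_eq_of_lt hp.1.one_lt] at h

/-- Coatoms from maximality. -/
theorem isCoatom_of_max {A L : Subgroup G} (hL : L ≤ A) (hne : L ≠ A) (hmax : ∀ K, L < K → K ≤ A → K = A) :
    IsCoatom (L.subgroupOf A) := by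
  refine ⟨fun e => hne (le_antisymm hL (Subgroup.subgroupOf_eq_top.1 e)), fun B hB => ?_⟩
  have h2 := Subgroup.map_subtype_le B
  have hLB : L < B.map A.subtype := by
    refine lt_of_le_of_ne ?_ ?_
    · intro x hx
      exact ⟨⟨x, hL hx⟩, hB.le hx, rfl⟩
    · rintro rfl
      exact hB.ne (Subgroup.comap_map_eq_self_of_injective A.subtype_injective B)
  have := hmax _ hLB h2
  rw [eq_top_iff]
  rintro ⟨x, hx⟩ -
  rw [← this] at hx
  obtain ⟨y, hy, rfl⟩ := hx
  exact hy

end Count

/-- The part of a normaliser inside the stabiliser is bounded by the valid candidates. -/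
theorem card_norm_le {O : Orb} (hok : O.ok = true) (hp : O.p.Prime) {b : ℕ} (hb : O.valid.length ≤ b)
    {a : Spor.M23} (ha : (a : Pm) = permOf O.x) (hfix : ∀ q, O.fix.testBit (idx q) = true → q = none ∨ q = some 0) :
    Nat.card (Subgroup.normalizer (Subgroup.zpowers a : Set Spor.M23)) ≤ O.p * b := by
  refine le_trans ?_ (Orb.ncard_nF_le hok hp (ha ▸ a.2.1) hb)
  rw [← Nat.card_coe_set_eq]
  have hord : orderOf a = O.p := by rw [← Subgroup.orderOf_coe, ha, Orb.orderOf_permOf hok hp]
  have haN : ∀ g : Subgroup.normalizer (Subgroup.zpowers a : Set Spor.M23), ((g : Spor.M23) : Pm) ∈ O.nF := by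
    intro g
    refine ⟨(g : Spor.M23).2.1, fun q hq => ?_, ?_⟩
    · have hn : ((g : Spor.M23) : Pm) none = none := (g : Spor.M23).2.2
      rcases hfix q hq with rfl | rfl
      · exact hn
      · obtain ⟨j, hj⟩ := mem_normalizer_zpowers.1 (inv_mem g.2)
        have hj' : ((g : Spor.M23) : Pm)⁻¹ * permOf O.x * ((g : Spor.M23) : Pm) = permOf O.x ^ j := by
          have := congrArg (fun y : Spor.M23 => (y : Pm)) hj
          simpa [ha] using this.symm
        have hx0 : Function.IsFixedPt (permOf O.x) (some 0) := (Orb.fix_iff hok _).1 hq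
        have hz : (permOf O.x ^ j) (some 0) = some 0 := hx0.perm_zpow j
        rw [← hj'] at hz
        simp only [Equiv.Perm.mul_apply, Equiv.Perm.inv_eq_iff_eq] at hz
        rcases hfix _ ((Orb.fix_iff hok _).2 hz) with h | h
        · exact absurd (((g : Spor.M23) : Pm).injective (h.trans hn.symm)) (by simp)
        · exact h
    · classical
      obtain ⟨k, hk, he⟩ := Finset.mem_image.1 (mem_zpowers_iff_mem_range_orderOf.1 (mem_normalizer_zpowers.1 g.2))
      rw [Finset.mem_range, hord] at hk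
      refine ⟨k, Nat.pos_of_ne_zero fun e => ?_, hk, ?_⟩
      · rw [e, pow_zero, eq_comm, mul_inv_eq_one] at he
        rw [mul_eq_left.1 he, orderOf_one] at hord
        exact hp.ne_one hord.symm
      · rw [← ha]
        simpa using congrArg (fun y : Spor.M23 => (y : Pm)) he.symm
  exact Nat.card_le_card_of_injective (fun g => (⟨_, haN g⟩ : O.nF))
    (fun g h e => Subtype.ext (Subtype.ext (congrArg (fun z : O.nF => (z : Pm)) e)))

theorem arith_check : (List.range 1754).all (fun m =>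
    !(Nat.beq (40320 % (23 * m + 1)) 0) ||
    !(Nat.beq (23 * (23 * m + 1) % 11) 1 ||
      (Nat.beq (23 * (23 * m + 1) % 5) 0 && Nat.beq (23 * (23 * m + 1) / 5 % 11) 1)) ||
    Nat.beq m 0 || Nat.beq m 1753) = true := by
  decide +kernel

theorem cube_facts : (∀ p, cubeTwistFun (M p) = M (M (M (cubeTwistFun p)))) ∧
    (∀ p, cubeTwistFun (cubeTwistFun (cubeTwistFun (cubeTwistFun (cubeTwistFun p)))) = p) ∧
    cubeTwistFun (some 2) ≠ some 2 := by
  refine ⟨?_, ?_, ?_⟩ <;> decide +kernel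

theorem fix_facts : (∀ q, oT.fix.testBit (idx q) = true → q = none ∨ q = some 0) ∧
    ∀ q, oM.fix.testBit (idx q) = true → q = none ∨ q = some 0 := by
  refine ⟨?_, ?_⟩ <;> decide +kernel

theorem max_inf (K : Subgroup Pm) (hK : Subgroup.closure genInf < K) (hK23 : K ≤ Spor.M23) : K = Spor.M23 := by
  haveI : Fact (Nat.Prime 23) := ⟨by norm_num⟩
  haveI : Fact (Nat.Prime 11) := ⟨by norm_num⟩
  haveI : Fact (Nat.Prime 5) := ⟨by norm_num⟩
  set L := (Subgroup.closure genInf).subgroupOf Spor.M23 with hL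
  set H := K.subgroupOf Spor.M23 with hH
  have cL : Nat.card L = 253 := (Nat.card_congr (Subgroup.subgroupOfEquivOfLe inf_le_M23).toEquiv).trans card_inf
  have hLH : L ≤ H := fun x hx => hK.le hx
  let t : Spor.M23 := ⟨T, inf_le_M23 (T_eq ▸ aff_mem 0 1)⟩
  let m : Spor.M23 := ⟨M, inf_le_M23 (aff_mem 1 0)⟩
  let d : Spor.M23 := ⟨cubeTwist, cubeTwist_mem, rfl⟩
  have hp23 : Nat.Prime oT.p := by show Nat.Prime 23; norm_num
  have hp11 : Nat.Prime oM.p := by show Nat.Prime 11; norm_num
  have ot : orderOf t = 23 := by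
    rw [← Subgroup.orderOf_coe]
    show orderOf T = 23
    rw [← oT_x]; exact Orb.orderOf_permOf orb_facts.2.2.1 hp23
  have om : orderOf m = 11 := by
    rw [← Subgroup.orderOf_coe]
    show orderOf M = 11
    rw [← oM_x]; exact Orb.orderOf_permOf orb_facts.1 hp11
  have od : orderOf d = 5 := by
    refine orderOf_eq_prime (Subtype.ext (Equiv.ext cube_facts.2.1)) fun e => cube_facts.2.2 ?_
    exact Equiv.ext_iff.1 (congrArg Subtype.val e) (some 2)
  have hfT := fix_facts.1
  have hfM := fix_facts.2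
  have n23 : Subgroup.normalizer (Subgroup.zpowers t : Set Spor.M23) = L := by
    refine (Subgroup.eq_of_le_of_card_ge ?_ ?_).symm
    · intro x hx
      obtain ⟨k, b, hx⟩ := mem_inf_iff.1 hx
      rw [mem_normalizer_zpowers]
      refine ⟨((((u2 : ZMod 23) ^ (k : ℕ)).val : ℕ) : ℤ), ?_⟩
      beta_reduce
      rw [eq_mul_inv_iff_mul_eq, zpow_natCast]
      refine Subtype.ext ?_
      show T ^ ((u2 : ZMod 23) ^ (k : ℕ)).val * (x : Pm) = (x : Pm) * T
      have hpow : ∀ n : ℕ, T ^ n = aff 0 (n : ZMod 23) := by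
        intro n
        induction n with
        | zero => rw [pow_zero, Nat.cast_zero, aff_zero]
        | succ n ih => rw [pow_succ, ih, T_eq, aff_mul]; simp [add_comm]
      rw [hpow, show (x : Pm) = aff k b from hx, T_eq, aff_mul, aff_mul, ZMod.natCast_zmod_val]
      simp [add_comm]
    · rw [cL]; exact card_norm_le orb_facts.2.2.1 hp23 orb_facts.2.2.2.1 (a := t) oT_x.symm hfT
  have n11 : Nat.card (Subgroup.normalizer (Subgroup.zpowers m : Set Spor.M23)) = 55 := by
    refine le_antisymm (card_norm_le orb_facts.1 hp11 orb_facts.2.1 (a := m) oM_x.symm hfM)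
      (Nat.le_of_dvd Nat.card_pos ?_)
    refine Nat.Coprime.mul_dvd_of_dvd_of_dvd (by norm_num : Nat.Coprime 11 5) ?_ ?_
    · have hm : m ∈ Subgroup.normalizer (Subgroup.zpowers m : Set Spor.M23) :=
        Subgroup.le_normalizer (Subgroup.mem_zpowers m)
      have h := orderOf_dvd_natCard (⟨m, hm⟩ : Subgroup.normalizer (Subgroup.zpowers m : Set Spor.M23))
      rwa [Subgroup.orderOf_mk, om] at h
    · have hd : d ∈ Subgroup.normalizer (Subgroup.zpowers m : Set Spor.M23) := by
        rw [mem_normalizer_zpowers]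
        refine ⟨((3 : ℕ) : ℤ), ?_⟩
        beta_reduce
        rw [eq_mul_inv_iff_mul_eq, zpow_natCast]
        refine Subtype.ext (Equiv.ext fun p => ?_)
        exact (cube_facts.1 p).symm
      have h := orderOf_dvd_natCard (⟨d, hd⟩ : Subgroup.normalizer (Subgroup.zpowers m : Set Spor.M23))
      rwa [Subgroup.orderOf_mk, od] at h
  have hc : Nat.card Spor.M23 = 253 * 40320 := card_sporM23
  obtain ⟨n, hn⟩ := cL ▸ Subgroup.card_dvd_of_le hLH
  have hdiv : Nat.card H ∣ 253 * 40320 := hc ▸ Subgroup.card_subgroup_dvd_card H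
  have hn40 : n ∣ 40320 := Nat.dvd_of_mul_dvd_mul_left (by norm_num : 0 < 253) (hn ▸ hdiv)
  have hsq : ∀ p, ¬ p ^ 2 ∣ 253 * 40320 → ¬ p ^ 2 ∣ Nat.card H := fun p h h' => h (h'.trans hdiv)
  have htH : t ∈ H := hK.le (show T ∈ _ by rw [T_eq]; exact aff_mem 0 1)
  have hmH : m ∈ H := hK.le (aff_mem 1 0)
  obtain ⟨a, ha, ha1⟩ := sylow_count (p := 23) htH ot (hsq 23 (by norm_num))
  rw [n23, inf_eq_right.2 hLH, cL, hn] at ha
  obtain ⟨b, hb, hb1⟩ := sylow_count (p := 11) hmH om (hsq 11 (by norm_num))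
  have hd55 : Nat.card ↥(H ⊓ Subgroup.normalizer (Subgroup.zpowers m : Set Spor.M23)) ∣ 55 :=
    n11 ▸ Subgroup.card_dvd_of_le inf_le_right
  have h11 : 11 ∣ Nat.card ↥(H ⊓ Subgroup.normalizer (Subgroup.zpowers m : Set Spor.M23)) := by
    rw [← om, ← Subgroup.orderOf_mk m (show m ∈ H ⊓ Subgroup.normalizer (Subgroup.zpowers m : Set Spor.M23) from
      ⟨hmH, Subgroup.le_normalizer (Subgroup.mem_zpowers m)⟩)]
    exact orderOf_dvd_natCard _
  have hn1 : n = 1 ∨ n = 40320 := by
    have hna : n = a := by omega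
    have hle := Nat.le_of_dvd (by norm_num) hn40
    have hm := List.all_eq_true.1 arith_check (n / 23) (List.mem_range.2 (by omega))
    have e : 23 * (n / 23) + 1 = n := by omega
    simp only [e, Bool.or_eq_true, Bool.and_eq_true, Bool.not_eq_true', ← Bool.not_eq_true, Nat.beq_eq] at hm
    rcases hm with ((hm | hm) | hm) | hm
    · exact absurd (Nat.mod_eq_zero_of_dvd hn40) hm
    · exfalso
      obtain ⟨q, hq⟩ := h11
      rw [hq] at hd55 hb
      have : q ∣ 5 := Nat.dvd_of_mul_dvd_mul_left (by norm_num : 0 < 11) hd55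
      rcases (Nat.dvd_prime (by norm_num)).1 this with rfl | rfl
      · exact hm (Or.inl (by omega))
      · exact hm (Or.inr ⟨by omega, by omega⟩)
    · left; omega
    · right; omega
  rcases hn1 with rfl | rfl
  · exfalso
    have : L = H := Subgroup.eq_of_le_of_card_ge hLH (by omega)
    refine hK.ne (le_antisymm hK.le fun x hx => ?_)
    exact (this ▸ hx : (⟨x, hK23 hx⟩ : Spor.M23) ∈ L)
  · have : H = ⊤ := Subgroup.eq_top_of_card_eq H (by omega)
    exact le_antisymm hK23 (Subgroup.subgroupOf_eq_top.1 this)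

theorem card_M23_ne : Subgroup.closure genInf ≠ Spor.M23 := fun e => by
  have := card_inf; rw [e, card_sporM23] at this; omega

theorem max_all (K : Subgroup Pm) (hK : Subgroup.closure genAll < K) (hK24 : K ≤ M24) : K = M24 := by
  have hfix : ∀ g ∈ M24, (rr (g none))⁻¹ * g ∈ Spor.M23 := fun g hg => by
    refine ⟨M24.mul_mem (M24.inv_mem (all_le_M24 (rr_mem _))) hg, ?_⟩
    show ((rr (g none))⁻¹ * g) none = none
    rw [Equiv.Perm.mul_apply, Equiv.Perm.inv_eq_iff_eq, rr_none]
  obtain ⟨g, hgK, hgL⟩ := SetLike.exists_of_lt hK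
  have h23 : K ⊓ Spor.M23 = Spor.M23 := by
    refine max_inf _ (lt_of_le_of_ne (le_inf (inf_le.trans hK.le) inf_le_M23) fun e => hgL ?_) inf_le_right
    have : (rr (g none))⁻¹ * g ∈ Subgroup.closure genInf :=
      e ▸ ⟨K.mul_mem (K.inv_mem (hK.le (rr_mem _))) hgK, hfix g (hK24 hgK)⟩
    simpa using mul_mem (rr_mem (g none)) (inf_le this)
  refine le_antisymm hK24 fun x hx => ?_
  have : (rr (x none))⁻¹ * x ∈ K := (h23.symm ▸ hfix x hx : (rr (x none))⁻¹ * x ∈ K ⊓ Spor.M23).1
  simpa using mul_mem (hK.le (rr_mem (x none))) this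

theorem card_M24_ne : Subgroup.closure genAll ≠ M24 := fun e => by
  have := card_all; rw [e, card_M24] at this; omega

end Cfsg.Agent.Golay.L223
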