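import Mathlib.Data.Nat.Notation

/-! An element of order eleven and words for the automorphism count of the dodecad point stabiliser. -/

namespace Cfsg.Agent.Golay.Local

/-- An element of order eleven. -/
def autC : ℕ × ℕ := (595470798828439288057921224067822976, 887015106939067886697073283040682176)

/-- Normalising elements sending the powers to the element or its inverse. -/
def autNorm : List (ℕ × ℕ) := [
  (984818244535754528103549039458486304, 984818244535754528103549039458486304),
  (630147351362322755251490036009546944, 596512772822159980434120312460951680),
  (928913018155889023685401593716935712, 445855113341400037038623582150800416),
  (652349919784385437921527935664441856, 444767298675220173928099024975570304),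
  (861089314318218467173568965127581792, 939227017271061989634301704040124800),
  (861089314318218467173568965127581792, 939227017271061989634301704040124800),
  (652349919784385437921527935664441856, 444767298675220173928099024975570304),
  (928913018155889023685401593716935712, 445855113341400037038623582150800416),
  (630147351362322755251490036009546944, 596512772822159980434120312460951680),
  (984818244535754528103549039458486304, 984818244535754528103549039458486304)]

/-- Relators: exponents and the order of the word. -/
def autRel : List (ℕ × ℕ × ℕ × ℕ) := [(1, 0, 0, 11), (2, 0, 0, 6), (1, 2, 3, 3)]

/-- The standard generators as words. -/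
def autWords : List (List ℕ) := [
  [0, 0, 1, 0, 0, 1, 0, 0, 0, 0, 1, 0, 1, 0, 0, 0, 0, 0, 0, 0],
  [0, 0, 0, 1, 0, 0, 0, 0, 0, 0, 1]]

end Cfsg.Agent.Golay.Local
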