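import Cfsg.Agent.Lib.Golay.Local.M11InvChecks
import Cfsg.Agent.Lib.Golay.Local.M11AutData

/-! Kernel checks bounding the automorphisms of the dodecad point stabiliser. -/

namespace Cfsg.Agent.Golay.Local

open Cfsg Cfsg.Agent.PermCert

/-- A power of a code. -/
def powF (e : ℕ) : ℕ → ℕ
  | 0 => idC
  | n + 1 => cmpF e (powF e n)

/-- The code of a relator word. -/
def relF (c t : ℕ) (r : ℕ × ℕ × ℕ × ℕ) : ℕ :=
  if r.2.1 = 0 then cmpF (powF c r.1) t
  else cmpF (cmpF (cmpF (cmpF (cmpF (powF c r.1) t) (powF c r.2.1)) t) (powF c r.2.2.1)) t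

/-- All relators hold. -/
def relsB (c t : ℕ) : Bool := autRel.all fun r => sameF (powF (relF c t r) r.2.2.2) idC

/-- The involution from a conjugator. -/
def invOf (t : Elt) : ℕ := cmpF (cmpF t.1 invX0.1) t.2

/-- The element of order eleven normalises as recorded. -/
def autNormOK : Bool :=
  eltOK autC && inA autC && sameF (powF autC.1 11) idC && !(sameF autC.1 idC) &&
    (List.range 10).all (fun i => eltOK (autNorm.getD i (0, 0)) && inA (autNorm.getD i (0, 0)) &&
      (sameF (cmpF (cmpF (autNorm.getD i (0, 0)).1 (powF autC.1 (i + 1))) (autNorm.getD i (0, 0)).2) autC.1 ||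
        sameF (cmpF (cmpF (autNorm.getD i (0, 0)).1 (powF autC.1 (i + 1))) (autNorm.getD i (0, 0)).2) autC.2)) &&
    relsB autC.1 invX0.1

/-- Only the conjugates under the powers satisfy the relators. -/
def autPairOK : Bool :=
  invConj.all fun t =>
    (!(relsB autC.1 (invOf t)) ||
      (List.range 11).any fun j => sameF (invOf t) (cmpF (cmpF (powF autC.1 j) invX0.1) (powF autC.2 j))) &&
    !(relsB autC.2 (invOf t))

/-- Code of a word in the element and the involution. -/
def autWord : List ℕ → ℕ
  | [] => idC
  | j :: l => cmpF (if j = 0 then autC.1 else invX0.1) (autWord l)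

/-- The standard generators are words. -/
def autGenOK : Bool :=
  (List.range Cert.m11Gens.length).all fun i =>
    sameF (Cert.m11Gens.getD i (0, 0)).1 (autWord (autWords.getD i [])) &&
      validElt 5 24 (Cert.m11Gens.getD i (0, 0))

theorem aut_checks : autNormOK = true ∧ autPairOK = true ∧ autGenOK = true := by
  refine ⟨?_, ?_, ?_⟩ <;> decide +kernel

end Cfsg.Agent.Golay.Local
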