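import Cfsg.Agent.Lib.Golay.Local.M11AutChecks
import Cfsg.Agent.Lib.Golay.Local.M11Involution
import Cfsg.Prelude.Def_KGroupFacts

/-! Every automorphism of the dodecad point stabiliser is inner. -/

namespace Cfsg.Agent.Golay.Local

open Cfsg Cfsg.Agent.PermCert
open scoped Pointwise

attribute [local irreducible] cmpF invConj sylTwo invX0 autC autNorm autWords Cert.m11Gens

theorem code_powF {e : ℕ} {g : stdA} (h : Code e (pOf g)) : ∀ n, Code (powF e n) (pOf (g ^ n))
  | 0 => by rw [pow_zero]; exact code_idC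
  | n + 1 => by rw [pow_succ']; exact h.cmp (code_powF h n)

/-- A relator word in the group. -/
def relG (c t : stdA) (r : ℕ × ℕ × ℕ × ℕ) : stdA :=
  if r.2.1 = 0 then c ^ r.1 * t else c ^ r.1 * t * c ^ r.2.1 * t * c ^ r.2.2.1 * t

theorem code_relF {e f : ℕ} {c t : stdA} (hc : Code e (pOf c)) (ht : Code f (pOf t)) (r : ℕ × ℕ × ℕ × ℕ) :
    Code (relF e f r) (pOf (relG c t r)) := by
  unfold relF relG
  split
  · exact (code_powF hc _).cmp ht
  · exact (((((code_powF hc _).cmp ht).cmp (code_powF hc _)).cmp ht).cmp (code_powF hc _)).cmp ht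

theorem relsB_iff {e f : ℕ} {c t : stdA} (hc : Code e (pOf c)) (ht : Code f (pOf t)) :
    relsB e f = true ↔ ∀ r ∈ autRel, relG c t r ^ r.2.2.2 = 1 := by
  simp only [relsB, List.all_eq_true]
  refine forall_congr' fun r => imp_congr_right fun _ => ?_
  rw [sameF_iff (code_powF (code_relF hc ht r) _) code_idC]
  exact ⟨fun h => pOf_injective h, fun h => by rw [h]; rfl⟩

/-- The element of order eleven. -/
noncomputable def aC : stdA := aOf autC

theorem norm_facts : (eltOK autC = true ∧ inA autC = true) ∧ orderOf aC = 11 ∧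
    (∀ i < 10, ∃ n : stdA, n * aC ^ (i + 1) * n⁻¹ = aC ∨ n * aC ^ (i + 1) * n⁻¹ = aC⁻¹) ∧
    ∀ r ∈ autRel, relG aC ax0 r ^ r.2.2.2 = 1 := by
  obtain ⟨⟨hx, hx'⟩, -⟩ := inv_facts
  have h := aut_checks.1
  simp only [autNormOK, Bool.and_eq_true, List.all_eq_true, List.mem_range, Bool.or_eq_true,
    Bool.not_eq_true'] at h
  obtain ⟨⟨⟨⟨⟨hc, hc'⟩, h11⟩, hne⟩, hn⟩, hr⟩ := h
  have cc := code_aOf hc hc'
  haveI : Fact (Nat.Prime 11) := ⟨by norm_num⟩
  refine ⟨⟨hc, hc'⟩, orderOf_eq_prime (pOf_injective ((sameF_iff (code_powF cc 11) code_idC).1 h11)) fun e => ?_,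
    fun i hi => ?_, (relsB_iff cc (code_aOf hx hx')).1 hr⟩
  · rw [(sameF_iff cc code_idC).2 (congrArg pOf e)] at hne
    exact Bool.noConfusion hne
  · obtain ⟨⟨h1, h2⟩, h3⟩ := hn i hi
    refine ⟨aOf (autNorm.getD i (0, 0)), ?_⟩
    have k := ((code_aOf h1 h2).cmp (code_powF cc (i + 1))).cmp (code_aOf_inv h1 h2)
    exact h3.imp (fun e => pOf_injective ((sameF_iff k cc).1 e))
      (fun e => pOf_injective ((sameF_iff k (code_aOf_inv hc hc')).1 e))

theorem exists_invConj {a : stdA} (ha : orderOf a = 2) :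
    ∃ t ∈ invConj, Code (invOf t) (pOf a) := by
  obtain ⟨g, hg⟩ := isConj_iff.1 (isConj_ax0 ha)
  obtain ⟨⟨hx, hx'⟩, hlen, hall, hdist, -⟩ := inv_facts
  obtain ⟨E⟩ := nonempty_centralizer_gl
  let f : Fin 165 × Subgroup.centralizer ({ax0} : Set stdA) → stdA := fun p =>
    aOf (invConj.getD p.1 (0, 0)) * p.2
  have hmem : ∀ i : Fin 165, invConj.getD i (0, 0) ∈ invConj := fun i => by
    rw [List.getD_eq_getElem _ _ (by omega)]; exact List.getElem_mem _
  have hconj : ∀ p, f p * ax0 * (f p)⁻¹ =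
      aOf (invConj.getD p.1 (0, 0)) * ax0 * (aOf (invConj.getD p.1 (0, 0)))⁻¹ := by
    intro p
    have hc : ((p.2 : stdA)) * ax0 = ax0 * (p.2 : stdA) :=
      ((Subgroup.mem_centralizer_iff.1 p.2.2) ax0 rfl).symm
    simp only [f, mul_inv_rev, ← mul_assoc]
    rw [mul_assoc (aOf _) (p.2 : stdA) ax0, hc]
    group
  have hc : ∀ i : Fin 165, Code (invOf (invConj.getD i (0, 0)))
      (pOf (aOf (invConj.getD i (0, 0)) * ax0 * (aOf (invConj.getD i (0, 0)))⁻¹)) := fun i =>
    ((code_aOf (hall _ (hmem i)).1 (hall _ (hmem i)).2).cmp (code_aOf hx hx')).cmp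
      (code_aOf_inv (hall _ (hmem i)).1 (hall _ (hmem i)).2)
  have hf : Function.Injective f := by
    rintro ⟨i, k⟩ ⟨j, l⟩ e
    have h1 : aOf (invConj.getD i (0, 0)) * ax0 * (aOf (invConj.getD i (0, 0)))⁻¹ =
        aOf (invConj.getD j (0, 0)) * ax0 * (aOf (invConj.getD j (0, 0)))⁻¹ := by
      rw [← hconj (i, k), ← hconj (j, l), e]
    have key := (h1 ▸ hc i).cmpF_congr (hc j) code_idC
    have hn := distinctKeys_spec _ hdist
    have ha : (i : ℕ) < (invConj.map fun t => cmpF (cmpF (cmpF t.1 invX0.1) t.2) idC).length := by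
      simp only [List.length_map]; omega
    have hb : (j : ℕ) < (invConj.map fun t => cmpF (cmpF (cmpF t.1 invX0.1) t.2) idC).length := by
      simp only [List.length_map]; omega
    have hij : i = j := by
      refine Fin.ext ((hn.getElem_inj_iff (hi := ha) (hj := hb)).mp ?_)
      rw [List.getElem_map, List.getElem_map]
      rw [List.getD_eq_getElem _ _ (by omega : (i : ℕ) < invConj.length),
        List.getD_eq_getElem _ _ (by omega : (j : ℕ) < invConj.length)] at key
      exact key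
    subst hij
    exact Prod.ext rfl (Subtype.ext (mul_left_cancel e))
  haveI : Fact (Nat.Prime 3) := ⟨Nat.prime_three⟩
  have h48 : Nat.card (Subgroup.centralizer ({ax0} : Set stdA)) = 48 := by
    rw [Nat.card_congr E.toEquiv, Matrix.card_GL_field, ZMod.card]; simp [Fin.prod_univ_two]
  obtain ⟨p, hp⟩ := (hf.bijective_of_nat_card_le (by
    rw [Nat.card_prod, Nat.card_fin, h48, card_stdA])).2 g
  refine ⟨_, hmem p.1, ?_⟩
  have : a = aOf (invConj.getD p.1 (0, 0)) * ax0 * (aOf (invConj.getD p.1 (0, 0)))⁻¹ := by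
    rw [← hconj p, hp, hg]
  rw [this]
  exact hc p.1

/-- The element of order eleven and the involution generate. -/
theorem eq_top_of_pair {H : Subgroup stdA} (hc : aC ∈ H) (ha : ax0 ∈ H) : H = ⊤ := by
  obtain ⟨⟨hx, hx'⟩, -⟩ := inv_facts
  obtain ⟨⟨hc1, hc2⟩, -⟩ := norm_facts
  have h := aut_checks.2.2
  simp only [autGenOK, List.all_eq_true, List.mem_range, Bool.and_eq_true] at h
  have hword : ∀ l : List ℕ, ∃ g ∈ H, Code (autWord l) (pOf g) := by
    intro l
    induction l with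
    | nil => exact ⟨1, H.one_mem, code_idC⟩
    | cons j l ih =>
      obtain ⟨g, hg, hgc⟩ := ih
      by_cases hj : j = 0
      · refine ⟨aC * g, H.mul_mem hc hg, ?_⟩
        show Code (cmpF (if j = 0 then autC.1 else invX0.1) (autWord l)) _
        rw [if_pos hj]; exact (code_aOf hc1 hc2).cmp hgc
      · refine ⟨ax0 * g, H.mul_mem ha hg, ?_⟩
        show Code (cmpF (if j = 0 then autC.1 else invX0.1) (autWord l)) _
        rw [if_neg hj]; exact (code_aOf hx hx').cmp hgc
  let P : Subgroup (Equiv.Perm GolayPt) := H.map (M24.subtype.comp stdA.subtype)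
  have hle : Subgroup.closure {σ | σ ∈ Cert.m11Gens.map permOf} ≤ P := by
    rw [Subgroup.closure_le]
    intro σ hσ
    obtain ⟨e, he, rfl⟩ := List.mem_map.1 hσ
    obtain ⟨i, hi, rfl⟩ := List.getElem_of_mem he
    have := h i hi
    rw [List.getD_eq_getElem _ _ hi] at this
    obtain ⟨g, hg, hgc⟩ := hword (autWords.getD i [])
    exact ⟨g, hg, ((sameF_iff (code_permOf this.2) hgc).1 this.1).symm⟩
  rw [closure_eq_stabIn m11_ok, stabIn_m11] at hle
  refine eq_top_iff.2 fun g _ => ?_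
  obtain ⟨k, hk, e⟩ := hle (show pOf g ∈ stabSets [Spor.squareDodecad, {(some 0 : GolayPt)}] from ⟨(g : M24).2, by
    have h1 : pOf g • maskSet sqMask = maskSet sqMask := g.2.1
    have h2 : pOf g dp0 = dp0 := g.2.2
    rw [show dp0 = some 0 by decide] at h2
    simp [squareDodecad_eq, h1, h2]⟩)
  rwa [← pOf_injective (e : pOf k = pOf g)]

theorem exists_conj_pow {x : stdA} (hx : orderOf x = 11) :
    ∃ g : stdA, ∃ k, 0 < k ∧ k < 11 ∧ g * x * g⁻¹ = aC ^ k := by
  haveI : Fact (Nat.Prime 11) := ⟨by norm_num⟩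
  have syl : ∀ y : stdA, orderOf y = 11 → ∃ S : Sylow 11 stdA, (S : Subgroup stdA) = Subgroup.zpowers y := by
    intro y hy
    obtain ⟨S, hS⟩ := (IsPGroup.of_card (n := 1) (by rw [Nat.card_zpowers, hy, pow_one]) :
      IsPGroup 11 (Subgroup.zpowers y)).exists_le_sylow
    refine ⟨S, (Subgroup.eq_of_le_of_card_ge hS ?_).symm⟩
    obtain ⟨k, hk⟩ := IsPGroup.iff_card.1 S.2
    have hk1 : k ≤ 1 := by
      by_contra hc
      have := (pow_dvd_pow 11 (show 2 ≤ k by omega)).trans
        (card_stdA ▸ hk ▸ Subgroup.card_subgroup_dvd_card (S : Subgroup stdA))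
      norm_num at this
    rw [hk, Nat.card_zpowers, hy]
    calc 11 ^ k ≤ 11 ^ 1 := Nat.pow_le_pow_right (by norm_num) hk1
      _ = 11 := pow_one _
  obtain ⟨-, h11, -⟩ := norm_facts
  obtain ⟨S, hS⟩ := syl _ hx
  obtain ⟨T, hT⟩ := syl _ h11
  obtain ⟨g, hg⟩ := MulAction.exists_smul_eq stdA S T
  have hm : g * x * g⁻¹ ∈ (T : Subgroup stdA) := by
    rw [← hg, Sylow.coe_subgroup_smul, Subgroup.mem_pointwise_smul_iff_inv_smul_mem]
    simp only [MulAut.smul_def, MulAut.inv_def, MulAut.conj_symm_apply, hS]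
    have : g⁻¹ * (g * x * g⁻¹) * g = x := by group
    rw [this]
    exact Subgroup.mem_zpowers x
  rw [hT] at hm
  classical
  obtain ⟨k, hk, he⟩ := Finset.mem_image.1 (mem_zpowers_iff_mem_range_orderOf.1 hm)
  rw [Finset.mem_range, h11] at hk
  refine ⟨g, k, Nat.pos_of_ne_zero fun e => ?_, hk, he.symm⟩
  rw [e, pow_zero] at he
  have : x = 1 := by simpa using he.symm
  rw [this, orderOf_one] at hx
  omega

theorem aut_inner (α : MulAut stdA) : α ∈ Cfsg.Inn stdA := by
  obtain ⟨⟨hc1, hc2⟩, h11, hnorm, hrel⟩ := norm_facts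
  obtain ⟨g, k, hk0, hk, hgk⟩ := exists_conj_pow (x := α aC) (by rw [MulEquiv.orderOf_eq, h11])
  obtain ⟨n, hn⟩ := hnorm (k - 1) (by omega)
  rw [Nat.sub_add_cancel hk0] at hn
  set β : MulAut stdA := MulAut.conj (n * g) * α with hβ
  have hβc : β aC = n * aC ^ k * n⁻¹ := by
    rw [hβ, MulAut.mul_apply, MulAut.conj_apply, ← hgk]; group
  have hx2 : orderOf ax0 = 2 := by
    obtain ⟨⟨hx, hx'⟩, -⟩ := inv_facts
    haveI : Fact (Nat.Prime 2) := ⟨Nat.prime_two⟩
    have h := inv_checks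
    simp only [invOK, Bool.and_eq_true] at h
    refine orderOf_eq_prime (pOf_injective ?_) fun e => ?_
    · rw [sq]
      exact (sameF_iff ((code_aOf hx hx').cmp (code_aOf hx hx')) code_idC).1 h.1.1.1.1.1.1.1.1.1.1.1.2
    · have := eq_top_of_pair (H := Subgroup.zpowers aC) (Subgroup.mem_zpowers aC) (e ▸ Subgroup.one_mem _)
      have hc := Nat.card_zpowers aC
      rw [this, Subgroup.card_top, card_stdA, h11] at hc
      omega
  obtain ⟨t, ht, htc⟩ := exists_invConj (a := β ax0) (by rw [MulEquiv.orderOf_eq, hx2])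
  have hrelβ : ∀ r ∈ autRel, relG (β aC) (β ax0) r ^ r.2.2.2 = 1 := by
    intro r hr
    have : relG (β aC) (β ax0) r = β (relG aC ax0 r) := by
      unfold relG; split <;> simp only [map_mul, map_pow]
    rw [this, ← map_pow, hrel r hr, map_one]
  have hp := aut_checks.2.1
  simp only [autPairOK, List.all_eq_true, Bool.and_eq_true, Bool.or_eq_true, Bool.not_eq_true',
    List.any_eq_true] at hp
  obtain ⟨hp1, hp2⟩ := hp t ht
  rcases hn with hn | hn
  · rw [hn] at hβc
    rw [hβc] at hrelβ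
    rcases hp1 with e | ⟨j, -, hj⟩
    · rw [(relsB_iff (code_aOf hc1 hc2) htc).2 hrelβ] at e
      exact Bool.noConfusion e
    · have hj' : β ax0 = aC ^ j * ax0 * (aC⁻¹) ^ j := pOf_injective ((sameF_iff htc
        (((code_powF (code_aOf hc1 hc2) j).cmp (code_aOf inv_facts.1.1 inv_facts.1.2)).cmp
          (code_powF (code_aOf_inv hc1 hc2) j))).1 hj)
      rw [inv_pow] at hj'
      set γ : MulAut stdA := MulAut.conj (aC ^ j)⁻¹ * β with hγ
      have hγc : γ aC = aC := by
        rw [hγ, MulAut.mul_apply, hβc, MulAut.conj_apply, inv_inv]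
        have : Commute aC (aC ^ j) := (Commute.refl aC).pow_right j
        rw [mul_assoc, this.eq, inv_mul_cancel_left]
      have hγx : γ ax0 = ax0 := by
        rw [hγ, MulAut.mul_apply, hj', MulAut.conj_apply, inv_inv]; group
      have htop := eq_top_of_pair (H := MonoidHom.eqLocus γ.toMonoidHom (MonoidHom.id stdA)) hγc hγx
      have hγ1 : γ = 1 := MulEquiv.ext fun y => by
        have : y ∈ MonoidHom.eqLocus γ.toMonoidHom (MonoidHom.id stdA) := htop ▸ Subgroup.mem_top y
        exact this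
      have : α = (MulAut.conj ((aC ^ j)⁻¹ * (n * g)))⁻¹ := by
        rw [eq_inv_iff_mul_eq_one, ← mul_eq_one_comm, map_mul, mul_assoc, ← hβ, ← hγ, hγ1]
      rw [this]
      exact inv_mem ⟨_, rfl⟩
  · exfalso
    rw [hn] at hβc
    rw [hβc] at hrelβ
    rw [(relsB_iff (code_aOf_inv hc1 hc2) htc).2 hrelβ] at hp2
    exact Bool.noConfusion hp2

theorem card_out_stdA : Nat.card (Cfsg.Out stdA) = 1 := by
  haveI : Subsingleton (Cfsg.Out stdA) := ⟨fun a b => by
    induction a using QuotientGroup.induction_on with | _ α => ?_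
    induction b using QuotientGroup.induction_on with | _ β => ?_
    exact QuotientGroup.eq.2 (aut_inner _)⟩
  exact Nat.card_of_subsingleton (1 : Cfsg.Out stdA)

end Cfsg.Agent.Golay.Local
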