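import Mathlib.SetTheory.Cardinal.Finite
import Mathlib.Algebra.Group.Equiv.Defs
import Mathlib.Algebra.Group.Hom.Basic

/-! An isomorphism from two element tables with the same right multiplication by generators. -/

namespace Cfsg.Agent.Golay.Local

/-- Groups with bijective element tables agreeing on right multiplication by a generating family are isomorphic. -/
theorem nonempty_mulEquiv_of_table {G H : Type*} [Group G] [Group H] {N k : ℕ}
    (x : Fin N → G) (y : Fin N → H) (z : Fin N) (gi : Fin k → Fin N) (next : Fin N → Fin k → Fin N)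
    (par : Fin N → Fin N × Fin k)
    (hx1 : x z = 1) (hy1 : y z = 1) (hxi : Function.Injective x) (hyi : Function.Injective y)
    (hG : Nat.card G = N) (hH : Nat.card H = N)
    (hxs : ∀ n j, x (next n j) = x n * x (gi j)) (hys : ∀ n j, y (next n j) = y n * y (gi j))
    (hpar : ∀ n, n ≠ z → (par n).1 < n ∧ next (par n).1 (par n).2 = n) : Nonempty (G ≃* H) := by
  have hN : 0 < N := z.pos
  haveI : Finite G := Nat.finite_of_card_ne_zero (by omega)
  haveI : Finite H := Nat.finite_of_card_ne_zero (by omega)
  have key : ∀ m n : Fin N, ∃ l, x l = x n * x m ∧ y l = y n * y m := by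
    intro m
    induction m using WellFoundedLT.induction with
    | _ m ih =>
      intro n
      by_cases hm : m = z
      · exact ⟨n, by rw [hm, hx1, mul_one], by rw [hm, hy1, mul_one]⟩
      · obtain ⟨hlt, he⟩ := hpar m hm
        obtain ⟨l, lx, ly⟩ := ih (par m).1 hlt n
        refine ⟨next l (par m).2, ?_, ?_⟩
        · rw [hxs, lx, mul_assoc, ← hxs, he]
        · rw [hys, ly, mul_assoc, ← hys, he]
  have bx : Function.Bijective x := hxi.bijective_of_nat_card_le (by rw [hG, Nat.card_fin])
  have by' : Function.Bijective y := hyi.bijective_of_nat_card_le (by rw [hH, Nat.card_fin])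
  let ex := Equiv.ofBijective x bx
  let ey := Equiv.ofBijective y by'
  refine ⟨{ ex.symm.trans ey with map_mul' := ?_ }⟩
  intro a b
  obtain ⟨n, rfl⟩ := bx.2 a
  obtain ⟨m, rfl⟩ := bx.2 b
  obtain ⟨l, lx, ly⟩ := key m n
  show ey (ex.symm (x n * x m)) = ey (ex.symm (x n)) * ey (ex.symm (x m))
  rw [← lx, show ex.symm (x l) = l from ex.symm_apply_apply l, show ex.symm (x n) = n from ex.symm_apply_apply n,
    show ex.symm (x m) = m from ex.symm_apply_apply m]
  exact ly

end Cfsg.Agent.Golay.Local
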