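import Cfsg.Agent.Lib.Golay.Local.Induced
import Cfsg.Agent.Lib.Golay.Local.TableIso
import Cfsg.Agent.Lib.Golay.Local.M11SubData
import Cfsg.Agent.Lib.Golay.Mathieu
import Cfsg.Agent.Lib.Golay.DodStab
import Mathlib.Data.ZMod.Basic
import Mathlib.LinearAlgebra.Matrix.Notation
import Mathlib.LinearAlgebra.Matrix.GeneralLinearGroup.Defs

/-! Checks of element tables inside the stabiliser of the dodecad of squares and one of its points. -/

namespace Cfsg.Agent.Golay.Local

open Cfsg Cfsg.Agent.PermCert
open scoped Pointwise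

/-- An entry of a table as an index below `N`. -/
def fidx (N : ℕ) [NeZero N] (v : ℕ) : Fin N := Fin.ofNat N v

/-- The generator indices of a table. -/
def tgen (N : ℕ) [NeZero N] (gi : List ℕ) (j : Fin 2) : Fin N := fidx N (gi.getD j 0)

/-- Right multiplication by generators in a table. -/
def tnext (N : ℕ) [NeZero N] (nx : List (List ℕ)) (n : Fin N) (j : Fin 2) : Fin N :=
  fidx N ((nx.getD n []).getD j 0)

/-- The element table is closed under the generators, rooted and injective. -/
def tblOK (N : ℕ) [NeZero N] (P : Elt → Bool) (es : List Elt) (gi : List ℕ) (nx : List (List ℕ))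
    (par : List (ℕ × ℕ)) : Bool :=
  Nat.beq es.length N && es.all (fun e => eltOK e && P e) &&
    distinctKeys (es.map fun e => cmpF e.1 idC) && sameF (es.getD 0 (0, 0)).1 idC &&
    (List.finRange N).all (fun n => (List.finRange 2).all fun j =>
      sameF (es.getD (tnext N nx n j) (0, 0)).1
        (cmpF (es.getD n (0, 0)).1 (es.getD (tgen N gi j) (0, 0)).1)) &&
    (List.finRange N).all (fun n => Nat.beq n 0 ||
      (Nat.blt (par.getD n (0, 0)).1 n && Nat.blt (par.getD n (0, 0)).2 2 &&
        Nat.beq (tnext N nx (fidx N (par.getD n (0, 0)).1) (fidx 2 (par.getD n (0, 0)).2)) n))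

attribute [local irreducible] cmpF

/-- A checked table is an isomorphism once a matching injective table is given. -/
theorem nonempty_mulEquiv_of_tblOK {N : ℕ} [NeZero N] {P : Elt → Bool} {es : List Elt} {gi : List ℕ}
    {nx : List (List ℕ)} {par : List (ℕ × ℕ)} (h : tblOK N P es gi nx par = true)
    {K : Subgroup M24} (hP : ∀ e, eltOK e = true → P e = true → gOf e ∈ K) (hK : Nat.card K ≤ N)
    {H : Type*} [Group H] (y : Fin N → H) (hy1 : y 0 = 1) (hyi : Function.Injective y)
    (hH : Nat.card H = N) (hys : ∀ n j, y (tnext N nx n j) = y n * y (tgen N gi j)) :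
    Nonempty (K ≃* H) := by
  simp only [tblOK, Bool.and_eq_true, Nat.beq_eq, List.all_eq_true, List.mem_finRange, forall_true_left] at h
  obtain ⟨⟨⟨⟨⟨hlen, hall⟩, hdist⟩, h0⟩, hstep⟩, hpar⟩ := h
  have hmem : ∀ n : Fin N, es.getD n (0, 0) ∈ es := fun n => by
    rw [List.getD_eq_getElem _ _ (by omega)]; exact List.getElem_mem _
  let x : Fin N → K := fun n => ⟨gOf (es.getD n (0, 0)), hP _ (hall _ (hmem n)).1 (hall _ (hmem n)).2⟩
  have hc : ∀ n : Fin N, Code (es.getD n (0, 0)).1 ((x n : M24) : Equiv.Perm GolayPt) := fun n =>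
    code_gOf (hall _ (hmem n)).1
  have hxi : Function.Injective x := by
    intro a b e
    have e' : ((x a : M24) : Equiv.Perm GolayPt) = ((x b : M24) : Equiv.Perm GolayPt) := by rw [e]
    have key := (e' ▸ hc a).cmpF_congr (hc b) code_idC
    have hn := distinctKeys_spec _ hdist
    have ha : (a : ℕ) < (es.map fun e => cmpF e.1 idC).length := by simp only [List.length_map]; omega
    have hb : (b : ℕ) < (es.map fun e => cmpF e.1 idC).length := by simp only [List.length_map]; omega
    refine Fin.ext ((hn.getElem_inj_iff (hi := ha) (hj := hb)).mp ?_)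
    rw [List.getElem_map, List.getElem_map]
    rw [List.getD_eq_getElem _ _ (by omega : (a : ℕ) < es.length),
      List.getD_eq_getElem _ _ (by omega : (b : ℕ) < es.length)] at key
    exact key
  haveI : Finite K := inferInstance
  refine nonempty_mulEquiv_of_table x y 0 (tgen N gi) (tnext N nx)
    (fun n => (fidx N (par.getD n (0, 0)).1, fidx 2 (par.getD n (0, 0)).2)) ?_ hy1 hxi hyi
    (le_antisymm hK (by simpa using Nat.card_le_card_of_injective x hxi)) hH ?_ hys ?_
  · exact Subtype.ext (Subtype.ext ((sameF_iff (hc 0) code_idC).1 h0))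
  · intro n j
    exact Subtype.ext (Subtype.ext ((sameF_iff (hc _) ((hc n).cmp (hc _))).1 (hstep n j)))
  · intro n hn
    have := hpar n
    simp only [Bool.or_eq_true, Nat.beq_eq, Bool.and_eq_true, Nat.blt_eq] at this
    rcases this with h | ⟨⟨h1, -⟩, h3⟩
    · exact absurd (Fin.ext (by simpa using h)) hn
    · refine ⟨?_, Fin.ext h3⟩
      rw [Fin.lt_def, show ((fidx N (par.getD n (0, 0)).1 : Fin N) : ℕ) = _ % N from rfl,
        Nat.mod_eq_of_lt (h1.trans n.2)]
      exact h1

/-! ### The point stabiliser in the dodecad group -/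

/-- The first point of the dodecad. -/
def dp0 : GolayPt := pt 0

/-- The stabiliser of the dodecad of squares and of a point of it. -/
def stdA : Subgroup M24 := MulAction.stabilizer M24 (maskSet sqMask) ⊓ MulAction.stabilizer M24 dp0

/-- Membership of a coded element. -/
def inA (e : Elt) : Bool := Nat.beq (imgMask e sqMask) sqMask && Nat.beq (get 5 e.1 0) 0

theorem gOf_apply {e : Elt} (h : eltOK e = true) {i : Fin 24} {j : Fin 24} (hij : get 5 e.1 i = j) :
    gOf e • pt i = pt j := by
  refine idx_injective ?_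
  rw [idx_pt]
  show idx ((gOf e : Equiv.Perm GolayPt) (pt i)) = _
  rw [← code_gOf h (pt i), idx_pt, hij]

theorem gOf_mem_stdA {e : Elt} (h : eltOK e = true) (h' : inA e = true) : gOf e ∈ stdA := by
  simp only [inA, Bool.and_eq_true, Nat.beq_eq] at h'
  refine ⟨?_, gOf_apply h (i := 0) (j := 0) h'.2⟩
  show gOf e • maskSet sqMask = maskSet sqMask
  rw [gOf_smul_maskSet h, h'.1]

theorem card_stdA : Nat.card stdA = 7920 := by
  have hp : dp0 = some 0 := by decide
  rw [Nat.card_congr (equivStabSets stdA [Spor.squareDodecad, {(some 0 : GolayPt)}] (fun g => by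
    rw [← hp, squareDodecad_eq, stdA, Subgroup.mem_inf, mem_stab_set, mem_stab_pt]; simp)).toEquiv,
    ← sporM11_eq, card_sporM11]

theorem stdA_triple {x y : Fin 3 → GolayPt} (hx : Function.Injective x) (hy : Function.Injective y)
    (hxd : ∀ i, x i ∉ maskSet sqMask) (hyd : ∀ i, y i ∉ maskSet sqMask) :
    ∃ a : stdA, ∀ i, a • x i = y i := by
  obtain ⟨g, hg, hxy⟩ := Cfsg.Agent.Golay.exists_triple hx hy hxd hyd
  rw [stabIn_eq_stabSets, mem_stabSets] at hg
  refine ⟨⟨⟨g, hg.1⟩, hg.2 _ (by simp), ?_⟩, hxy⟩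
  have := hg.2 (maskSet (1 <<< ((0 : Fin 24) : ℕ))) (by simp)
  rw [maskSet_single, smul_singleton_eq_iff] at this
  exact this

theorem card_compl_dodecad : (maskSet sqMask)ᶜ.card = 12 := by
  rw [Finset.card_compl, card_maskSet, show popCount sqMask 24 = 12 by decide +kernel]
  rfl

theorem stdA_map {k : ℕ} (hk : k ≤ 3) {x y : Fin k → GolayPt} (hx : Function.Injective x)
    (hy : Function.Injective y) (hxd : ∀ i, x i ∉ maskSet sqMask) (hyd : ∀ i, y i ∉ maskSet sqMask) :
    ∃ a : stdA, ∀ i, a • x i = y i := by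
  have h12 := card_compl_dodecad
  obtain ⟨x', hx', hxd', hxe⟩ := exists_injective_extension hk (by omega) x hx
    (fun i => Finset.mem_compl.2 (hxd i))
  obtain ⟨y', hy', hyd', hye⟩ := exists_injective_extension hk (by omega) y hy
    (fun i => Finset.mem_compl.2 (hyd i))
  obtain ⟨a, ha⟩ := stdA_triple hx' hy' (fun i => Finset.mem_compl.1 (hxd' i))
    (fun i => Finset.mem_compl.1 (hyd' i))
  exact ⟨a, fun i => by rw [← hxe, ← hye, ha]⟩

/-- Orders of stabilisers inside a subgroup from the orbit. -/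
theorem card_inf_stabilizer {X : Type*} [MulAction M24 X] {A : Subgroup M24} {a : X} {N k : ℕ}
    (hN : (MulAction.orbit A a).ncard = N) (hA : Nat.card A = N * k) (hN0 : 0 < N) :
    Nat.card ↥(A ⊓ MulAction.stabilizer M24 a) = k := by
  have h1 := Subgroup.index_mul_card (MulAction.stabilizer A a)
  rw [MulAction.index_stabilizer, hN, hA] at h1
  refine Eq.trans ?_ (Nat.eq_of_mul_eq_mul_left hN0 h1)
  exact Nat.card_congr
    { toFun := fun g => ⟨⟨g.1, g.2.1⟩, g.2.2⟩
      invFun := fun g => ⟨g.1.1, g.1.2, g.2⟩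
      left_inv := fun _ => rfl
      right_inv := fun _ => rfl }

/-- Conjugation between two subgroups. -/
noncomputable def conjEquiv (g : M24) {H K : Subgroup M24} (h : ∀ x, x ∈ H ↔ g * x * g⁻¹ ∈ K) : ↥H ≃* ↥K where
  toFun x := ⟨g * x * g⁻¹, (h _).1 x.2⟩
  invFun y := ⟨g⁻¹ * y * g, (h _).2 (by simp [mul_assoc])⟩
  left_inv x := Subtype.ext (show g⁻¹ * (g * (x : M24) * g⁻¹) * g = x by group)
  right_inv y := Subtype.ext (show g * (g⁻¹ * (y : M24) * g) * g⁻¹ = y by group)
  map_mul' a b := Subtype.ext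
    (show g * ((a : M24) * b) * g⁻¹ = g * a * g⁻¹ * (g * b * g⁻¹) by group)

theorem mem_stab_conj {X : Type*} [MulAction M24 X] (g x : M24) {a b : X} (hab : g • a = b) :
    g * x * g⁻¹ ∈ MulAction.stabilizer M24 b ↔ x ∈ MulAction.stabilizer M24 a := by
  simp [← hab, mul_smul]

theorem exists_stdA_conj {d : Finset GolayPt} (hd : d ∈ dodecads) {p : GolayPt} (hp : p ∈ d) :
    ∃ g : M24, g • maskSet sqMask = d ∧ g • dp0 = p := by
  obtain ⟨g, hg, hgd, h⟩ := exists_M24_dodecad_map hd (k := 1) (by norm_num) (x := ![some 0])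
    (y := ![p]) (Function.injective_of_subsingleton _) (Function.injective_of_subsingleton _)
    (fun i => by fin_cases i; exact zero_mem_squareDodecad) (fun i => by fin_cases i; exact hp)
  refine ⟨⟨g, hg⟩, by rw [← squareDodecad_eq]; exact hgd, ?_⟩
  rw [show dp0 = some 0 by decide]
  exact h 0

end Cfsg.Agent.Golay.Local
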