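import Mathlib.Data.Nat.Notation

/-! Elements of the two-point stabiliser generating it, with orbit tables. -/

namespace Cfsg.Agent.Golay.Local

/-- An element of the two-point stabiliser. -/
def m22A : ℕ × ℕ := (974070728653012542414551506203887808, 981477529519824513390540900788254016)

/-- An element of the two-point stabiliser. -/
def m22B : ℕ × ℕ := (967701970412534250598188667912687776, 981766845809157048883368468156631264)

/-- An element of the two-point stabiliser. -/
def m22W : ℕ × ℕ := (980600671861977971529927696411115712, 975676049978513902764184276304251040)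

/-- Fixed points. -/
def m22AFix : ℕ := 8388609

/-- Orbit representatives. -/
def m22AReps : List ℕ := [1, 2]

/-- Orbit number and exponent. -/
def m22ATbl : List (ℕ × ℕ) := [
  (0, 0), (0, 0), (1, 0), (0, 5), (1, 2), (0, 4), (0, 1), (0, 2),
  (0, 8), (1, 3), (0, 10), (1, 8), (0, 7), (1, 10), (1, 6), (0, 3),
  (1, 9), (1, 7), (1, 1), (0, 9), (1, 4), (0, 6), (1, 5), (0, 0)]

/-- Fixed points. -/
def m22BFix : ℕ := 8390665

/-- Orbit representatives. -/
def m22BReps : List ℕ := [1, 2, 8, 9]

/-- Orbit number and exponent. -/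
def m22BTbl : List (ℕ × ℕ) := [
  (0, 0), (0, 0), (1, 0), (0, 0), (1, 1), (0, 1), (0, 3), (0, 4),
  (2, 0), (3, 0), (2, 1), (0, 0), (0, 2), (3, 2), (1, 3), (2, 3),
  (1, 2), (3, 1), (1, 4), (2, 4), (3, 3), (2, 2), (3, 4), (0, 0)]

/-- The standard generators as words. -/
def m22Words : List (List ℕ) := [
  [0],
  [1, 0, 0, 0, 2, 2, 0, 1, 2, 0, 2, 0, 1, 2, 2]]

end Cfsg.Agent.Golay.Local
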