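import Cfsg.Agent.Lib.Golay.Local.Induced
import Cfsg.Agent.Lib.Golay.Local.M22LocalData
import Cfsg.Agent.Lib.Golay.Mathieu
import Cfsg.Agent.Lib.Golay.PrimeNormalizer
import Mathlib.GroupTheory.Sylow

/-! Subgroups of small index in the two-point stabiliser: normalisers of elements of order 11 and 5. -/

namespace Cfsg.Agent.Golay.Local

set_option maxHeartbeats 400000

open Cfsg Cfsg.Agent.PermCert Cfsg.Agent.Golay.SB
open scoped Pointwise

/-- If `a` has prime order `p`, `p²` does not divide `|H|` and at most `B` elements normalise `⟨a⟩`, then the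
part normalising inside `H` has order `d ≤ B` with `|H| = d n` and `n ≡ 1 [mod p]`. -/
theorem normalizer_count {G : Type*} [Group G] [Finite G] {p B : ℕ} [hp : Fact p.Prime] {H : Subgroup G}
    {a : G} (haH : a ∈ H) (hord : orderOf a = p) (hsq : ¬ p ^ 2 ∣ Nat.card H)
    (hB : {g : G | g * a * g⁻¹ ∈ Subgroup.zpowers a}.ncard ≤ B) :
    ∃ d n, d ≤ B ∧ p ∣ d ∧ d * n = Nat.card H ∧ n % p = 1 ∧
      (d = B → ∀ g : G, g * a * g⁻¹ ∈ Subgroup.zpowers a → g ∈ H) := by
  classical
  have ha : orderOf (⟨a, haH⟩ : H) = p := by rw [Subgroup.orderOf_mk, hord]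
  have hQ : IsPGroup p (Subgroup.zpowers (⟨a, haH⟩ : H)) :=
    IsPGroup.of_card (n := 1) (by rw [Nat.card_zpowers, ha, pow_one])
  obtain ⟨S, hS⟩ := hQ.exists_le_sylow
  have hSQ : (S : Subgroup H) = Subgroup.zpowers (⟨a, haH⟩ : H) := by
    refine (Subgroup.eq_of_le_of_card_ge hS ?_).symm
    obtain ⟨k, hk⟩ := IsPGroup.iff_card.1 S.2
    rw [hk, Nat.card_zpowers, ha]
    have hk1 : k ≤ 1 := by
      by_contra hc
      exact hsq ((pow_dvd_pow p (show 2 ≤ k by omega)).trans (hk ▸ Subgroup.card_subgroup_dvd_card (S : Subgroup H)))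
    calc p ^ k ≤ p ^ 1 := Nat.pow_le_pow_right hp.1.pos hk1
      _ = p := pow_one p
  let N := Subgroup.normalizer ((S : Subgroup H) : Set H)
  have hmem : ∀ h : H, h ∈ N ↔ (h : G) * a * (h : G)⁻¹ ∈ Subgroup.zpowers a := by
    intro h
    have key : ∀ x : H, x ∈ Subgroup.zpowers (⟨a, haH⟩ : H) ↔ (x : G) ∈ Subgroup.zpowers a := by
      intro x
      simp only [Subgroup.mem_zpowers_iff, Subtype.ext_iff, SubgroupClass.coe_zpow]
    show h ∈ Subgroup.normalizer ((S : Subgroup H) : Set H) ↔ _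
    rw [hSQ, Subgroup.mem_normalizer_iff]
    constructor
    · intro hh
      have := (hh ⟨a, haH⟩).1 (Subgroup.mem_zpowers _)
      rw [key] at this
      exact this
    · intro hh
      have hle : (Subgroup.zpowers (⟨a, haH⟩ : H)).map (MulAut.conj h).toMonoidHom = Subgroup.zpowers (⟨a, haH⟩ : H) := by
        refine Subgroup.eq_of_le_of_card_ge ?_ ?_
        · rw [MonoidHom.map_zpowers, Subgroup.zpowers_le, key]
          exact hh
        · rw [Subgroup.card_map_of_injective (MulEquiv.injective _)]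
      intro x
      conv_rhs => rw [← hle, Subgroup.mem_map_equiv]
      simp [MulAut.conj_symm_apply, mul_assoc]
  have hle : Nat.card N ≤ {g : G | g * a * g⁻¹ ∈ Subgroup.zpowers a}.ncard := by
    rw [← Nat.card_coe_set_eq]
    exact Nat.card_le_card_of_injective (fun x : N => (⟨((x : H) : G), (hmem _).1 x.2⟩ :
      {g : G | g * a * g⁻¹ ∈ Subgroup.zpowers a})) (fun x y e =>
        Subtype.ext (Subtype.ext (congrArg (fun z : {g : G | g * a * g⁻¹ ∈ Subgroup.zpowers a} => (z : G)) e)))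
  refine ⟨Nat.card N, Nat.card (Sylow p H), hle.trans hB, ?_, ?_, ?_, fun hd g hg => ?_⟩
  · have : (S : Subgroup H) ≤ N := Subgroup.le_normalizer
    have h := Subgroup.card_dvd_of_le this
    rwa [hSQ, Nat.card_zpowers, ha] at h
  · rw [S.card_eq_index_normalizer]; exact Subgroup.card_mul_index _
  · have h := card_sylow_modEq_one p H
    rw [Nat.ModEq, Nat.mod_eq_of_lt hp.1.one_lt] at h
    exact h
  · by_contra hgH
    have hlt : Nat.card N < {g : G | g * a * g⁻¹ ∈ Subgroup.zpowers a}.ncard := by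
      rw [← Nat.card_coe_set_eq]
      let f : N → {g : G | g * a * g⁻¹ ∈ Subgroup.zpowers a} := fun x => ⟨((x : H) : G), (hmem _).1 x.2⟩
      haveI : Fintype N := Fintype.ofFinite _
      haveI : Fintype {g : G | g * a * g⁻¹ ∈ Subgroup.zpowers a} := Fintype.ofFinite _
      rw [Nat.card_eq_fintype_card, Nat.card_eq_fintype_card]
      refine Fintype.card_lt_of_injective_of_notMem f
        (fun x y e => Subtype.ext (Subtype.ext (congrArg (fun z : {g : G | g * a * g⁻¹ ∈ Subgroup.zpowers a} => (z : G)) e)))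
        (b := ⟨g, hg⟩) ?_
      rintro ⟨x, hx⟩
      have he : ((x : H) : G) = g := congrArg (fun z : {g : G | g * a * g⁻¹ ∈ Subgroup.zpowers a} => (z : G)) hx
      exact hgH (he ▸ (x : H).2)
    omega

/-- The two-point stabiliser of the standard points. -/
def stdG : Subgroup M24 := MulAction.stabilizer M24 (pt 23) ⊓ MulAction.stabilizer M24 (pt 0)

/-- Membership of a code. -/
def inG (e : Elt) : Bool := eltOK e && Nat.beq (get 5 e.1 23) 23 && Nat.beq (get 5 e.1 0) 0

/-- Orbit data of the element of order 11. -/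
def oA : Orb := ⟨11, m22A, m22AFix, m22AReps, m22ATbl⟩

/-- Orbit data of the element of order 5. -/
def oB : Orb := ⟨5, m22B, m22BFix, m22BReps, m22BTbl⟩

/-- Product of a word in the three elements. -/
def evalWord : List ℕ → ℕ
  | [] => idC
  | j :: l => cmpF ([m22A, m22B, m22W].getD j (0, 0)).1 (evalWord l)

theorem m22_local_facts :
    (inG m22A = true ∧ inG m22B = true ∧ inG m22W = true) ∧
    (oA.ok = true ∧ oA.valid.length ≤ 5) ∧ (oB.ok = true ∧ oB.valid.length ≤ 2) ∧
    m22AFix = 2 ^ 0 + 2 ^ 23 ∧ m22BFix = 2 ^ 0 + 2 ^ 3 + 2 ^ 11 + 2 ^ 23 ∧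
    (get 5 m22W.1 3 = 11) ∧
    (List.range 11).any (fun k => sameF (cmpF (cmpF m22B.1 m22A.1) m22B.2)
      ((List.range k).foldr (fun _ r => cmpF m22A.1 r) idC)) = true ∧
    (List.range 5).any (fun k => sameF (cmpF (cmpF m22W.1 m22B.1) m22W.2)
      ((List.range k).foldr (fun _ r => cmpF m22B.1 r) idC)) = true ∧
    (List.range Cert.m22Gens.length).all (fun i => inG (Cert.m22Gens.getD i (0, 0)) &&
      (m22Words.getD i []).all (fun j => Nat.blt j 3) &&
      sameF (Cert.m22Gens.getD i (0, 0)).1 (evalWord (m22Words.getD i []))) = true := by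
  decide +kernel

attribute [local irreducible] cmpF m22A m22B m22W m22Words Cert.m22Gens

/-- The element of a code in the two-point stabiliser. -/
noncomputable def gG (e : Elt) : stdG :=
  if h : inG e = true then ⟨gOf e, by
    simp only [inG, Bool.and_eq_true, Nat.beq_eq] at h
    have hv := code_gOf h.1.1
    refine ⟨idx_injective ?_, idx_injective ?_⟩
    · show idx ((gOf e : Equiv.Perm GolayPt) (pt 23)) = idx (pt 23)
      rw [← hv, idx_pt]; exact h.1.2
    · show idx ((gOf e : Equiv.Perm GolayPt) (pt 0)) = idx (pt 0)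
      rw [← hv, idx_pt]; exact h.2⟩ else 1

/-- The permutation of the points. -/
abbrev pG (g : stdG) : Equiv.Perm GolayPt := ((g : M24) : Equiv.Perm GolayPt)

theorem pG_injective : Function.Injective pG := fun _ _ h => Subtype.ext (Subtype.ext h)

theorem eltOK_of_inG {e : Elt} (h : inG e = true) : eltOK e = true ∧ validElt 5 24 e = true := by
  simp only [inG, Bool.and_eq_true] at h
  exact ⟨h.1.1, by simp only [eltOK, Bool.and_eq_true] at h; exact h.1.1.1⟩

theorem pG_gG {e : Elt} (h : inG e = true) : pG (gG e) = permOf e := by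
  show (((gG e : stdG) : M24) : Equiv.Perm GolayPt) = _
  rw [gG, dif_pos h]
  exact gOf_val (eltOK_of_inG h).1

theorem code_gG {e : Elt} (h : inG e = true) : Code e.1 (pG (gG e)) := by
  rw [pG_gG h]; exact code_permOf (eltOK_of_inG h).2

theorem code_gG_inv {e : Elt} (h : inG e = true) : Code e.2 (pG (gG e)⁻¹) := by
  show Code e.2 (pG (gG e))⁻¹
  rw [pG_gG h]; exact code_permOf_inv (eltOK_of_inG h).2

theorem code_foldr {e : ℕ} {g : stdG} (h : Code e (pG g)) :
    ∀ k, Code ((List.range k).foldr (fun _ r => cmpF e r) idC) (pG (g ^ k)) := by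
  intro k
  have : ∀ l : List ℕ, Code (l.foldr (fun _ r => cmpF e r) idC) (pG (g ^ l.length)) := by
    intro l
    induction l with
    | nil => rw [List.foldr_nil, List.length_nil, pow_zero]; exact code_idC
    | cons x l ih => rw [List.foldr_cons, List.length_cons, pow_succ']; exact h.cmp ih
  simpa using this (List.range k)

theorem stdG_mem_pts (g : stdG) : pG g (pt 23) = pt 23 ∧ pG g (pt 0) = pt 0 := ⟨g.2.1, g.2.2⟩

theorem card_stdG : Nat.card stdG = 443520 := by
  obtain ⟨e⟩ := nonempty_stab2 (p := pt 23) (q := pt 0) (by decide)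
  show Nat.card ↥(MulAction.stabilizer M24 (pt 23) ⊓ MulAction.stabilizer M24 (pt 0)) = _
  rw [Nat.card_congr e.toEquiv, ← sporM22_eq, card_sporM22]

theorem orders : orderOf (gG m22A) = 11 ∧ orderOf (gG m22B) = 5 := by
  obtain ⟨⟨ha, hb, -⟩, ⟨oa, -⟩, ⟨ob, -⟩, -⟩ := m22_local_facts
  have key : ∀ g : stdG, orderOf g = orderOf (pG g) := fun g => by
    rw [← Subgroup.orderOf_coe g, ← Subgroup.orderOf_coe (g : M24)]
  have p11 : Nat.Prime oA.p := by show Nat.Prime 11; norm_num
  have p5 : Nat.Prime oB.p := by show Nat.Prime 5; norm_num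
  refine ⟨?_, ?_⟩
  · rw [key, pG_gG ha]
    exact Orb.orderOf_permOf (O := oA) oa p11
  · rw [key, pG_gG hb]
    exact Orb.orderOf_permOf (O := oB) ob p5

theorem pow_of_mem_zpowers {G : Type*} [Group G] [Finite G] {x y : G} (h : y ∈ Subgroup.zpowers x) (hy : y ≠ 1) :
    ∃ k, 0 < k ∧ k < orderOf x ∧ y = x ^ k := by
  classical
  obtain ⟨k, hk, he⟩ := Finset.mem_image.1 (mem_zpowers_iff_mem_range_orderOf.1 h)
  refine ⟨k, Nat.pos_of_ne_zero fun e => hy ?_, Finset.mem_range.1 hk, he.symm⟩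
  rw [← he, e, pow_zero]

theorem mem_nF {O : Orb} {x g : stdG} (hx : pG x = permOf O.x) (hord : orderOf x = O.p) (hp : 1 < O.p)
    (hfix : ∀ q, O.fix.testBit (idx q) = true → pG g q = q) (hg : g * x * g⁻¹ ∈ Subgroup.zpowers x) :
    pG g ∈ O.nF := by
  have hx1 : x ≠ 1 := fun e => by rw [e, orderOf_one] at hord; omega
  obtain ⟨k, hk0, hk, e⟩ := pow_of_mem_zpowers hg (fun e => hx1 (by simpa using e))
  exact ⟨(g : M24).2, hfix, k, hk0, hord ▸ hk, by rw [← hx]; exact congrArg pG e⟩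

theorem norm_A_le : {g : stdG | g * gG m22A * g⁻¹ ∈ Subgroup.zpowers (gG m22A)}.ncard ≤ 55 := by
  obtain ⟨⟨ha, -⟩, ⟨oa, va⟩, -, hf, -⟩ := m22_local_facts
  have hM : permOf oA.x ∈ M24 := by
    show permOf m22A ∈ M24
    rw [← pG_gG ha]; exact (gG m22A : M24).2
  refine le_trans ?_ (Orb.ncard_nF_le oa (by norm_num [oA]) hM va)
  refine Set.ncard_le_ncard_of_injOn pG (fun g hg => ?_) pG_injective.injOn (Set.toFinite _)
  refine mem_nF (O := oA) (x := gG m22A) (pG_gG ha) orders.1 (by norm_num [oA]) (fun q hq => ?_) hg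
  have : ∀ i : Fin 24, oA.fix.testBit i = true → i = 0 ∨ i = 23 := by
    show ∀ i : Fin 24, m22AFix.testBit i = true → i = 0 ∨ i = 23
    rw [hf]; decide
  rcases this ⟨idx q, idx_lt q⟩ hq with h | h <;>
    · have e := congrArg pt h
      rw [pt_idx] at e
      rw [e]
      first | exact (stdG_mem_pts g).2 | exact (stdG_mem_pts g).1

theorem zpowers_eq_of_mem {G : Type*} [Group G] [Finite G] {p : ℕ} (hp : p.Prime) {x y : G} (hx : orderOf x = p)
    (h : y ∈ Subgroup.zpowers x) (hy : y ≠ 1) : Subgroup.zpowers y = Subgroup.zpowers x := by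
  refine Subgroup.eq_of_le_of_card_ge (Subgroup.zpowers_le.2 h) ?_
  rw [Nat.card_zpowers, Nat.card_zpowers, hx]
  have hd := Subgroup.card_dvd_of_le (Subgroup.zpowers_le.2 h)
  rw [Nat.card_zpowers, Nat.card_zpowers, hx] at hd
  rcases hp.eq_one_or_self_of_dvd _ hd with e | e
  · exact absurd (orderOf_eq_one_iff.1 e) hy
  · exact e.ge

theorem norm_B_le : {g : stdG | g * gG m22B * g⁻¹ ∈ Subgroup.zpowers (gG m22B)}.ncard ≤ 20 := by
  obtain ⟨⟨-, hb, hw⟩, -, ⟨ob, vb⟩, -, hf, h311, -⟩ := m22_local_facts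
  have hM : permOf oB.x ∈ M24 := by
    show permOf m22B ∈ M24
    rw [← pG_gG hb]; exact (gG m22B : M24).2
  set S := {g : stdG | g * gG m22B * g⁻¹ ∈ Subgroup.zpowers (gG m22B)} with hS
  have bits : ∀ i : Fin 24, m22BFix.testBit i = true ↔ (i = 0 ∨ i = 3 ∨ i = 11 ∨ i = 23) := by
    rw [hf]; decide
  have hfixpt : ∀ i : Fin 24, m22BFix.testBit i = true → pG (gG m22B) (pt i) = pt i := fun i hi => by
    rw [pG_gG hb]; exact (Orb.fix_iff ob (pt i)).1 (by rw [idx_pt]; exact hi)
  have hfix : ∀ g ∈ S, ∀ i : Fin 24, (i = 3 ∨ i = 11) → pG g (pt i) = pt 3 ∨ pG g (pt i) = pt 11 := by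
    intro g hg i hi
    have hb1 : gG m22B ≠ 1 := fun e => by have := orders.2; rw [e, orderOf_one] at this; omega
    have he : gG m22B ∈ Subgroup.zpowers (g * gG m22B * g⁻¹) := by
      rw [zpowers_eq_of_mem (p := 5) (by norm_num) orders.2 hg (fun e => hb1 (by simpa using e))]
      exact Subgroup.mem_zpowers _
    obtain ⟨k, hk⟩ := Subgroup.mem_zpowers_iff.1 he
    rw [conj_zpow] at hk
    have hfx : pG (gG m22B) (pG g (pt i)) = pG g (pt i) := by
      have h1 : pG (gG m22B) * pG g = pG g * pG (gG m22B ^ k) := by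
        show pG (gG m22B * g) = pG (g * gG m22B ^ k)
        exact congrArg pG (by conv_lhs => rw [← hk, inv_mul_cancel_right])
      have h2 := congrArg (fun σ : Equiv.Perm GolayPt => σ (pt i)) h1
      simp only [Equiv.Perm.mul_apply] at h2
      rw [h2]
      congr 1
      have hi' : pG (gG m22B) (pt i) = pt i := hfixpt i ((bits i).2 (hi.elim (Or.inr ∘ Or.inl) (Or.inr ∘ Or.inr ∘ Or.inl)))
      show ((gG m22B ^ k : stdG) : M24) • pt i = pt i
      exact MulAction.mem_stabilizer_iff.1 (zpow_mem (MulAction.mem_stabilizer_iff.2 (show ((gG m22B : stdG) : M24) • pt i = pt i from hi')) k)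
    rw [pG_gG hb] at hfx
    have hbit := (Orb.fix_iff ob _).2 hfx
    rcases (bits ⟨idx (pG g (pt i)), idx_lt _⟩).1 hbit with h | h | h | h <;>
      have e := congrArg pt h <;> rw [pt_idx] at e
    · exfalso
      have := (pG g).injective (e.trans (stdG_mem_pts g).2.symm)
      rcases hi with rfl | rfl <;> revert this <;> decide
    · exact Or.inl e
    · exact Or.inr e
    · exfalso
      have := (pG g).injective (e.trans (stdG_mem_pts g).1.symm)
      rcases hi with rfl | rfl <;> revert this <;> decide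
  have hA : {g ∈ S | pG g (pt 3) = pt 3}.ncard ≤ 10 := by
    refine le_trans ?_ (Orb.ncard_nF_le ob (by norm_num [oB]) hM vb)
    refine Set.ncard_le_ncard_of_injOn pG (fun g hg => ?_) pG_injective.injOn (Set.toFinite _)
    obtain ⟨hgS, hg3⟩ := hg
    refine mem_nF (O := oB) (x := gG m22B) (pG_gG hb) orders.2 (by norm_num [oB]) (fun q hq => ?_) hgS
    rcases (bits ⟨idx q, idx_lt q⟩).1 hq with h | h | h | h <;>
      have e := congrArg pt h <;> rw [pt_idx] at e <;> rw [e]
    · exact (stdG_mem_pts g).2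
    · exact hg3
    · rcases hfix g hgS 11 (Or.inr rfl) with h' | h'
      · exact absurd ((pG g).injective (h'.trans hg3.symm)) (by decide)
      · exact h'
    · exact (stdG_mem_pts g).1
  have hB : {g ∈ S | pG g (pt 3) = pt 11}.ncard ≤ {g ∈ S | pG g (pt 3) = pt 3}.ncard := by
    rcases Set.eq_empty_or_nonempty {g ∈ S | pG g (pt 3) = pt 11} with h | ⟨g0, hg0, h0⟩
    · rw [h, Set.ncard_empty]; exact Nat.zero_le _
    · refine Set.ncard_le_ncard_of_injOn (fun g => g0⁻¹ * g) (fun g hg => ⟨?_, ?_⟩)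
        (mul_right_injective g0⁻¹).injOn (Set.toFinite _)
      · show g0⁻¹ * g * gG m22B * (g0⁻¹ * g)⁻¹ ∈ Subgroup.zpowers (gG m22B)
        obtain ⟨k, hk⟩ := Subgroup.mem_zpowers_iff.1 hg.1
        have hb1 : gG m22B ≠ 1 := fun e => by have := orders.2; rw [e, orderOf_one] at this; omega
        have he : gG m22B ∈ Subgroup.zpowers (g0 * gG m22B * g0⁻¹) := by
          rw [zpowers_eq_of_mem (p := 5) (by norm_num) orders.2 hg0 (fun e => hb1 (by simpa using e))]
          exact Subgroup.mem_zpowers _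
        obtain ⟨m, hm⟩ := Subgroup.mem_zpowers_iff.1 he
        rw [conj_zpow] at hm
        have : g0⁻¹ * g * gG m22B * (g0⁻¹ * g)⁻¹ = g0⁻¹ * (g * gG m22B * g⁻¹) * g0 := by group
        rw [this, ← hk]
        refine Subgroup.mem_zpowers_iff.2 ⟨m * k, ?_⟩
        calc gG m22B ^ (m * k) = g0⁻¹ * (g0 * (gG m22B ^ m) ^ k * g0⁻¹) * g0 := by rw [zpow_mul]; group
          _ = _ := by rw [← conj_zpow, hm]
      · show (pG g0)⁻¹ (pG g (pt 3)) = pt 3
        rw [hg.2, Equiv.Perm.inv_eq_iff_eq]; exact h0.symm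
  have hsub : S ⊆ {g ∈ S | pG g (pt 3) = pt 3} ∪ {g ∈ S | pG g (pt 3) = pt 11} := fun g hg =>
    (hfix g hg 3 (Or.inl rfl)).imp (⟨hg, ·⟩) (⟨hg, ·⟩)
  have := (Set.ncard_le_ncard hsub (Set.toFinite _)).trans (Set.ncard_union_le _ _)
  omega

/-- A subgroup of the two-point stabiliser containing the three elements is the whole. -/
theorem eq_top_of_three {H : Subgroup stdG} (ha : gG m22A ∈ H) (hb : gG m22B ∈ H) (hw : gG m22W ∈ H) : H = ⊤ := by
  obtain ⟨⟨hA, hB, hW⟩, -, -, -, -, -, -, -, hwords⟩ := m22_local_facts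
  rw [List.all_eq_true] at hwords
  have hword : ∀ l : List ℕ, (∀ j ∈ l, j < 3) → ∃ h ∈ H, Code (evalWord l) (pG h) := by
    intro l
    induction l with
    | nil => exact fun _ => ⟨1, H.one_mem, code_idC⟩
    | cons j l ih =>
      intro hl
      obtain ⟨h, hh, hc⟩ := ih fun i hi => hl i (List.mem_cons_of_mem _ hi)
      have := hl j List.mem_cons_self
      interval_cases j
      · exact ⟨gG m22A * h, H.mul_mem ha hh, (code_gG hA).cmp hc⟩
      · exact ⟨gG m22B * h, H.mul_mem hb hh, (code_gG hB).cmp hc⟩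
      · exact ⟨gG m22W * h, H.mul_mem hw hh, (code_gG hW).cmp hc⟩
  let P : Subgroup (Equiv.Perm GolayPt) := H.map (M24.subtype.comp stdG.subtype)
  have hle : Subgroup.closure {σ | σ ∈ Cert.m22Gens.map permOf} ≤ P := by
    rw [Subgroup.closure_le]
    intro σ hσ
    obtain ⟨e, he, rfl⟩ := List.mem_map.1 hσ
    obtain ⟨i, hi, rfl⟩ := List.getElem_of_mem he
    have := hwords i (List.mem_range.2 hi)
    simp only [Bool.and_eq_true, List.all_eq_true, Nat.blt_eq, List.getD_eq_getElem _ _ hi] at this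
    obtain ⟨h, hh, hc⟩ := hword _ this.1.2
    exact ⟨h, hh, (sameF_iff (code_permOf (eltOK_of_inG this.1.1).2) hc).1 this.2 |>.symm⟩
  rw [closure_eq_stabIn m22_ok, stabIn_m22] at hle
  refine eq_top_iff.2 fun g _ => ?_
  obtain ⟨h, hh, e⟩ := hle (show pG g ∈ stabSets [{(none : GolayPt)}, {some 0}] from ⟨(g : M24).2, by
    have := stdG_mem_pts g
    rw [show pt 23 = none by decide, show pt 0 = some 0 by decide] at this
    simp [this.1, this.2]⟩)
  rwa [← pG_injective (e : pG h = pG g)]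

theorem exists_conj_of_orderOf {p : ℕ} [Fact p.Prime] {x : stdG} (hx : orderOf x = p) (hsq : ¬ p ^ 2 ∣ 443520)
    {H : Subgroup stdG} (hH : p ∣ Nat.card H) :
    ∃ g : stdG, x ∈ H.map (MulAut.conj g).toMonoidHom := by
  obtain ⟨h, hh⟩ := exists_prime_orderOf_dvd_card' (G := H) p hH
  have hh' : orderOf (h : stdG) = p := by rw [Subgroup.orderOf_coe, hh]
  have syl : ∀ y : stdG, orderOf y = p → ∃ S : Sylow p stdG, (S : Subgroup stdG) = Subgroup.zpowers y := by
    intro y hy
    obtain ⟨S, hS⟩ := (IsPGroup.of_card (n := 1) (by rw [Nat.card_zpowers, hy, pow_one]) :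
      IsPGroup p (Subgroup.zpowers y)).exists_le_sylow
    refine ⟨S, (Subgroup.eq_of_le_of_card_ge hS ?_).symm⟩
    obtain ⟨k, hk⟩ := IsPGroup.iff_card.1 S.2
    rw [hk, Nat.card_zpowers, hy]
    have hk1 : k ≤ 1 := by
      by_contra hc
      exact hsq ((pow_dvd_pow p (show 2 ≤ k by omega)).trans
        (card_stdG ▸ hk ▸ Subgroup.card_subgroup_dvd_card (S : Subgroup stdG)))
    calc p ^ k ≤ p ^ 1 := Nat.pow_le_pow_right (Fact.out : p.Prime).pos hk1
      _ = p := pow_one p
  obtain ⟨S, hS⟩ := syl _ hh'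
  obtain ⟨T, hT⟩ := syl _ hx
  obtain ⟨g, hg⟩ := MulAction.exists_smul_eq stdG S T
  refine ⟨g, ?_⟩
  have hxT : x ∈ (T : Subgroup stdG) := hT ▸ Subgroup.mem_zpowers x
  rw [← hg, Sylow.coe_subgroup_smul, Subgroup.mem_pointwise_smul_iff_inv_smul_mem, hS] at hxT
  rw [Subgroup.mem_map_equiv]
  exact (Subgroup.zpowers_le.2 h.2) (by simpa using hxT)

theorem no_small_index (H : Subgroup stdG) : H.index ≠ 56 ∧ H.index ≠ 210 := by
  suffices key : ∀ H : Subgroup stdG, gG m22A ∈ H → Nat.card H ≠ 7920 ∧ Nat.card H ≠ 2112 by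
    haveI : Fact (Nat.Prime 11) := ⟨by norm_num⟩
    have hc := H.card_mul_index
    rw [card_stdG] at hc
    have main : ∀ i c, H.index = i → c * i = 443520 → 0 < i → 11 ∣ c → c = 7920 ∨ c = 2112 → False := by
      intro i c hi hci hi0 hdvd hcc
      rw [hi, ← hci] at hc
      have hc' := Nat.eq_of_mul_eq_mul_right hi0 hc
      obtain ⟨g, hg⟩ := exists_conj_of_orderOf orders.1 (by norm_num) (H := H) (hc' ▸ hdvd)
      have := key _ hg
      rw [Subgroup.card_map_of_injective (MulEquiv.injective _), hc'] at this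
      omega
    exact ⟨fun h => main 56 7920 h (by norm_num) (by norm_num) (by norm_num) (Or.inl rfl),
      fun h => main 210 2112 h (by norm_num) (by norm_num) (by norm_num) (Or.inr rfl)⟩
  intro H ha
  haveI : Fact (Nat.Prime 11) := ⟨by norm_num⟩
  obtain ⟨⟨hA, hB, hW⟩, -, -, -, -, -, hBA, hWB, -⟩ := m22_local_facts
  simp only [List.any_eq_true, List.mem_range] at hBA hWB
  obtain ⟨k, -, hk⟩ := hBA
  have hba : gG m22B * gG m22A * (gG m22B)⁻¹ ∈ Subgroup.zpowers (gG m22A) :=
    Subgroup.mem_zpowers_iff.2 ⟨k, by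
      rw [zpow_natCast]
      exact pG_injective ((sameF_iff (((code_gG hB).cmp (code_gG hA)).cmp (code_gG_inv hB))
        (code_foldr (code_gG hA) k)).1 hk).symm⟩
  obtain ⟨l, -, hl⟩ := hWB
  have hwb : gG m22W * gG m22B * (gG m22W)⁻¹ ∈ Subgroup.zpowers (gG m22B) :=
    Subgroup.mem_zpowers_iff.2 ⟨l, by
      rw [zpow_natCast]
      exact pG_injective ((sameF_iff (((code_gG hW).cmp (code_gG hB)).cmp (code_gG_inv hW))
        (code_foldr (code_gG hB) l)).1 hl).symm⟩
  refine ⟨fun hc => ?_, fun hc => ?_⟩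
  · obtain ⟨d, n, hd, h11, hdn, hn, hfull⟩ := normalizer_count ha orders.1 (by rw [hc]; norm_num) norm_A_le
    rw [hc] at hdn
    have hd55 : d = 55 := by
      obtain ⟨m, rfl⟩ := h11
      have : m ≤ 5 := by omega
      interval_cases m <;> omega
    have hb := hfull hd55 _ hba
    haveI : Fact (Nat.Prime 5) := ⟨by norm_num⟩
    obtain ⟨d', n', hd', h5, hdn', hn', hfull'⟩ := normalizer_count hb orders.2 (by rw [hc]; norm_num) norm_B_le
    rw [hc] at hdn'
    have hd20 : d' = 20 := by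
      obtain ⟨m, rfl⟩ := h5
      have : m ≤ 4 := by omega
      interval_cases m <;> omega
    have := eq_top_of_three ha hb (hfull' hd20 _ hwb)
    rw [this, Subgroup.card_top, card_stdG] at hc
    omega
  · obtain ⟨d, n, hd, h11, hdn, hn, -⟩ := normalizer_count ha orders.1 (by rw [hc]; norm_num) norm_A_le
    rw [hc] at hdn
    obtain ⟨m, rfl⟩ := h11
    have : m ≤ 5 := by omega
    interval_cases m <;> omega

end Cfsg.Agent.Golay.Local
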