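import Cfsg.Agent.Lib.Golay.Local.M23Sylow

/-! Subgroups of index 253 in a one-point stabiliser. -/

namespace Cfsg.Agent.Golay.Local

open Cfsg Cfsg.Agent.PermCert
open scoped Pointwise

/-- The mask of a union of blocks containing the largest one. -/
def unionMask (u d f : Bool) : ℕ :=
  (if u then mkM (syl23Block 0) else 0) ||| (if d then mkM (syl23Block 1) else 0) |||
    (if f then mkM (syl23Block 2) else 0) ||| mkM (syl23Block 3)
where mkM (l : List ℕ) : ℕ := l.foldr (fun i r => 2 ^ i ||| r) 0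

/-- The octad through the small blocks. -/
def oct253 : Finset GolayPt := maskSet syl23Oct

/-- The duad of the second block. -/
def duad253 : Finset GolayPt := {ptN ((syl23Block 1).getD 0 0), ptN ((syl23Block 1).getD 1 0)}

theorem union_facts :
    (∀ u d f : Bool, ∀ b : Fin 4, ∀ y ∈ syl23Block b,
      (unionMask u d f).testBit y = ([u, d, f, true].getD b false)) ∧
    (∀ u d f : Bool, (unionMask u d f).testBit 23 = false) ∧
    (maskSet (unionMask false false false))ᶜ = oct253 ∧
    (maskSet (unionMask true false true) ∪ {pt 23})ᶜ = duad253 ∧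
    oct253 ∈ (octadList.map maskSet) ∧ pt 23 ∈ oct253 ∧ pt 23 ∉ duad253 ∧ duad253.card = 2 ∧
    (∀ u d f : Bool, (maskSet (unionMask u d f)).card ∣ 40320 → (u = false ∧ d = false ∧ f = false) ∨
      (u = true ∧ d = false ∧ f = true) ∨
      ((maskSet (unionMask u d f) ∪ {pt 23})ᶜ.card = 5) ∨ ((maskSet (unionMask u d f) ∪ {pt 23})ᶜ.card = 3)) ∧
    (octadList.filter fun m => m.testBit 23).length = 253 := by
  refine ⟨by decide +kernel, by decide +kernel, by decide +kernel, by decide +kernel, by decide +kernel,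
    by decide +kernel, by decide +kernel, by decide +kernel, by decide +kernel, by decide +kernel⟩

attribute [local irreducible] unionMask syl23Orbs maskSet oct253 duad253

theorem card_inf_stdP_octad : Nat.card ↥(stdP ⊓ MulAction.stabilizer M24 oct253) = 40320 := by
  refine card_inf_stabilizer (N := 253) ?_ (by rw [card_stdP]) (by norm_num)
  have hoct : oct253 ∈ octads := by
    obtain ⟨m, hm, e⟩ := List.mem_map.1 union_facts.2.2.2.2.1
    exact mem_octads.2 ⟨m, hm, e⟩
  have h0 : pt 0 ∈ refOct := by decide +kernel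
  have : MulAction.orbit stdP oct253 = {s : Finset GolayPt | s ∈ octads ∧ pt 23 ∈ s} := by
    ext s
    constructor
    · rintro ⟨a, rfl⟩
      refine ⟨(smul_mem_octads_iff (a : M24).2).2 hoct, ?_⟩
      have ha : (a : M24) • pt 23 = pt 23 := a.2
      rw [← ha]
      exact Finset.smul_mem_smul_finset union_facts.2.2.2.2.2.1
    · rintro ⟨hs, hs'⟩
      obtain ⟨g, hg, hgo, hgx⟩ := octad_move hoct (k := 1) (x := fun _ => pt 23) (y := fun _ => pt 0)
        (by norm_num) (Function.injective_of_subsingleton _) (fun _ => union_facts.2.2.2.2.2.1)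
        (Function.injective_of_subsingleton _) (fun _ => h0)
      obtain ⟨k, hk, hko, hkx⟩ := octad_move hs (k := 1) (x := fun _ => pt 23) (y := fun _ => pt 0)
        (by norm_num) (Function.injective_of_subsingleton _) (fun _ => hs')
        (Function.injective_of_subsingleton _) (fun _ => h0)
      refine ⟨⟨⟨k⁻¹ * g, mul_mem (inv_mem hk) hg⟩, ?_⟩, ?_⟩
      · show (k⁻¹ * g) (pt 23) = pt 23
        rw [Equiv.Perm.mul_apply, hgx 0, Equiv.Perm.inv_eq_iff_eq]
        exact (hkx 0).symm
      · show (k⁻¹ * g) • oct253 = s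
        rw [mul_smul, hgo, inv_smul_eq_iff, hko]
  rw [this, ncard_octads_filter (fun s => pt 23 ∈ s) (fun m => m.testBit 23) fun m => by
    rw [mem_maskSet, idx_pt]; rfl]
  exact union_facts.2.2.2.2.2.2.2.2.2

theorem card_inf_stdP_duad : Nat.card ↥(stdP ⊓ MulAction.stabilizer M24 duad253) = 40320 := by
  refine card_inf_stabilizer (N := 253) ?_ (by rw [card_stdP]) (by norm_num)
  obtain ⟨-, -, -, -, -, -, h23, h2, -⟩ := union_facts
  obtain ⟨a, b, hab, hD⟩ := Finset.card_eq_two.1 h2
  have : MulAction.orbit stdP duad253 = ((({pt 23} : Finset GolayPt)ᶜ).powersetCard 2 : Finset (Finset GolayPt)) := by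
    ext s
    rw [Finset.mem_coe, Finset.mem_powersetCard]
    constructor
    · rintro ⟨g, rfl⟩
      show g • duad253 ⊆ _ ∧ _
      rw [Finset.card_smul_finset, h2]
      refine ⟨fun t ht => ?_, rfl⟩
      rw [Finset.mem_compl, Finset.mem_singleton]
      rintro rfl
      have hg : (g : M24) • pt 23 = pt 23 := g.2
      have : (g : M24) • pt 23 ∈ (g : M24) • duad253 := hg.symm ▸ ht
      exact h23 ((Finset.smul_mem_smul_finset_iff _).1 this)
    · rintro ⟨hs, hs2⟩
      obtain ⟨u, v, huv, rfl⟩ := Finset.card_eq_two.1 hs2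
      have hu : u ≠ pt 23 := fun e => Finset.mem_compl.1 (hs (Finset.mem_insert_self u {v})) (Finset.mem_singleton.2 e)
      have hv : v ≠ pt 23 := fun e =>
        Finset.mem_compl.1 (hs (Finset.mem_insert_of_mem (Finset.mem_singleton_self v))) (Finset.mem_singleton.2 e)
      have ha : a ≠ pt 23 := fun e => h23 (by rw [hD, ← e]; exact Finset.mem_insert_self a {b})
      have hb : b ≠ pt 23 := fun e => h23 (by rw [hD, ← e]; simp)
      obtain ⟨g, hg, h⟩ := exists_M24_map' (k := 3) (by norm_num) (x := ![pt 23, a, b]) (y := ![pt 23, u, v])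
        (by intro i j; fin_cases i <;> fin_cases j <;> simp [ha, ha.symm, hb, hb.symm, hab, hab.symm])
        (by intro i j; fin_cases i <;> fin_cases j <;> simp [hu, hu.symm, hv, hv.symm, huv, huv.symm])
      refine ⟨⟨⟨g, hg⟩, h 0⟩, ?_⟩
      show g • duad253 = _
      rw [hD, Finset.smul_finset_insert, Finset.smul_finset_singleton]
      show {g a, g b} = ({u, v} : Finset GolayPt)
      rw [show g a = u from h 1, show g b = v from h 2]
  rw [this, Set.ncard_coe_finset, Finset.card_powersetCard, Finset.card_compl, Finset.card_singleton]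
  rfl

theorem card_four_stab {p q r t : GolayPt} (hpq : p ≠ q) (hpr : p ≠ r) (hqr : q ≠ r) (hpt : p ≠ t) (hqt : q ≠ t)
    (hrt : r ≠ t) : Nat.card ↥(MulAction.stabilizer M24 p ⊓ MulAction.stabilizer M24 q ⊓
      MulAction.stabilizer M24 r ⊓ MulAction.stabilizer M24 t) = 960 := by
  have hA : Nat.card ↥(MulAction.stabilizer M24 p ⊓ MulAction.stabilizer M24 q ⊓ MulAction.stabilizer M24 r) = 20160 := by
    obtain ⟨e⟩ := nonempty_stab3 hpq hpr hqr
    rw [Nat.card_congr e.toEquiv, ← stabIn_m21, card_stabIn_m21]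
  refine card_inf_stabilizer (N := 21) ?_ (by rw [hA]) (by norm_num)
  have : MulAction.orbit ↥(MulAction.stabilizer M24 p ⊓ MulAction.stabilizer M24 q ⊓ MulAction.stabilizer M24 r) t =
      (({p, q, r} : Finset GolayPt)ᶜ : Finset GolayPt) := by
    ext u
    rw [Finset.mem_coe, Finset.mem_compl]
    simp only [Finset.mem_insert, Finset.mem_singleton, not_or]
    constructor
    · rintro ⟨g, rfl⟩
      have key : ∀ v, (g : M24) • v = v → v ≠ t → ¬ g • t = v := fun v hv hvt e =>
        hvt (MulAction.injective (g : M24) (hv.trans e.symm))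
      exact ⟨key p g.2.1.1 hpt, key q g.2.1.2 hqt, key r g.2.2 hrt⟩
    · rintro ⟨hup, huq, hur⟩
      obtain ⟨g, hg, h⟩ := exists_M24_map' (k := 4) (by norm_num) (x := ![p, q, r, t]) (y := ![p, q, r, u])
        (by intro i j; fin_cases i <;> fin_cases j <;>
          simp [hpq, hpq.symm, hpr, hpr.symm, hqr, hqr.symm, hpt, hpt.symm, hqt, hqt.symm, hrt, hrt.symm])
        (by intro i j; fin_cases i <;> fin_cases j <;>
          simp [hpq, hpq.symm, hpr, hpr.symm, hqr, hqr.symm, hup, Ne.symm hup, huq, Ne.symm huq, hur, Ne.symm hur])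
      exact ⟨⟨⟨g, hg⟩, ⟨h 0, h 1⟩, h 2⟩, h 3⟩
  rw [this, Set.ncard_coe_finset, Finset.card_compl,
    show ({p, q, r} : Finset GolayPt).card = 3 by simp [hpq, hpr, hqr]]
  rfl

/-- An element of order seven fixes a small invariant set pointwise. -/
theorem fix_of_small {c : M24} (hc : orderOf c = 7) {C : Finset GolayPt} (hC : c • C = C) (h7 : C.card < 7)
    {y : GolayPt} (hy : y ∈ C) : c • y = y := by
  have hsub : MulAction.orbit (Subgroup.zpowers c) y ⊆ (C : Set GolayPt) := by
    rintro _ ⟨⟨g, hg⟩, rfl⟩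
    have : g • C = C := by
      have hle : Subgroup.zpowers c ≤ MulAction.stabilizer M24 C := Subgroup.zpowers_le.2 hC
      exact hle hg
    show g • y ∈ C
    rw [← this]
    exact Finset.smul_mem_smul_finset hy
  have hd : (MulAction.orbit (Subgroup.zpowers c) y).ncard ∣ 7 := by
    rw [← MulAction.index_stabilizer, ← hc, ← Nat.card_zpowers]
    exact Subgroup.index_dvd_card _
  have hle := Set.ncard_le_ncard hsub (Finset.finite_toSet C)
  rw [Set.ncard_coe_finset] at hle
  rcases (by norm_num : Nat.Prime 7).eq_one_or_self_of_dvd _ hd with h | h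
  · obtain ⟨z, hz⟩ := Set.ncard_eq_one.1 h
    have h1 : y ∈ ({z} : Set GolayPt) := hz ▸ MulAction.mem_orbit_self y
    have h2 : c • y ∈ ({z} : Set GolayPt) := hz ▸ ⟨⟨c, Subgroup.mem_zpowers c⟩, rfl⟩
    rw [Set.mem_singleton_iff] at h1 h2
    rw [h2, h1]
  · omega

/-- The block containing a point other than the last one. -/
theorem exists_block {y : GolayPt} (hy : y ≠ pt 23) : ∃ b : Fin 4, idx y ∈ syl23Block b :=
  (syl23_blocks.1 ⟨idx y, idx_lt y⟩).resolve_left fun e => hy (by
    have := congrArg pt e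
    rwa [pt_idx] at this)

theorem index253_std {H : Subgroup stdP} (hH : Nat.card H = 40320)
    {S : Subgroup stdP} (hSH : S ≤ H)
    (hS : ∀ b : Fin 4, ∀ y ∈ syl23Block b, ∃ s ∈ S, (s : M24) • ptN ((syl23Block b).getD 0 0) = ptN y) :
    H = (MulAction.stabilizer M24 duad253).subgroupOf stdP ∨
      H = (MulAction.stabilizer M24 oct253).subgroupOf stdP := by
  classical
  obtain ⟨hbit, hbit23, hO, hD, -, -, -, -, hcases, -⟩ := union_facts
  set e := ptN ((syl23Block 3).getD 0 0)
  set E : Finset GolayPt := Finset.univ.filter (fun y => y ∈ MulAction.orbit H e) with hE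
  have hinv : ∀ h : H, ((h : stdP) : M24) • E = E := by
    intro h
    refine Finset.eq_of_subset_of_card_le (fun y hy => ?_) (by rw [Finset.card_smul_finset])
    obtain ⟨z, hz, rfl⟩ := Finset.mem_smul_finset.1 hy
    rw [hE, Finset.mem_filter] at hz ⊢
    exact ⟨Finset.mem_univ _, MulAction.mem_orbit_of_mem_orbit h hz.2⟩
  have sameBlock : ∀ (b : Fin 4) (y : ℕ), y ∈ syl23Block b →
      (ptN y ∈ E ↔ ptN ((syl23Block b).getD 0 0) ∈ E) := by
    intro b y hy
    obtain ⟨s, hs, hsy⟩ := hS b y hy
    rw [← hsy]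
    conv_lhs => rw [← hinv ⟨s, hSH hs⟩]
    exact Finset.smul_mem_smul_finset_iff _
  set u := decide (ptN ((syl23Block 0).getD 0 0) ∈ E)
  set d := decide (ptN ((syl23Block 1).getD 0 0) ∈ E)
  set f := decide (ptN ((syl23Block 2).getD 0 0) ∈ E)
  have he : e ∈ E := Finset.mem_filter.2 ⟨Finset.mem_univ _, MulAction.mem_orbit_self e⟩
  have h23 : pt 23 ∉ E := by
    intro h
    obtain ⟨h', hh⟩ := (Finset.mem_filter.1 h).2
    have hfix : ((h' : stdP) : M24) • pt 23 = pt 23 := (h' : stdP).2
    have : e = pt 23 := MulAction.injective ((h' : stdP) : M24) (hh.trans hfix.symm)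
    exact absurd this (by decide +kernel)
  have hEq : E = maskSet (unionMask u d f) := by
    ext y
    rw [mem_maskSet]
    by_cases hy : y = pt 23
    · subst hy; rw [idx_pt]; simp [h23, hbit23]
    · obtain ⟨b, hb⟩ := exists_block hy
      rw [hbit u d f b _ hb]
      conv_lhs => rw [← ptN_idx y]
      rw [sameBlock b _ hb]
      fin_cases b
      · simp [u]
      · simp [d]
      · simp [f]
      · exact iff_of_true he rfl
  have hdvd : (maskSet (unionMask u d f)).card ∣ 40320 := by
    rw [← hEq, ← hH]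
    have : E.card = (MulAction.orbit H e).ncard := by
      rw [← Set.ncard_coe_finset]; congr 1; ext y; simp [hE]
    rw [this, ← MulAction.index_stabilizer]
    exact Subgroup.index_dvd_card _
  have inv_of : ∀ C : Finset GolayPt, (∀ h : H, ((h : stdP) : M24) • C = C) →
      Nat.card ↥(stdP ⊓ MulAction.stabilizer M24 C) = 40320 → H = (MulAction.stabilizer M24 C).subgroupOf stdP := by
    intro C hC hcard
    refine Subgroup.eq_of_le_of_card_ge (fun h hh => hC ⟨h, hh⟩) ?_
    rw [hH, ← hcard]
    exact (Nat.card_congr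
      { toFun := fun g => (⟨g.1.1, g.1.2, g.2⟩ : ↥(stdP ⊓ MulAction.stabilizer M24 C))
        invFun := fun g => ⟨⟨g.1, g.2.1⟩, g.2.2⟩
        left_inv := fun _ => rfl
        right_inv := fun _ => rfl }).le
  have hinvC : ∀ h : H, ((h : stdP) : M24) • (E ∪ {pt 23})ᶜ = (E ∪ {pt 23})ᶜ := by
    intro h
    have hf : ((h : stdP) : M24) • pt 23 = pt 23 := (h : stdP).2
    rw [Finset.compl_eq_univ_sdiff, Finset.smul_finset_sdiff, Finset.smul_finset_union, hinv h,
      Finset.smul_finset_singleton, hf, Finset.smul_finset_univ]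
  have hinvC0 : ∀ h : H, ((h : stdP) : M24) • Eᶜ = Eᶜ := by
    intro h
    rw [Finset.compl_eq_univ_sdiff, Finset.smul_finset_sdiff, hinv h, Finset.smul_finset_univ]
  have fourFix : ∀ n, ((E ∪ {pt 23})ᶜ).card = n → 3 ≤ n → n < 7 → False := by
    intro n hn h3 h7
    obtain ⟨a, b, c', ha, hb, hc', hab, hac, hbc⟩ := Finset.two_lt_card_iff.1 (by omega : 2 < ((E ∪ {pt 23})ᶜ).card)
    haveI : Fact (Nat.Prime 7) := ⟨by norm_num⟩
    obtain ⟨h, hh⟩ := exists_prime_orderOf_dvd_card' (G := H) 7 (by rw [hH]; norm_num)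
    set c : M24 := ((h : stdP) : M24)
    have hc7 : orderOf c = 7 := by rw [Subgroup.orderOf_coe, Subgroup.orderOf_coe, hh]
    have fx := fun y hy => fix_of_small hc7 (hinvC h) (hn.symm ▸ h7) (y := y) hy
    have h23c : c • pt 23 = pt 23 := (h : stdP).2
    have ne23 : ∀ y ∈ (E ∪ {pt 23})ᶜ, pt 23 ≠ y := fun y hy e => by
      rw [Finset.mem_compl, Finset.mem_union, Finset.mem_singleton] at hy
      exact hy (Or.inr e.symm)
    have hd := Subgroup.orderOf_dvd_natCard
      (MulAction.stabilizer M24 (pt 23) ⊓ MulAction.stabilizer M24 a ⊓ MulAction.stabilizer M24 b ⊓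
        MulAction.stabilizer M24 c') (x := c) ⟨⟨⟨h23c, fx a ha⟩, fx b hb⟩, fx c' hc'⟩
    rw [hc7, card_four_stab (ne23 a ha) (ne23 b hb) hab (ne23 c' hc') hac hbc] at hd
    norm_num at hd
  rcases hcases u d f hdvd with ⟨hu, hd', hf'⟩ | ⟨hu, hd', hf'⟩ | h | h
  · right
    refine inv_of oct253 (fun h => ?_) card_inf_stdP_octad
    rw [← hO]
    have hE' : E = maskSet (unionMask false false false) := by rw [hEq, hu, hd', hf']
    rw [← hE']; exact hinvC0 h
  · left
    refine inv_of duad253 (fun h => ?_) card_inf_stdP_duad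
    rw [← hD]
    have hE' : E = maskSet (unionMask true false true) := by rw [hEq, hu, hd', hf']
    rw [← hE']; exact hinvC h
  · exact (fourFix 5 (hEq ▸ h) (by norm_num) (by norm_num)).elim
  · exact (fourFix 3 (hEq ▸ h) (by norm_num) (by norm_num)).elim

theorem index253 (H : Subgroup stdP) (hH : H.index = 253) :
    (∃ s : Finset GolayPt, s.card = 2 ∧ pt 23 ∉ s ∧ H = (MulAction.stabilizer M24 s).subgroupOf stdP) ∨
      ∃ o ∈ octads, pt 23 ∈ o ∧ H = (MulAction.stabilizer M24 o).subgroupOf stdP := by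
  haveI : Fact (Nat.Prime 2) := ⟨Nat.prime_two⟩
  have hc := H.card_mul_index
  rw [hH, card_stdP] at hc
  have hcard : Nat.card H = 40320 := by omega
  obtain ⟨S, hS, hblocks⟩ := exists_syl23
  obtain ⟨P⟩ : Nonempty (Sylow 2 H) := inferInstance
  obtain ⟨T, hT⟩ := (P.2.map H.subtype).exists_le_sylow
  obtain ⟨U, hU⟩ := (IsPGroup.of_card (n := 7) hS : IsPGroup 2 S).exists_le_sylow
  have hf : ((40320 : ℕ)).factorization 2 = 7 := by
    rw [← Nat.multiplicity_eq_factorization Nat.prime_two (by norm_num)]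
    refine multiplicity_eq_of_dvd_of_not_dvd ?_ ?_ <;> norm_num
  have hf' : ((10200960 : ℕ)).factorization 2 = 7 := by
    rw [← Nat.multiplicity_eq_factorization Nat.prime_two (by norm_num)]
    refine multiplicity_eq_of_dvd_of_not_dvd ?_ ?_ <;> norm_num
  have hTH : (T : Subgroup stdP) ≤ H := by
    have : (T : Subgroup stdP) = (P : Subgroup H).map H.subtype := by
      refine (Subgroup.eq_of_le_of_card_ge hT ?_).symm
      rw [Subgroup.card_map_of_injective H.subtype_injective, P.card_eq_multiplicity, T.card_eq_multiplicity,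
        hcard, card_stdP, hf, hf']
    rw [this]
    exact Subgroup.map_subtype_le _
  obtain ⟨g, hg⟩ := MulAction.exists_smul_eq stdP T U
  have hSH : S ≤ H.map (MulAut.conj g).toMonoidHom := by
    refine hU.trans ?_
    rw [← hg, Sylow.coe_subgroup_smul]
    exact Subgroup.map_mono hTH
  have hcc : Nat.card (H.map (MulAut.conj g).toMonoidHom) = 40320 := by
    rw [Subgroup.card_map_of_injective (MulEquiv.injective _), hcard]
  have back : ∀ C : Finset GolayPt, H.map (MulAut.conj g).toMonoidHom = (MulAction.stabilizer M24 C).subgroupOf stdP →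
      H = (MulAction.stabilizer M24 ((g : M24)⁻¹ • C)).subgroupOf stdP := by
    intro C h
    ext a
    rw [Subgroup.mem_subgroupOf, ← mem_stab_conj (g : M24) (a : M24) (smul_inv_smul (g : M24) C)]
    have : g * a * g⁻¹ ∈ H.map (MulAut.conj g).toMonoidHom ↔ a ∈ H := by
      rw [Subgroup.mem_map_equiv]; simp [mul_assoc]
    rw [← this, h, Subgroup.mem_subgroupOf]
    rfl
  have hfix : ((g : M24))⁻¹ • pt 23 = pt 23 := by rw [inv_smul_eq_iff]; exact g.2.symm
  rcases index253_std hcc hSH hblocks with h | h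
  · refine Or.inl ⟨_, ?_, ?_, back _ h⟩
    · rw [Finset.card_smul_finset]; exact union_facts.2.2.2.2.2.2.2.1
    · rw [← hfix, Finset.smul_mem_smul_finset_iff]; exact union_facts.2.2.2.2.2.2.1
  · refine Or.inr ⟨_, ?_, ?_, back _ h⟩
    · obtain ⟨m, hm, e⟩ := List.mem_map.1 union_facts.2.2.2.2.1
      exact (smul_mem_octads_iff ((g : M24)⁻¹).2).2 (mem_octads.2 ⟨m, hm, e⟩)
    · rw [← hfix, Finset.smul_mem_smul_finset_iff]; exact union_facts.2.2.2.2.2.1

end Cfsg.Agent.Golay.Local
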