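import Cfsg.Agent.Lib.Golay.Local.M11Tables
import Cfsg.Agent.Lib.Golay.Local.M23SylowData
import Cfsg.Agent.Lib.Golay.OrbitChecks
import Mathlib.GroupTheory.Sylow

/-! A Sylow subgroup for the prime two of a one-point stabiliser and its four orbits. -/

namespace Cfsg.Agent.Golay.Local

open Cfsg Cfsg.Agent.PermCert
open scoped Pointwise

/-- A subgroup from a table closed under right multiplication by generators reachable from the first entry. -/
theorem mul_mem_of_table {G : Type*} [Group G] {N k : ℕ} (x : Fin N → G) (z : Fin N) (gi : Fin k → Fin N)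
    (next : Fin N → Fin k → Fin N) (par : Fin N → Fin N × Fin k) (hx1 : x z = 1)
    (hxs : ∀ n j, x (next n j) = x n * x (gi j))
    (hpar : ∀ n, n ≠ z → (par n).1 < n ∧ next (par n).1 (par n).2 = n) :
    ∀ m n : Fin N, ∃ l, x l = x n * x m := by
  intro m
  induction m using WellFoundedLT.induction with
  | _ m ih =>
    intro n
    by_cases hm : m = z
    · exact ⟨n, by rw [hm, hx1, mul_one]⟩
    · obtain ⟨hlt, he⟩ := hpar m hm
      obtain ⟨l, lx⟩ := ih (par m).1 hlt n
      exact ⟨next l (par m).2, by rw [hxs, lx, mul_assoc, ← hxs, he]⟩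

/-- Membership in the stabiliser of the last point. -/
def in23 (e : Elt) : Bool := eltOK e && Nat.beq (get 5 e.1 23) 23

/-- A block of the Sylow subgroup. -/
def syl23Block (i : ℕ) : List ℕ := syl23Orbs.getD i []

/-- The checks of the table and the blocks. -/
def syl23OK : Bool :=
  Nat.beq syl23Elts.length 128 && syl23Elts.all in23 &&
    distinctKeys (syl23Elts.map fun e => cmpF e.1 idC) && sameF (syl23Elts.getD 0 (0, 0)).1 idC &&
    (List.finRange 128).all (fun n => (List.range 3).all fun j =>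
      Nat.blt ((syl23Next.getD n []).getD j 0) 128 &&
      sameF (syl23Elts.getD ((syl23Next.getD n []).getD j 0) (0, 0)).1
        (cmpF (syl23Elts.getD n (0, 0)).1 (syl23Elts.getD (syl23Gen.getD j 0) (0, 0)).1)) &&
    (List.range 3).all (fun j => Nat.blt (syl23Gen.getD j 0) 128) &&
    (List.finRange 128).all (fun n => Nat.beq n 0 ||
      (Nat.blt (syl23Par.getD n (0, 0)).1 n && Nat.blt (syl23Par.getD n (0, 0)).2 3 &&
        Nat.beq ((syl23Next.getD (syl23Par.getD n (0, 0)).1 []).getD (syl23Par.getD n (0, 0)).2 0) n)) &&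
    (List.range 4).all (fun b => (syl23Block b).all fun y =>
      syl23Elts.any fun e => Nat.beq (get 5 e.1 ((syl23Block b).getD 0 0)) y)

theorem syl23_ok : syl23OK = true := by decide +kernel

theorem syl23_blocks : (∀ i : Fin 24, i = 23 ∨ ∃ b : Fin 4, (i : ℕ) ∈ syl23Block b) ∧
    (∀ b : Fin 4, ∀ y ∈ syl23Block b, y < 24) := by
  refine ⟨by decide +kernel, by decide +kernel⟩

attribute [local irreducible] cmpF syl23Elts syl23Gen syl23Next syl23Par syl23Orbs

/-- The stabiliser of the last point. -/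
def stdP : Subgroup M24 := MulAction.stabilizer M24 (pt 23)

theorem gOf_mem_stdP {e : Elt} (h : in23 e = true) : gOf e ∈ stdP := by
  simp only [in23, Bool.and_eq_true, Nat.beq_eq] at h
  exact gOf_apply h.1 (i := 23) (j := 23) h.2

theorem card_stdP : Nat.card stdP = 10200960 := by
  obtain ⟨e⟩ := nonempty_stab1 (pt 23)
  show Nat.card ↥(MulAction.stabilizer M24 (pt 23)) = _
  rw [Nat.card_congr e.toEquiv, ← sporM23_eq, card_sporM23]

/-- A 2-subgroup of order 128 transitive on each block. -/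
theorem exists_syl23 : ∃ S : Subgroup stdP, Nat.card S = 128 ∧
    ∀ b : Fin 4, ∀ y ∈ syl23Block b, ∃ s ∈ S, (s : M24) • ptN ((syl23Block b).getD 0 0) = ptN y := by
  have h := syl23_ok
  simp only [syl23OK, Bool.and_eq_true, Nat.beq_eq, List.all_eq_true, List.mem_finRange, forall_true_left,
    List.mem_range, Nat.blt_eq, Bool.or_eq_true, List.any_eq_true] at h
  obtain ⟨⟨⟨⟨⟨⟨⟨hlen, hall⟩, hdist⟩, h0⟩, hstep⟩, hgen⟩, hpar⟩, horb⟩ := h
  have hmem : ∀ n : Fin 128, syl23Elts.getD n (0, 0) ∈ syl23Elts := fun n => by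
    rw [List.getD_eq_getElem _ _ (by omega)]; exact List.getElem_mem _
  let x : Fin 128 → stdP := fun n => ⟨gOf (syl23Elts.getD n (0, 0)), gOf_mem_stdP (hall _ (hmem n))⟩
  have heOK : ∀ e ∈ syl23Elts, eltOK e = true := fun e he => by
    have := hall e he; simp only [in23, Bool.and_eq_true] at this; exact this.1
  have hc : ∀ n : Fin 128, Code (syl23Elts.getD n (0, 0)).1 ((x n : M24) : Equiv.Perm GolayPt) := fun n =>
    code_gOf (heOK _ (hmem n))
  have hx1 : x 0 = 1 := Subtype.ext (Subtype.ext ((sameF_iff (hc 0) code_idC).1 h0))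
  let gi : Fin 3 → Fin 128 := fun j => ⟨syl23Gen.getD j 0, hgen j j.2⟩
  let next : Fin 128 → Fin 3 → Fin 128 := fun n j => ⟨(syl23Next.getD n []).getD j 0, (hstep n j j.2).1⟩
  let par : Fin 128 → Fin 128 × Fin 3 := fun n => (fidx 128 (syl23Par.getD n (0, 0)).1, fidx 3 (syl23Par.getD n (0, 0)).2)
  have key := mul_mem_of_table x 0 gi next par hx1
    (fun n j => Subtype.ext (Subtype.ext ((sameF_iff (hc _) ((hc n).cmp (hc _))).1 (hstep n j j.2).2))) (by
      intro n hn
      rcases hpar n with h | ⟨⟨h1, h2⟩, h3⟩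
      · exact absurd (Fin.ext (by simpa using h)) hn
      · have e1 : ((fidx 128 (syl23Par.getD n (0, 0)).1 : Fin 128) : ℕ) = (syl23Par.getD n (0, 0)).1 :=
          Nat.mod_eq_of_lt (h1.trans n.2)
        have e2 : ((fidx 3 (syl23Par.getD n (0, 0)).2 : Fin 3) : ℕ) = (syl23Par.getD n (0, 0)).2 :=
          Nat.mod_eq_of_lt h2
        refine ⟨?_, Fin.ext ?_⟩
        · show ((fidx 128 (syl23Par.getD n (0, 0)).1 : Fin 128) : ℕ) < n
          rw [e1]; exact h1
        · show (syl23Next.getD ((fidx 128 (syl23Par.getD n (0, 0)).1 : Fin 128) : ℕ) []).getD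
            ((fidx 3 (syl23Par.getD n (0, 0)).2 : Fin 3) : ℕ) 0 = n
          rw [e1, e2]; exact h3)
  have hxi : Function.Injective x := by
    intro a b e
    have e' : ((x a : M24) : Equiv.Perm GolayPt) = ((x b : M24) : Equiv.Perm GolayPt) := by rw [e]
    have k := (e' ▸ hc a).cmpF_congr (hc b) code_idC
    have hn := distinctKeys_spec _ hdist
    have ha : (a : ℕ) < (syl23Elts.map fun e => cmpF e.1 idC).length := by simp only [List.length_map]; omega
    have hb : (b : ℕ) < (syl23Elts.map fun e => cmpF e.1 idC).length := by simp only [List.length_map]; omega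
    refine Fin.ext ((hn.getElem_inj_iff (hi := ha) (hj := hb)).mp ?_)
    rw [List.getElem_map, List.getElem_map]
    rw [List.getD_eq_getElem _ _ (by omega : (a : ℕ) < syl23Elts.length),
      List.getD_eq_getElem _ _ (by omega : (b : ℕ) < syl23Elts.length)] at k
    exact k
  let M : Submonoid stdP :=
    { carrier := Set.range x
      one_mem' := ⟨0, hx1⟩
      mul_mem' := by rintro _ _ ⟨n, rfl⟩ ⟨m, rfl⟩; obtain ⟨l, hl⟩ := key m n; exact ⟨l, hl⟩ }
  let S : Subgroup stdP :=
    { M with
      inv_mem' := by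
        intro a ha
        have : a⁻¹ = a ^ (orderOf a - 1) := by
          refine inv_eq_of_mul_eq_one_left ?_
          rw [← pow_succ, Nat.sub_add_cancel (orderOf_pos a), pow_orderOf_eq_one]
        rw [this]
        exact M.pow_mem ha _ }
  refine ⟨S, ?_, fun b y hy => ?_⟩
  · rw [← Nat.card_fin 128]
    exact (Nat.card_congr (Equiv.ofInjective x hxi)).symm
  · obtain ⟨e, he, hey⟩ := horb b b.2 y hy
    obtain ⟨n, hn, rfl⟩ := List.getElem_of_mem he
    refine ⟨x ⟨n, hlen ▸ hn⟩, ⟨_, rfl⟩, ?_⟩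
    have hlt : ∀ v ∈ syl23Block b, v < 24 := syl23_blocks.2 b
    have hr : (syl23Block b).getD 0 0 < 24 := by
      rw [List.getD_eq_getElem _ _ (List.length_pos_of_mem hy)]; exact hlt _ (List.getElem_mem _)
    show gOf (syl23Elts.getD n (0, 0)) • ptN _ = _
    rw [List.getD_eq_getElem _ _ hn]
    refine gOf_apply (heOK _ (List.getElem_mem hn)) ?_
    rw [Fin.val_ofNat, Fin.val_ofNat, Nat.mod_eq_of_lt hr, Nat.mod_eq_of_lt (hlt y hy)]
    exact hey

end Cfsg.Agent.Golay.Local
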