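import Cfsg.Agent.Lib.Golay.Local.StdObjects

/-! The disjointness graph of octads. -/

namespace Cfsg.Agent.Golay.Local

open Cfsg Cfsg.Agent.PermCert
open scoped Pointwise

/-- Distance data from the standard octad to one octad. -/
def octDistOK (m : ℕ) : Bool :=
  let p := pcF (Nat.land 8536111 m)
  (Nat.beq p 8 && Nat.beq m 8536111) || Nat.beq p 0 ||
    (Nat.beq p 4 && anyF (fun n => Nat.beq (Nat.land 8536111 n) 0 && Nat.beq (Nat.land n m) 0) octLit) ||
    (Nat.beq p 2 && allF (fun n => !(Nat.beq (Nat.land 8536111 n) 0 && Nat.beq (Nat.land n m) 0)) octLit &&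
      anyF (fun n => Nat.beq (Nat.land 8536111 n) 0 && Nat.beq (pcF (Nat.land n m)) 4) octLit)

theorem octDist_ok : allF octDistOK octLit = true := by decide +kernel

theorem land_eq_zero_iff {a b : ℕ} (ha : a < 2 ^ 24) :
    Nat.land a b = 0 ↔ Disjoint (maskSet a) (maskSet b) := by
  rw [Finset.disjoint_iff_inter_eq_empty, ← maskSet_and]
  refine ⟨fun h => by rw [show a &&& b = 0 from h]; simp [maskSet], fun h => ?_⟩
  exact maskSet_inj (lt_of_le_of_lt Nat.and_le_left ha) (by norm_num) (h.trans (by simp [maskSet]))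

theorem octad_pair {o o' : Finset GolayPt} (ho : o ∈ octads) (ho' : o' ∈ octads) :
    ((o ∩ o').card = 8 ∧ o = o') ∨ (o ∩ o').card = 0 ∨
      ((o ∩ o').card = 4 ∧ ∃ n ∈ octads, Disjoint o n ∧ Disjoint n o') ∨
      ((o ∩ o').card = 2 ∧ (∀ n ∈ octads, ¬ (Disjoint o n ∧ Disjoint n o')) ∧
        ∃ n ∈ octads, Disjoint o n ∧ (n ∩ o').card = 4) := by
  obtain ⟨g, hg⟩ := exists_smul_octad stdOct_mem ho
  obtain ⟨m, hm, hme⟩ := mem_octads'.1 (smul_mem_octads (g⁻¹).2 ho')
  have hg' : o' = (g : Equiv.Perm GolayPt) • maskSet m := by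
    rw [hme, Subgroup.coe_inv, smul_inv_smul]
  have hg0 : o = (g : Equiv.Perm GolayPt) • stdOct := hg.symm
  subst hg' hg0
  have hc : ((g : Equiv.Perm GolayPt) • stdOct ∩ (g : Equiv.Perm GolayPt) • maskSet m).card =
      pcF (Nat.land 8536111 m) := by
    rw [← Finset.smul_finset_inter, Finset.card_smul_finset, pcF_eq, ← card_maskSet,
      show Nat.land 8536111 m = 8536111 &&& m from rfl, maskSet_and]
  have hd : ∀ {a b : Finset GolayPt},
      Disjoint ((g : Equiv.Perm GolayPt) • a) ((g : Equiv.Perm GolayPt) • b) ↔ Disjoint a b := by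
    intro a b
    rw [Finset.disjoint_iff_inter_eq_empty, Finset.disjoint_iff_inter_eq_empty, ← Finset.smul_finset_inter,
      Finset.smul_finset_eq_empty]
  rw [hc]
  have h := allF_iff.1 octDist_ok m hm
  simp only [octDistOK, Bool.or_eq_true, Bool.and_eq_true, Nat.beq_eq, anyF_iff, allF_iff,
    Bool.not_eq_true', Bool.eq_false_iff, ne_eq] at h
  rcases h with ((⟨h8, he⟩ | h0) | ⟨h4, n, hn, hn1, hn2⟩) | ⟨⟨h2, hno⟩, n, hn, hn1, hn2⟩
  · exact Or.inl ⟨h8, by rw [he]⟩
  · exact Or.inr (Or.inl h0)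
  · refine Or.inr (Or.inr (Or.inl ⟨h4, _, smul_mem_octads g.2 (mem_octads'.2 ⟨n, hn, rfl⟩), ?_⟩))
    rw [hd, hd, ← land_eq_zero_iff (by norm_num), ← land_eq_zero_iff (octLit_lt hn)]
    exact ⟨hn1, hn2⟩
  · refine Or.inr (Or.inr (Or.inr ⟨h2, fun q hq hqd => ?_,
      _, smul_mem_octads g.2 (mem_octads'.2 ⟨n, hn, rfl⟩), ?_, ?_⟩))
    · obtain ⟨q', hq', hqe⟩ := mem_octads'.1 (smul_mem_octads (g⁻¹).2 hq)
      have : q = (g : Equiv.Perm GolayPt) • maskSet q' := by rw [hqe, Subgroup.coe_inv, smul_inv_smul]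
      rw [this, hd, hd, ← land_eq_zero_iff (by norm_num), ← land_eq_zero_iff (octLit_lt hq')] at hqd
      exact hno q' hq' hqd
    · rw [hd, ← land_eq_zero_iff (by norm_num)]; exact hn1
    · rw [← Finset.smul_finset_inter, Finset.card_smul_finset, ← maskSet_and, card_maskSet, ← pcF_eq]
      exact hn2

end Cfsg.Agent.Golay.Local
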