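import Cfsg.Agent.Lib.Compute.PermCert

/-! Certificate data: the trios on the standard octad. -/

namespace Cfsg.Agent.Golay.Local

open Cfsg.Agent.PermCert

/-- A point outside the standard octad. -/
def outPt : ℕ := 4

/-- The octads disjoint from the standard one through that point. -/
def outOcts : List ℕ := [628112, 832080, 1584464, 1903248, 2141072, 2460752, 3216208, 3421328, 4202192, 4536592, 5350928, 5538256, 6889680, 7079696, 7903248]

/-- Fixing the standard octad, moving the first trio to each. -/
def toTrio : List Elt :=
  [(984818244535754528103549039458486304, 984818244535754528103549039458486304),
   (217651141672563391171549274951409185, 98224559216683838492562966779708419),
   (65400126491479232324874885914498784, 58880615530838271379786655307304672),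
   (235466902076509314847199065907771394, 733030971868281296543610403570155681),
   (970199733136468592465227449960136817, 965021183512571740049791300358161570),
   (47605885557568858010626923047223479, 13851959995841870763577395326258914),
   (103333026437654972115787403428468279, 14903339828824274837766340666842577),
   (590108685775105422037054682589530129, 137084576492171102942515054583646657),
   (607031425024103733211234700483462885, 57588981984988269694625030896469070),
   (55152412496244258561865634559876163, 99204616611356808317328853088339697),
   (26502006949850106734104652912084065, 730154480306673529103488289304775703),
   (979384798808662816318777564461009989, 981969402713231389197753046246950435),
   (134257476796458016119795675339195840, 234193828527595744391774438333072448),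
   (712128603950546365931818345245629890, 91408593427915816050785358946271685),
   (733904516325317522493771879529134816, 50233927808293370517520649000783392)]

/-- Fixing also the first trio, moving the second to each of the others. -/
def toSecond : List Elt :=
  [(984818244535754528103549039458486304, 984818244535754528103549039458486304),
   (221449271255674794685849863852687406, 726403937988413916305820620088087586),
   (23837404147596678538542654236574817, 723783201542458882822097931341960215),
   (26719712097747467258414770278204887, 26233184326458454469320962133300311),
   (217127849138343871973665447680771074, 716030717298281676731532011560337473),
   (5689739670250043146736862203676709, 227579297447717960051460904378206263),
   (731484631965597606595274692802721829, 602818176159395141371420031754341425),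
   (28815616268985357548246502169347618, 153554486103654030426688114005573719),
   (732977302221749330706743566436177632, 50206859017570122383211111086471264),
   (150958654582352075825006809310125504, 97749148642332565726883822504218144),
   (972649576087462997190882927550431301, 963999488195653737622612568610866626),
   (233010115770804642120145690976902595, 104257551679203491970800909973207141),
   (218252211658124106775777345770913859, 217127453989606028327408039661405282),
   (217438022788734076122837094398397889, 144578344316085908033940940687217681)]

end Cfsg.Agent.Golay.Local
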