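import Cfsg.Agent.Lib.Golay.Local.Cents

/-! Ordered six-tuples of points: two orbits. -/

namespace Cfsg.Agent.Golay.Local

open Cfsg Cfsg.Agent.PermCert Cfsg.Agent.Golay.Cert
open scoped Pointwise

/-- The transversals at the sixth and seventh base point. -/
def tailT : List (ℕ × Elt × ℕ × ℕ) := ((m24Levels.drop 5).flatMap fun l => l.2.2)

/-- The five base positions. -/
def five : List ℕ := [23, 0, 1, 2, 3]

theorem tail_ok :
    (allF (fun t => eltOK₂ t.2.1 && allF (fun b => Nat.beq (g5 t.2.1.1 b) b) five) tailT &&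
      allBelow (fun q => memF q five ||
        anyF (fun t => Nat.beq (g5 t.2.1.1 4) q || Nat.beq (g5 t.2.1.1 5) q) tailT) 24) = true := by
  decide +kernel

/-- The standard six points, outside or inside one octad. -/
def six (b : Bool) : Fin 6 → GolayPt := fun i => ptN ([23, 0, 1, 2, 3, bif b then 5 else 4].getD i.val 0)

theorem six_injective : ∀ b, Function.Injective (six b) := by decide +kernel

theorem six_mask (b : Bool) :
    Finset.univ.image (six b) = maskSet (bif b then 8388655 else 8388639) := by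
  cases b <;> decide +kernel

theorem six_octad (b : Bool) : (∃ o ∈ octads, Finset.univ.image (six b) ⊆ o) ↔ b = true := by
  have h := fix6_lists
  simp only [Bool.and_eq_true, allF_iff, anyF_iff, Bool.not_eq_true', Nat.beq_eq] at h
  obtain ⟨⟨-, hA⟩, o, ho, hB⟩ := h
  rw [six_mask]
  cases b
  · simp only [cond_false, Bool.false_eq_true, iff_false]
    rintro ⟨s, hs, hsub⟩
    obtain ⟨m, hm, rfl⟩ := mem_octads'.1 hs
    have he : maskSet (m &&& 8388639) = maskSet 8388639 := by
      rw [maskSet_and]; exact Finset.inter_eq_right.2 hsub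
    have := hA m hm
    rw [Bool.eq_false_iff, ne_eq, Nat.beq_eq] at this
    exact this (maskSet_inj (lt_of_le_of_lt Nat.and_le_right (by norm_num)) (by norm_num) he)
  · simp only [cond_true, iff_true]
    refine ⟨maskSet o, mem_octads'.2 ⟨o, ho, rfl⟩, ?_⟩
    intro p hp
    have : p ∈ maskSet o ∩ maskSet 8388655 := by
      rw [← maskSet_and, show o &&& 8388655 = 8388655 from hB]; exact hp
    exact (Finset.mem_inter.1 this).1

theorem exists_six (x : Fin 6 → GolayPt) (hx : Function.Injective x) :
    ∃ b, ∃ g ∈ M24, ∀ i, g (six b i) = x i := by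
  obtain ⟨g, hg, h⟩ := exists_M24_map' (k := 5) le_rfl (x := fun i => six false i.castSucc)
    (y := fun i => x i.castSucc) ((six_injective false).comp (Fin.castSucc_injective 5))
    (hx.comp (Fin.castSucc_injective 5))
  have h' := tail_ok
  simp only [Bool.and_eq_true, allF_iff, Nat.beq_eq] at h'
  obtain ⟨hT, hcov⟩ := h'
  set q := idx (g⁻¹ (x (Fin.last 5))) with hq
  have hc := allBelow_spec _ _ hcov q (idx_lt _)
  simp only [Bool.or_eq_true, memF_iff, anyF_iff, Nat.beq_eq] at hc
  have hsame : ∀ (b : Bool) (i : Fin 5), six b i.castSucc = six false i.castSucc := by decide +kernel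
  rcases hc with hmem | ⟨t, ht, hcase⟩
  · exfalso
    obtain ⟨i, hi⟩ : ∃ i : Fin 5, idx (six false i.castSucc) = q := by
      have key : ∀ a ∈ five, ∃ i : Fin 5, idx (six false i.castSucc) = a := by decide +kernel
      exact key q hmem
    have e : six false i.castSucc = g⁻¹ (x (Fin.last 5)) := idx_injective (hi.trans hq)
    have := h i
    simp only [e] at this
    rw [Equiv.Perm.inv_def, Equiv.apply_symm_apply] at this
    exact absurd (hx this) (Fin.castSucc_lt_last i).ne'
  · obtain ⟨hv, hM⟩ := eltOK_spec (hT t ht).1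
    have hfix : ∀ i : Fin 5, permOf t.2.1 (six false i.castSucc) = six false i.castSucc := by
      intro i
      apply idx_injective
      rw [← code_permOf hv, ← g5_eq]
      refine (hT t ht).2 _ ?_
      revert i
      decide +kernel
    have fin : ∀ b, g5 t.2.1.1 (idx (six b (Fin.last 5))) = q →
        ∃ b, ∃ g ∈ M24, ∀ i, g (six b i) = x i := by
      intro b hb
      refine ⟨b, g * permOf t.2.1, mul_mem hg hM, fun i => ?_⟩
      rw [g5_eq, code_permOf hv] at hb
      refine Fin.lastCases ?_ (fun i => ?_) i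
      · rw [Equiv.Perm.mul_apply, idx_injective hb, Equiv.Perm.inv_def, Equiv.apply_symm_apply]
      · rw [Equiv.Perm.mul_apply, hsame, hfix]
        exact h i
    rcases hcase with hc4 | hc5
    · exact fin false (by rw [show idx (six false (Fin.last 5)) = 4 from by decide +kernel]; exact hc4)
    · exact fin true (by rw [show idx (six true (Fin.last 5)) = 5 from by decide +kernel]; exact hc5)

theorem image_smul {x : Fin 6 → GolayPt} {b : Bool} {g : Equiv.Perm GolayPt}
    (h : ∀ i, g (six b i) = x i) : g • Finset.univ.image (six b) = Finset.univ.image x := by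
  rw [Finset.smul_finset_def, Finset.image_image]
  exact Finset.image_congr fun i _ => h i

theorem six_type {x : Fin 6 → GolayPt} {b : Bool} {g : Equiv.Perm GolayPt} (hg : g ∈ M24)
    (h : ∀ i, g (six b i) = x i) : (∃ o ∈ octads, Finset.univ.image x ⊆ o) ↔ b = true := by
  rw [← six_octad b, ← image_smul h]
  constructor
  · rintro ⟨o, ho, hsub⟩
    refine ⟨g⁻¹ • o, smul_mem_octads (inv_mem hg) ho, ?_⟩
    rwa [← Finset.smul_finset_subset_smul_finset_iff (a := g), smul_inv_smul]
  · rintro ⟨o, ho, hsub⟩
    exact ⟨g • o, smul_mem_octads hg ho, Finset.smul_finset_subset_smul_finset hsub⟩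

theorem card_fix_six (b : Bool) :
    Nat.card {g : Equiv.Perm GolayPt // g ∈ M24 ∧ ∀ p ∈ Finset.univ.image (six b), g p = p} =
      bif b then 16 else 3 := by
  have h := fix6_lists
  simp only [Bool.and_eq_true, Nat.beq_eq] at h
  obtain ⟨⟨⟨⟨⟨⟨⟨⟨hv, hdA⟩, hdB⟩, hlA⟩, hlB⟩, hfA⟩, hfB⟩, -⟩, -⟩ := h
  have hv' := allF_iff.1 hv
  rw [six_mask]
  cases b
  · simp only [cond_false]
    rw [fix_list (by norm_num) (allF_iff.2 fun e he => hv' e (List.mem_append_left _ he)) hdA hfA
      fix6_searchA, hlA]
  · simp only [cond_true]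
    rw [fix_list (by norm_num) (allF_iff.2 fun e he => hv' e (List.mem_append_right _ he)) hdB hfB
      fix6_searchB, hlB]

theorem card_fix_of_six {x : Fin 6 → GolayPt} {b : Bool} {g : Equiv.Perm GolayPt} (hg : g ∈ M24)
    (h : ∀ i, g (six b i) = x i) :
    Nat.card {c : Equiv.Perm GolayPt // c ∈ M24 ∧ ∀ p ∈ Finset.univ.image x, c p = p} =
      bif b then 16 else 3 := by
  rw [← card_fix_six b, ← image_smul h]
  refine Nat.card_congr
    { toFun := fun c => ⟨g⁻¹ * c * g, mul_mem (mul_mem (inv_mem hg) c.2.1) hg, fun p hp => ?_⟩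
      invFun := fun c => ⟨g * c * g⁻¹, mul_mem (mul_mem hg c.2.1) (inv_mem hg), fun p hp => ?_⟩
      left_inv := fun c => Subtype.ext (by simp [mul_assoc])
      right_inv := fun c => Subtype.ext (by simp [mul_assoc]) }
  · have := c.2.2 (g • p) (Finset.smul_mem_smul_finset hp)
    rw [Equiv.Perm.smul_def] at this
    rw [Equiv.Perm.mul_apply, Equiv.Perm.mul_apply, this, Equiv.Perm.inv_def, Equiv.symm_apply_apply]
  · have := c.2.2 (g⁻¹ • p) (Finset.inv_smul_mem_iff.2 hp)
    rw [Equiv.Perm.smul_def] at this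
    rw [Equiv.Perm.mul_apply, Equiv.Perm.mul_apply, this, Equiv.Perm.inv_def, Equiv.apply_symm_apply]

end Cfsg.Agent.Golay.Local
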