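import Cfsg.Agent.Lib.Golay.Local.StdObjects
import Cfsg.Agent.Lib.Golay.Local.SixPoints
import Cfsg.Agent.Lib.Golay.Local.OctTriData

/-!
The fifteen trios on an octad: double transitivity and the kernel of the action.
-/

namespace Cfsg.Agent.Golay.Local

open Cfsg Cfsg.Agent.PermCert Cfsg.Agent.Golay.Cert
open scoped Pointwise

/-- The trio of the standard octad and a disjoint octad. -/
def triOf (a : ℕ) : List ℕ := [8536111, a, 16777215 - 8536111 - a]

/-- An element fixes the first family and moves the second to the third. -/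
def movesFam (e : Elt) (s t : List ℕ) : Bool :=
  allF (fun m => memF (imgF (tabOf e) m) t) s && allF (fun m => memF m (s.map (imgF (tabOf e)))) t

theorem octTri_ok :
    (allF (fun a => Nat.beq (Nat.land 8536111 a) 0 && bitB a outPt && famOK (triOf a) &&
        anyF (fun l => sameFam l (triOf a)) triList) outOcts &&
      allF (fun l => !(memF 8536111 l) || anyF (fun a => sameFam l (triOf a)) outOcts) triList &&
      Nat.beq (triList.filter fun l => memF 8536111 l).length 15 &&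
      allF (fun e => eltOK₂ e && Nat.beq (imgF (tabOf e) 8536111) 8536111) (toTrio ++ toSecond) &&
      allF (fun e => fixesFam (tabOf e) (triOf (outOcts.getD 0 0))) toSecond &&
      allF (fun a => anyF (fun e => movesFam e (triOf (outOcts.getD 0 0)) (triOf a)) toTrio) outOcts &&
      allF (fun a => Nat.beq a (outOcts.getD 0 0) ||
        anyF (fun e => movesFam e (triOf (outOcts.getD 1 0)) (triOf a)) toSecond) outOcts &&
      allBelow (fun q => bitB 8536111 q || anyF (fun e => Nat.beq (g5 e.1 outPt) q) fix6B) 24 &&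
      allBelow (fun p => bitB 8536111 p || allBelow (fun q => bitB 8536111 q || Nat.beq p q ||
        anyF (fun a => !(Bool.and (bitB a p) (bitB a q) || (!(bitB a p) && !(bitB a q)))) outOcts) 24) 24 &&
      Nat.beq (Nat.land 8536111 8388655) 8388655 && !(bitB 8536111 outPt) &&
      allF (fun e => Nat.beq (Nat.land (fixF e.1) 8536111) 8536111) fix6B &&
      allF (fun e => sameF e.1 idC || Nat.blt (pcF (fixF e.1)) 16) fix6B &&
      allF (fun e => allF (fun a => fixesFam (tabOf e) (triOf a)) outOcts) fix6B) = true := by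
  decide +kernel

theorem octTri_facts :
    (∀ a ∈ outOcts, (Nat.land 8536111 a = 0 ∧ a.testBit outPt = true) ∧ famOK (triOf a) = true ∧
      famSet (triOf a) ∈ trios) ∧
    (∀ T ∈ trios, stdOct ∈ T → ∃ a ∈ outOcts, T = famSet (triOf a)) ∧
    {T | T ∈ trios ∧ stdOct ∈ T}.ncard = 15 := by
  have h := octTri_ok
  simp only [Bool.and_eq_true] at h
  obtain ⟨⟨⟨⟨⟨⟨⟨⟨⟨⟨⟨⟨⟨hA, hcov⟩, hcnt⟩, -⟩, -⟩, -⟩, -⟩, -⟩, -⟩, -⟩, -⟩, -⟩, -⟩, -⟩ := h
  simp only [allF_iff, Bool.and_eq_true, anyF_iff, Bool.or_eq_true, Bool.not_eq_true', Nat.beq_eq, bitB_eq] at hA hcov hcnt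
  have hiff : ∀ l ∈ triList, (memF 8536111 l = true ↔ stdOct ∈ famSet l) := by
    intro l hl
    rw [memF_iff, mem_famSet]
    refine ⟨fun hm => ⟨_, hm, rfl⟩, fun ⟨m, hm, he⟩ => ?_⟩
    have : m = 8536111 :=
      maskSet_inj ((famOK_spec (triList_spec hl).1).2 m hm) (by norm_num) he
    exact this ▸ hm
  refine ⟨fun a ha => ?_, fun T hT hmem => ?_, ?_⟩
  · obtain ⟨⟨⟨h1, h2⟩, h3⟩, l, hl, hs⟩ := hA a ha
    exact ⟨⟨h1, h2⟩, h3, mem_trios.2 ⟨l, hl, famSet_congr hs⟩⟩
  · obtain ⟨l, hl, rfl⟩ := mem_trios.1 hT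
    rcases hcov l hl with h | ⟨a, ha, hs⟩
    · rw [(hiff l hl).2 hmem] at h; simp at h
    · exact ⟨a, ha, famSet_congr hs⟩
  · rw [ncard_filter_trios (fun T => stdOct ∈ T) (fun l => memF 8536111 l) hiff]
    exact hcnt

theorem movesFam_spec {e : Elt} (hv : validElt 5 24 e = true) {s t : List ℕ} (hs : famOK s = true)
    (h : movesFam e s t = true) : permOf e • famSet s = famSet t := by
  simp only [movesFam, Bool.and_eq_true, allF_iff, memF_iff] at h
  rw [famSet_smul hv (famOK_spec hs).2]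
  refine famSet_congr ?_
  simp only [sameFam, Bool.and_eq_true, allF_iff, memF_iff]
  refine ⟨fun m hm => ?_, fun m hm => ?_⟩
  · obtain ⟨x, hx, rfl⟩ := List.mem_map.1 hm
    rw [← imgF_eq]; exact h.1 x hx
  · obtain ⟨x, hx, rfl⟩ := List.mem_map.1 (h.2 m hm)
    exact List.mem_map.2 ⟨x, hx, (imgF_eq _ _).symm⟩

theorem fixes_stdOct {e : Elt} (hv : validElt 5 24 e = true)
    (h : Nat.beq (imgF (tabOf e) 8536111) 8536111 = true) : permOf e • stdOct = stdOct := by
  rw [stdOct, smul_maskSet hv (by norm_num), ← imgF_eq, Nat.eq_of_beq_eq_true h]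

/-- The stabiliser of the octad is doubly transitive on its fifteen trios. -/
theorem octTri_two {T₁ T₂ : Finset (Finset GolayPt)} (h₁ : T₁ ∈ trios) (h₂ : T₂ ∈ trios)
    (m₁ : stdOct ∈ T₁) (m₂ : stdOct ∈ T₂) (hne : T₁ ≠ T₂) :
    ∃ g ∈ M24, g • stdOct = stdOct ∧ g • famSet (triOf (outOcts.getD 0 0)) = T₁ ∧
      g • famSet (triOf (outOcts.getD 1 0)) = T₂ := by
  have h := octTri_ok
  simp only [Bool.and_eq_true] at h
  obtain ⟨⟨⟨⟨⟨⟨⟨⟨⟨⟨⟨⟨⟨-, -⟩, -⟩, hel⟩, hfix⟩, hto⟩, hsec⟩, -⟩, -⟩, -⟩, -⟩, -⟩, -⟩, -⟩ := h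
  simp only [allF_iff, Bool.and_eq_true, anyF_iff, Bool.or_eq_true] at hel hfix hto hsec
  obtain ⟨a, ha, rfl⟩ := octTri_facts.2.1 T₁ h₁ m₁
  have h0 : outOcts.getD 0 0 ∈ outOcts := by decide
  have h1 : outOcts.getD 1 0 ∈ outOcts := by decide
  obtain ⟨e, he, hm⟩ := hto a ha
  obtain ⟨hev, heM⟩ := eltOK_spec (hel e (List.mem_append_left _ he)).1
  have he0 := fixes_stdOct hev (hel e (List.mem_append_left _ he)).2
  have he1 := movesFam_spec hev (octTri_facts.1 _ h0).2.1 hm
  obtain ⟨b, hb, hbe⟩ := octTri_facts.2.1 ((permOf e)⁻¹ • T₂) (smul_mem_trios (inv_mem heM) h₂) (by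
    rw [Finset.mem_inv_smul_finset_iff, he0]; exact m₂)
  rcases hsec b hb with hb0 | ⟨k, hk, hkm⟩
  · exfalso
    rw [Nat.eq_of_beq_eq_true hb0, inv_smul_eq_iff, he1] at hbe
    exact hne hbe.symm
  · obtain ⟨hkv, hkM⟩ := eltOK_spec (hel k (List.mem_append_right _ hk)).1
    refine ⟨permOf e * permOf k, mul_mem heM hkM, ?_, ?_, ?_⟩
    · rw [mul_smul, fixes_stdOct hkv (hel k (List.mem_append_right _ hk)).2, he0]
    · rw [mul_smul, (fixesFam_iff hkv (octTri_facts.1 _ h0).2.1).1 (hfix k hk), he1]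
    · rw [mul_smul, movesFam_spec hkv (octTri_facts.1 _ h1).2.1 hkm, ← hbe, smul_inv_smul]

theorem mem_fix6B {σ : Equiv.Perm GolayPt} (hσ : σ ∈ M24) (h : ∀ p ∈ stdOct, σ p = p) :
    ∃ e ∈ fix6B, Code e.1 σ := by
  have hb := octTri_ok
  simp only [Bool.and_eq_true, Nat.beq_eq] at hb
  have hsub : ∀ p ∈ maskSet 8388655, σ p = p := fun p hp => h p (by
    have e : maskSet (8536111 &&& 8388655) = maskSet 8388655 :=
      congrArg maskSet hb.1.1.1.1.2
    rw [maskSet_and] at e
    exact (Finset.mem_inter.1 (e.symm ▸ hp)).1)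
  obtain ⟨c, hc, hl⟩ := search_M24 fix6_searchB hσ fun F f hF hf => prFix_spec hsub hF hf
  obtain ⟨n, hn, hs⟩ := anyF_iff.1 hl
  have hfl := fix6_lists
  simp only [Bool.and_eq_true] at hfl
  have hv := (eltOK_spec (allF_iff.1 hfl.1.1.1.1.1.1.1.1 n (List.mem_append_right _ hn))).1
  exact ⟨n, hn, (sameF_iff hc (code_permOf hv)).1 hs ▸ code_permOf hv⟩

theorem eq_one_of_fix_outside {σ : Equiv.Perm GolayPt} (hσ : σ ∈ M24) (h : ∀ p, p ∉ stdOct → σ p = p) :
    σ = 1 := by
  classical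
  have h0 : outOcts.getD 0 0 ∈ outOcts := by decide
  obtain ⟨⟨hdis, -⟩, hok, hT⟩ := octTri_facts.1 _ h0
  set a := outOcts.getD 0 0 with ha
  have haT : maskSet a ∈ famSet (triOf a) := mem_famSet.2 ⟨a, by simp [triOf], rfl⟩
  obtain ⟨k, hk⟩ := exists_smul_octad stdOct_mem (hT.2.1 _ haT)
  have hd : Disjoint stdOct (maskSet a) := by
    rw [Finset.disjoint_iff_inter_eq_empty, ← maskSet_and, show 8536111 &&& a = 0 from hdis]
    simp [maskSet]
  set τ := (k : Equiv.Perm GolayPt)⁻¹ * σ * k with hτ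
  have hτM : τ ∈ M24 := mul_mem (mul_mem (inv_mem k.2) hσ) k.2
  have hτo : ∀ p ∈ stdOct, τ p = p := fun p hp => by
    have : (k : Equiv.Perm GolayPt) p ∈ maskSet a := hk ▸ Finset.smul_mem_smul_finset hp
    rw [hτ, Equiv.Perm.mul_apply, Equiv.Perm.mul_apply, h _ (Finset.disjoint_right.1 hd this)]
    simp
  obtain ⟨e, he, hec⟩ := mem_fix6B hτM hτo
  have hb := octTri_ok
  simp only [Bool.and_eq_true, allF_iff, Bool.or_eq_true, Nat.blt_eq] at hb
  rcases hb.1.2 e he with hid | hlt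
  · have h1 : τ = 1 := (sameF_iff hec code_idC).1 hid
    have := congrArg (fun z => (k : Equiv.Perm GolayPt) * z * (k : Equiv.Perm GolayPt)⁻¹) h1
    simpa [hτ, mul_assoc] using this
  · exfalso
    rw [pcF_eq, ← card_maskSet, ← hec.fixed] at hlt
    have hsub : (k : Equiv.Perm GolayPt)⁻¹ • (Finset.univ \ stdOct) ⊆ Finset.univ.filter fun p => τ p = p := by
      intro p hp
      rw [Finset.mem_inv_smul_finset_iff, Finset.mem_sdiff] at hp
      refine Finset.mem_filter.2 ⟨Finset.mem_univ p, ?_⟩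
      have hk' : σ ((k : Equiv.Perm GolayPt) p) = (k : Equiv.Perm GolayPt) p := h _ hp.2
      rw [hτ, Equiv.Perm.mul_apply, Equiv.Perm.mul_apply, hk']
      simp
    have hcard := Finset.card_le_card hsub
    rw [Finset.card_smul_finset, Finset.card_sdiff_of_subset (Finset.subset_univ _),
      card_octad stdOct_mem, show (Finset.univ : Finset GolayPt).card = 24 from rfl] at hcard
    omega

/-- The kernel of the action is the pointwise stabiliser. -/
theorem octTri_kernel {g : Equiv.Perm GolayPt} (hg : g ∈ M24) (ho : g • stdOct = stdOct) :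
    (∀ T ∈ trios, stdOct ∈ T → g • T = T) ↔ ∀ p ∈ stdOct, g p = p := by
  have h := octTri_ok
  simp only [Bool.and_eq_true] at h
  obtain ⟨⟨⟨⟨⟨⟨⟨⟨⟨⟨⟨⟨⟨-, -⟩, -⟩, -⟩, -⟩, -⟩, -⟩, hcov⟩, hsep⟩, -⟩, hout⟩, hfix⟩, -⟩, htri⟩ := h
  have hfl := fix6_lists
  simp only [Bool.and_eq_true] at hfl
  have hvB : ∀ e ∈ fix6B, eltOK₂ e = true := fun e he =>
    allF_iff.1 hfl.1.1.1.1.1.1.1.1 e (List.mem_append_right _ he)
  have hfixB : ∀ e ∈ fix6B, ∀ p ∈ stdOct, permOf e p = p := fun e he p hp => by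
    have h1 := Nat.eq_of_beq_eq_true (allF_iff.1 hfix e he)
    have h2 : p ∈ maskSet (fixF e.1) ∩ stdOct := by
      rw [stdOct, ← maskSet_and, show fixF e.1 &&& 8536111 = 8536111 from h1]; exact hp
    rw [← (code_permOf (eltOK_spec (hvB e he)).1).fixed] at h2
    exact (Finset.mem_filter.1 (Finset.mem_inter.1 h2).1).2
  have hout' : ptN outPt ∉ stdOct := by
    rw [mem_maskSet, idx_ptN (by decide)]
    simpa [bitB_eq] using hout
  constructor
  · intro hT
    set q := idx (g (ptN outPt)) with hq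
    have hqo : g (ptN outPt) ∉ stdOct := fun hm => hout' (by
      rwa [← ho, ← Equiv.Perm.smul_def, Finset.smul_mem_smul_finset_iff] at hm)
    have hc := allBelow_spec _ _ hcov q (idx_lt _)
    simp only [Bool.or_eq_true, anyF_iff, Nat.beq_eq, bitB_eq] at hc
    rcases hc with hc | ⟨e, he, hc⟩
    · exact absurd (mem_maskSet.2 hc) hqo
    obtain ⟨hev, heM⟩ := eltOK_spec (hvB e he)
    have hep : permOf e (ptN outPt) = g (ptN outPt) := by
      apply idx_injective
      rw [← code_permOf hev, ← g5_eq, idx_ptN (by decide), hc]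
    set τ := (permOf e)⁻¹ * g with hτ
    have heo : permOf e • stdOct = stdOct := by
      refine Finset.eq_of_subset_of_card_le (fun p hp => ?_) (by rw [Finset.card_smul_finset])
      obtain ⟨r, hr, rfl⟩ := Finset.mem_smul_finset.1 hp
      rw [Equiv.Perm.smul_def, hfixB e he r hr]; exact hr
    have hτp : τ (ptN outPt) = ptN outPt := by
      rw [hτ, Equiv.Perm.mul_apply, ← hep]; simp
    have hτo : τ • stdOct = stdOct := by rw [hτ, mul_smul, ho, inv_smul_eq_iff, heo]
    have hτa : ∀ a ∈ outOcts, τ • maskSet a = maskSet a := by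
      intro a ha
      obtain ⟨⟨hdis, hbit⟩, hok, hTr⟩ := octTri_facts.1 a ha
      have hfa : τ • famSet (triOf a) = famSet (triOf a) := by
        rw [hτ, mul_smul, hT _ hTr (mem_famSet.2 ⟨8536111, by simp [triOf], rfl⟩), inv_smul_eq_iff,
          (fixesFam_iff hev hok).1 (allF_iff.1 (allF_iff.1 htri e he) a ha)]
      have haT : maskSet a ∈ famSet (triOf a) := mem_famSet.2 ⟨a, by simp [triOf], rfl⟩
      have hmem : τ • maskSet a ∈ famSet (triOf a) := hfa ▸ Finset.smul_mem_smul_finset haT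
      have hp : ptN outPt ∈ maskSet a := mem_maskSet.2 (by rw [idx_ptN (by decide)]; exact hbit)
      have hp' : ptN outPt ∈ τ • maskSet a := by
        have h' := Finset.smul_mem_smul_finset (a := τ) hp
        rwa [Equiv.Perm.smul_def, hτp] at h'
      by_contra hne
      exact Finset.disjoint_left.1 (hTr.2.2 _ hmem _ haT hne) hp' hp
    have hτ1 : τ = 1 := by
      refine eq_one_of_fix_outside (mul_mem (inv_mem heM) hg) fun p hp => ?_
      have hp' : τ p ∉ stdOct := fun hm => hp (by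
        rwa [← hτo, ← Equiv.Perm.smul_def, Finset.smul_mem_smul_finset_iff] at hm)
      have hs := allBelow_spec _ _ hsep (idx p) (idx_lt p)
      rw [Bool.or_eq_true, bitB_eq] at hs
      rcases hs with hs | hs
      · exact absurd (mem_maskSet.2 hs) hp
      have hs2 := allBelow_spec _ _ hs (idx (τ p)) (idx_lt _)
      simp only [Bool.or_eq_true, anyF_iff, Nat.beq_eq, bitB_eq] at hs2
      rcases hs2 with (hs2 | hs2) | ⟨a, ha, hs2⟩
      · exact absurd (mem_maskSet.2 hs2) hp'
      · exact idx_injective hs2.symm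
      · exfalso
        have : a.testBit (idx (τ p)) = a.testBit (idx p) := by
          rw [Bool.eq_iff_iff, ← mem_maskSet, ← mem_maskSet]
          conv_lhs => rw [← hτa a ha, ← Equiv.Perm.smul_def, Finset.smul_mem_smul_finset_iff]
        rw [this] at hs2
        revert hs2
        cases a.testBit (idx p) <;> simp
    intro p hp
    rw [show g = permOf e from (inv_mul_eq_one.1 hτ1).symm]
    exact hfixB e he p hp
  · intro hp T hT hm
    obtain ⟨e, he, hec⟩ := mem_fix6B hg hp
    obtain ⟨a, ha, rfl⟩ := octTri_facts.2.1 T hT hm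
    have hev := (eltOK_spec (hvB e he)).1
    have : g = permOf e := (sameF_iff hec (code_permOf hev)).1 (by rw [sameF_iff hec hec])
    rw [this]
    exact (fixesFam_iff hev (octTri_facts.1 a ha).2.1).1 (allF_iff.1 (allF_iff.1 htri e he) a ha)

end Cfsg.Agent.Golay.Local
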