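import Cfsg.Agent.Lib.Golay.Local.Orbits
import Cfsg.Agent.Lib.Golay.Local.OrbDataDuo

/-! Kernel checks of orbit certificates. -/

namespace Cfsg.Agent.Golay.Local

theorem duoRef_ok : famOK duoRef = true := by decide +kernel

theorem duoGens_ok : gensOK duoGens duoTabs duoRef = true := by decide +kernel

theorem duoSex0Root_ok : famOK duoSex0Root = true := by decide +kernel

theorem duoSex0_ok : orbitOK duoTabs sexLit duoRef duoSex0Root 192 396 duoSex0Tree = true := by
  decide +kernel

theorem duoSex1Root_ok : famOK duoSex1Root = true := by decide +kernel

theorem duoSex1_ok : orbitOK duoTabs sexLit duoRef duoSex1Root 640 495 duoSex1Tree = true := by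
  decide +kernel

theorem duoSex2Root_ok : famOK duoSex2Root = true := by decide +kernel

theorem duoSex2_ok : orbitOK duoTabs sexLit duoRef duoSex2Root 492 880 duoSex2Tree = true := by
  decide +kernel

theorem duoSex_values : valuesOK sexLit duoRef [192, 640, 492] = true := by
  decide +kernel

end Cfsg.Agent.Golay.Local
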