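import Cfsg.Agent.Lib.Golay.Local.Families
import Cfsg.Agent.Lib.Golay.Local.ClassTools
import Cfsg.Agent.Lib.Golay.Local.OrbRigidData

/-! Kernel check of the certificate rigidifying orbit-preserving maps of the code. -/

namespace Cfsg.Agent.Golay.Local

open Cfsg Cfsg.Agent.PermCert Cfsg.Agent.Golay.Cert

/-- A symmetric function of a weight, separating weights up to complement. -/
def symW (w : ℕ) : ℕ := Nat.mul w (Nat.sub 24 w)

/-- The weight classes of the sums with the words of a list, packed. -/
def spanKey (sp : List ℕ) (o : ℕ) : ℕ :=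
  List.rec 0 (fun s _ ih => Nat.add (symW (pcF (Nat.xor o s))) (Nat.mul 256 ih)) sp

/-- Equality of tables. -/
def tabEq (S T : Tab) : Bool :=
  Nat.beq S.t0 T.t0 && Nat.beq S.t1 T.t1 && Nat.beq S.t2 T.t2 && Nat.beq S.t3 T.t3 &&
    Nat.beq S.t4 T.t4 && Nat.beq S.t5 T.t5

/-- Every step applies a generator to a mask reached before. -/
def stepsOK (G : List (Elt × Tab)) : List ℕ → List (ℕ × ℕ × ℕ) → Bool
  | _, [] => true
  | acc, (y, i, z) :: rest =>
    memF y acc && (match G[i]? with | some g => Nat.beq (imgF g.2 y) z | none => false) &&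
      stepsOK G (z :: acc) rest

/-- One level of the certificate. -/
def rigidLevel (pre : List ℕ) (c k : ℕ) (G : List (Elt × Tab)) (S : List (ℕ × ℕ × ℕ)) : Bool :=
  memF c octLit && Nat.beq (spanKey (spanList pre) c) k &&
    allF (fun g => eltOK₂ g.1 && tabEq g.2 (tabOf g.1) && allF (fun p => Nat.beq (imgF g.2 p) p) pre) G &&
    stepsOK G [c] S &&
    allF (fun o => !(Nat.beq (spanKey (spanList pre) o) k) || Nat.beq o c ||
      anyF (fun t => Nat.beq t.2.2 o) S) octLit

/-- All levels. -/
def rigidAll : List ℕ → List (ℕ × ℕ × List (Elt × Tab) × List (ℕ × ℕ × ℕ)) → Bool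
  | _, [] => true
  | pre, (c, k, G, S) :: rest => rigidLevel pre c k G S && rigidAll (c :: pre) rest

/-- The octads fixed at the end. -/
def rigidFinal : List ℕ → List (ℕ × ℕ × List (Elt × Tab) × List (ℕ × ℕ × ℕ)) → List ℕ
  | pre, [] => pre
  | pre, (c, _, _, _) :: rest => rigidFinal (c :: pre) rest

/-- The keys increase along a list. -/
def incrKeys (sp : List ℕ) : List ℕ → Bool
  | a :: b :: rest => Nat.blt (spanKey sp a) (spanKey sp b) && incrKeys sp (b :: rest)
  | _ => true

theorem rigid_levels : rigidAll [orbFirst] orbLevels = true := by decide +kernel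

theorem rigid_keys :
    (memF orbFirst octLit && incrKeys (spanList (rigidFinal [orbFirst] orbLevels)) orbSorted &&
      allF (fun o => memF o orbSorted) octLit) = true := by
  decide +kernel

end Cfsg.Agent.Golay.Local
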