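import Cfsg.Agent.Lib.Golay.Local.PermModule
import Cfsg.Agent.Lib.Golay.Local.ClassTools
import Cfsg.Agent.Lib.Golay.Local.OrbRigidCheck

/-!
A linear map of the code preserving the orbits of the group modulo the all-ones word agrees with
a member of the group modulo that word.
-/

namespace Cfsg.Agent.Golay.Local

open Cfsg Cfsg.Agent.PermCert Cfsg.Agent.Golay.Cert
open scoped Pointwise

theorem incrKeys_spec (sp : List ℕ) : ∀ l : List ℕ, incrKeys sp l = true →
    (l.map (spanKey sp)).Pairwise (· < ·)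
  | [], _ => by simp
  | [a], _ => by simp
  | a :: b :: rest, h => by
    simp only [incrKeys, Bool.and_eq_true, Nat.blt_eq] at h
    have ih := incrKeys_spec sp (b :: rest) h.2
    rw [List.map_cons, List.pairwise_cons]
    refine ⟨fun x hx => ?_, ih⟩
    rw [List.map_cons, List.mem_cons] at hx
    rcases hx with rfl | hx
    · exact h.1
    · exact h.1.trans (List.rel_of_pairwise_cons ih hx)

theorem spanKey_congr {o o' : ℕ} : ∀ {sp : List ℕ},
    (∀ s ∈ sp, symW (pcF (o ^^^ s)) = symW (pcF (o' ^^^ s))) →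
    spanKey sp o = spanKey sp o'
  | [], _ => rfl
  | s :: sp, h => by
    show Nat.add (symW (pcF (o ^^^ s))) (Nat.mul 256 (spanKey sp o)) =
      Nat.add (symW (pcF (o' ^^^ s))) (Nat.mul 256 (spanKey sp o'))
    rw [h s List.mem_cons_self, spanKey_congr fun t ht => h t (List.mem_cons_of_mem _ ht)]

theorem stepsOK_spec {G : List (Elt × Tab)} {pre : List ℕ} (hpre : ∀ p ∈ pre, p < 2 ^ 24)
    (hG : ∀ g ∈ G, eltOK₂ g.1 = true ∧ g.2 = tabOf g.1 ∧ ∀ p ∈ pre, imgF g.2 p = p) {c : ℕ} :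
    ∀ (S : List (ℕ × ℕ × ℕ)) (acc : List ℕ), stepsOK G acc S = true →
      (∀ y ∈ acc, y < 2 ^ 24 ∧
        ∃ σ ∈ M24, σ • maskSet c = maskSet y ∧ ∀ p ∈ pre, σ • maskSet p = maskSet p) →
      ∀ t ∈ S, ∃ σ ∈ M24, σ • maskSet c = maskSet t.2.2 ∧ ∀ p ∈ pre, σ • maskSet p = maskSet p
  | [], _, _, _ => fun t ht => nomatch ht
  | (y, i, z) :: rest, acc, h, hacc => by
    simp only [stepsOK, Bool.and_eq_true, memF_iff] at h
    obtain ⟨⟨hy, hstep⟩, hrest⟩ := h
    split at hstep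
    · rename_i g hg
      rw [Nat.beq_eq] at hstep
      obtain ⟨hok, htab, hfix⟩ := hG g (List.mem_of_getElem? hg)
      obtain ⟨hv, hM⟩ := eltOK_spec hok
      obtain ⟨hy24, σ, hσ, hσc, hσp⟩ := hacc y hy
      have hz : permOf g.1 • maskSet y = maskSet z := by
        rw [smul_maskSet hv hy24, ← imgF_eq, ← htab, hstep]
      have hz24 : z < 2 ^ 24 := by
        rw [← hstep, htab, imgF_eq]; exact tab_img_lt g.1 hy24
      have hnew : ∃ ρ ∈ M24, ρ • maskSet c = maskSet z ∧ ∀ p ∈ pre, ρ • maskSet p = maskSet p := by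
        refine ⟨permOf g.1 * σ, mul_mem hM hσ, by rw [mul_smul, hσc, hz], fun p hp => ?_⟩
        rw [mul_smul, hσp p hp, smul_maskSet hv (hpre p hp), ← imgF_eq, ← htab, hfix p hp]
      intro t ht
      rcases List.mem_cons.1 ht with rfl | ht
      · exact hnew
      · refine stepsOK_spec hpre hG rest (z :: acc) hrest (fun w hw => ?_) t ht
        rcases List.mem_cons.1 hw with rfl | hw
        exacts [⟨hz24, hnew⟩, hacc w hw]
    · simp at hstep

theorem tabEq_iff {S T : Tab} (h : tabEq S T = true) : S = T := by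
  simp only [tabEq, Bool.and_eq_true, Nat.beq_eq] at h
  obtain ⟨⟨⟨⟨⟨h0, h1⟩, h2⟩, h3⟩, h4⟩, h5⟩ := h
  cases S; cases T
  simp only at h0 h1 h2 h3 h4 h5
  simp [h0, h1, h2, h3, h4, h5]

/-- The span of the all-ones word. -/
abbrev oneSpan : Submodule (ZMod 2) (GolayPt → ZMod 2) :=
  Submodule.span (ZMod 2) {fun _ => (1 : ZMod 2)}

theorem mem_oneSpan {v : GolayPt → ZMod 2} : v ∈ oneSpan ↔ v = 0 ∨ v = fun _ => 1 := by
  rw [Submodule.mem_span_singleton]
  constructor
  · rintro ⟨a, rfl⟩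
    rcases zmod2_cases a with rfl | rfl
    · exact Or.inl (zero_smul _ _)
    · exact Or.inr (one_smul _ _)
  · rintro (rfl | rfl)
    · exact ⟨0, zero_smul _ _⟩
    · exact ⟨1, one_smul _ _⟩

theorem add_cancel_two (a b c : GolayPt → ZMod 2) : (a + b) + (b + c) = a + c := by
  rw [add_assoc, ← add_assoc b, CharTwo.add_self_eq_zero, zero_add]

theorem sub_eq_add_two (a b : GolayPt → ZMod 2) : a - b = a + b := by
  rw [sub_eq_add_neg, CharTwo.neg_eq]

theorem cls_of_rel {A : Finset GolayPt} {b : ℕ} (h : ind A + ofMask b ∈ oneSpan) :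
    symW (pcF b) = A.card * (24 - A.card) := by
  rw [pcF_eq, ← card_maskSet]
  show (maskSet b).card * (24 - (maskSet b).card) = _
  rw [ofMask_eq_ind] at h
  rcases mem_oneSpan.1 h with h | h
  · have : maskSet b = A := by
      ext p
      have := congrFun h p
      by_cases h1 : p ∈ A <;> by_cases h2 : p ∈ maskSet b <;> simp [ind, h1, h2] at this ⊢
    rw [this]
  · have : maskSet b = Finset.univ \ A := by
      ext p
      have := congrFun h p
      by_cases h1 : p ∈ A <;> by_cases h2 : p ∈ maskSet b <;> simp [ind, h1, h2] at this ⊢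
    have hle : A.card ≤ 24 := (Finset.card_le_univ A).trans (le_of_eq rfl)
    rw [this, Finset.card_sdiff_of_subset (Finset.subset_univ _),
      show (Finset.univ : Finset GolayPt).card = 24 from rfl, show 24 - (24 - A.card) = A.card from by omega,
      Nat.mul_comm]

/-- The map preserves the orbits modulo the all-ones word. -/
def OrbPres (f : ↥golayCode →ₗ[ZMod 2] (GolayPt → ZMod 2)) : Prop :=
  ∀ c : ↥golayCode, ∃ τ ∈ M24, (f c) + (fun p => (c : GolayPt → ZMod 2) (τ.symm p)) ∈ oneSpan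

/-- Composition with a permutation. -/
def actMap (k : Equiv.Perm GolayPt) (f : ↥golayCode →ₗ[ZMod 2] (GolayPt → ZMod 2)) :
    ↥golayCode →ₗ[ZMod 2] (GolayPt → ZMod 2) :=
  (LinearMap.funLeft (ZMod 2) (ZMod 2) k.symm).comp f

theorem actMap_apply (k : Equiv.Perm GolayPt) (f : ↥golayCode →ₗ[ZMod 2] (GolayPt → ZMod 2))
    (c : ↥golayCode) : actMap k f c = fun p => f c (k.symm p) := rfl

theorem oneSpan_act (k : Equiv.Perm GolayPt) {v : GolayPt → ZMod 2} (hv : v ∈ oneSpan) :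
    (fun p => v (k.symm p)) ∈ oneSpan := by
  rcases mem_oneSpan.1 hv with rfl | rfl
  · exact zero_mem _
  · exact Submodule.mem_span_singleton_self _

theorem OrbPres.act {f : ↥golayCode →ₗ[ZMod 2] (GolayPt → ZMod 2)} (hf : OrbPres f)
    {k : Equiv.Perm GolayPt} (hk : k ∈ M24) : OrbPres (actMap k f) := by
  intro c
  obtain ⟨τ, hτ, h⟩ := hf c
  refine ⟨k * τ, mul_mem hk hτ, ?_⟩
  have := oneSpan_act k h
  exact this

/-- The map fixes the words of a list modulo the all-ones word. -/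
def FixesList (f : ↥golayCode →ₗ[ZMod 2] (GolayPt → ZMod 2)) (l : List ℕ) : Prop :=
  ∀ m ∈ l, ∃ c : ↥golayCode, (c : GolayPt → ZMod 2) = ofMask m ∧ f c + ofMask m ∈ oneSpan

theorem FixesList.span {f : ↥golayCode →ₗ[ZMod 2] (GolayPt → ZMod 2)} {l : List ℕ} (h : FixesList f l) :
    FixesList f (spanList l) := by
  intro m hm
  have hM : ofMask m ∈ (oneSpan.comap (f + golayCode.subtype)).map golayCode.subtype :=
    spanList_mem_submodule l (fun b hb => by
      obtain ⟨c, hc, hc'⟩ := h b hb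
      exact ⟨c, show f c + (c : GolayPt → ZMod 2) ∈ oneSpan by rw [hc]; exact hc', hc⟩) m hm
  obtain ⟨c, hc, hc'⟩ := hM
  refine ⟨c, hc', ?_⟩
  have h' : f c + (c : GolayPt → ZMod 2) ∈ oneSpan := hc
  rwa [show (c : GolayPt → ZMod 2) = ofMask m from hc'] at h'

theorem mem_codeList_of_octLit {o : ℕ} (ho : o ∈ octLit) : o ∈ codeList :=
  (mem_octadList.1 (octadList_eq ▸ ho)).1

/-- An octad goes to an octad with the same key. -/
theorem OrbPres.image {f : ↥golayCode →ₗ[ZMod 2] (GolayPt → ZMod 2)} (hf : OrbPres f) {pre : List ℕ}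
    (hp : FixesList f pre) {o : ℕ} (ho : o ∈ octLit) :
    ∃ o' ∈ octLit, spanKey (spanList pre) o' = spanKey (spanList pre) o ∧
      ∃ c : ↥golayCode, (c : GolayPt → ZMod 2) = ofMask o ∧ f c + ofMask o' ∈ oneSpan := by
  have hmem : ofMask o ∈ golayCode := mem_golayCode.2 ⟨o, mem_codeList_of_octLit ho, rfl⟩
  set c : ↥golayCode := ⟨ofMask o, hmem⟩ with hc
  obtain ⟨τ, hτ, h⟩ := hf c
  obtain ⟨o', ho', hoe⟩ := mem_octads'.1
    (smul_mem_octads hτ (mem_octads'.2 ⟨o, ho, rfl⟩) : τ • maskSet o ∈ octads)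
  have hfo : f c + ofMask o' ∈ oneSpan := by
    rw [ofMask_eq_ind, hoe, ← ind_comp, ← ofMask_eq_ind]
    exact h
  refine ⟨o', ho', spanKey_congr fun s hs => ?_, c, rfl, hfo⟩
  obtain ⟨d, hd, hfd⟩ := hp.span s hs
  obtain ⟨ρ, hρ, hr⟩ := hf (c + d)
  have hsum : f (c + d) + ofMask (o' ^^^ s) ∈ oneSpan := by
    rw [map_add, ofMask_xor, add_add_add_comm]
    exact add_mem hfo hfd
  have hcd : ((c + d : ↥golayCode) : GolayPt → ZMod 2) = ind (maskSet (o ^^^ s)) := by
    rw [← ofMask_eq_ind, ofMask_xor, ← hd]; rfl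
  rw [hcd, ind_comp] at hr
  have hA : ind (ρ • maskSet (o ^^^ s)) + ofMask (o' ^^^ s) ∈ oneSpan := by
    have := add_mem hr hsum
    rwa [add_comm (f (c + d)) (ind _), add_cancel_two] at this
  have hO : ind (maskSet (o ^^^ s)) + ofMask (o ^^^ s) ∈ oneSpan := by
    rw [ofMask_eq_ind, CharTwo.add_self_eq_zero]; exact zero_mem _
  rw [cls_of_rel hA, cls_of_rel hO, Finset.card_smul_finset]

theorem fixes_act {f : ↥golayCode →ₗ[ZMod 2] (GolayPt → ZMod 2)} {σ : Equiv.Perm GolayPt}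
    {m m' : ℕ} (hσ : σ • maskSet m = maskSet m') {c : ↥golayCode}
    (hc : f c + ofMask m' ∈ oneSpan) : actMap σ⁻¹ f c + ofMask m ∈ oneSpan := by
  have h := oneSpan_act σ⁻¹ hc
  have hmm : (fun p => ofMask m' (σ⁻¹.symm p)) = ofMask m := by
    rw [ofMask_eq_ind, ind_comp, ← hσ, inv_smul_smul, ← ofMask_eq_ind]
  rw [← hmm]
  exact h

/-- Descend through the levels. -/
theorem rigid_descend : ∀ (L : List (ℕ × ℕ × List (Elt × Tab) × List (ℕ × ℕ × ℕ))) (pre : List ℕ)
    (f : ↥golayCode →ₗ[ZMod 2] (GolayPt → ZMod 2)), rigidAll pre L = true → (∀ p ∈ pre, p < 2 ^ 24) →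
    OrbPres f → FixesList f pre →
    ∃ k ∈ M24, OrbPres (actMap k f) ∧ FixesList (actMap k f) (rigidFinal pre L)
  | [], pre, f, _, _, hf, hp => ⟨1, one_mem _, hf, hp⟩
  | (c, key, G, S) :: rest, pre, f, hL, hlt, hf, hp => by
    simp only [rigidAll, rigidLevel, Bool.and_eq_true, allF_iff, memF_iff, Bool.or_eq_true,
      Bool.not_eq_true', anyF_iff, Nat.beq_eq] at hL
    obtain ⟨⟨⟨⟨⟨hcO, hk⟩, hG⟩, hS⟩, hcov⟩, hrest⟩ := hL
    obtain ⟨o', ho', hkey, d, hd, hfd⟩ := hf.image hp hcO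
    have hc24 := octLit_lt hcO
    have hreach := stepsOK_spec (c := c) hlt
      (fun g hg => ⟨(hG g hg).1.1, tabEq_iff (hG g hg).1.2, (hG g hg).2⟩) S [c] hS
      fun y hy => by
        rw [List.mem_singleton] at hy
        subst hy
        exact ⟨hc24, 1, one_mem _, one_smul _ _, fun p _ => one_smul _ _⟩
    obtain ⟨σ, hσ, hσc, hσp⟩ : ∃ σ ∈ M24, σ • maskSet c = maskSet o' ∧
        ∀ p ∈ pre, σ • maskSet p = maskSet p := by
      rcases hcov o' ho' with (hne | he) | ⟨t, ht, hto⟩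
      · rw [hkey, hk, Nat.beq_refl] at hne; simp at hne
      · exact ⟨1, one_mem _, by rw [one_smul, he], fun p _ => one_smul _ _⟩
      · obtain ⟨σ, h1, h2, h3⟩ := hreach t ht
        exact ⟨σ, h1, by rw [h2, hto], h3⟩
    have hp' : FixesList (actMap σ⁻¹ f) (c :: pre) := by
      intro m hm
      rcases List.mem_cons.1 hm with rfl | hm
      · exact ⟨d, hd, fixes_act hσc hfd⟩
      · obtain ⟨b, hb, hb'⟩ := hp m hm
        exact ⟨b, hb, fixes_act (hσp m hm) hb'⟩
    obtain ⟨k, hk, h1, h2⟩ := rigid_descend rest (c :: pre) (actMap σ⁻¹ f) hrest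
      (fun p hp => by rcases List.mem_cons.1 hp with rfl | hp; exacts [hc24, hlt p hp])
      (hf.act (inv_mem hσ)) hp'
    exact ⟨k * σ⁻¹, mul_mem hk (inv_mem hσ), h1, h2⟩

/-- An orbit preserving map agrees with a member of the group modulo the all-ones word. -/
theorem orbPres_agrees {f : ↥golayCode →ₗ[ZMod 2] (GolayPt → ZMod 2)} (hf : OrbPres f) :
    ∃ σ ∈ M24, ∀ c : ↥golayCode, f c + (fun p => (c : GolayPt → ZMod 2) (σ.symm p)) ∈ oneSpan := by
  have h := rigid_keys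
  simp only [Bool.and_eq_true, allF_iff, memF_iff] at h
  obtain ⟨⟨hc0, hincr⟩, hcovP⟩ := h
  have hlev := rigid_levels
  -- move the first octad
  obtain ⟨o1, ho1, -, d, hd, hfd⟩ := hf.image (pre := []) (fun m hm => nomatch hm) hc0
  obtain ⟨g, hg, hgo⟩ := exists_M24_octad (mem_octads'.2 ⟨orbFirst, hc0, rfl⟩)
    (mem_octads'.2 ⟨o1, ho1, rfl⟩)
  have hp1 : FixesList (actMap g⁻¹ f) [orbFirst] := by
    intro m hm
    rw [List.mem_singleton] at hm
    subst hm
    refine ⟨d, hd, ?_⟩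
    have h := oneSpan_act g⁻¹ hfd
    have hmm : (fun p => ofMask o1 (g⁻¹.symm p)) = ofMask orbFirst := by
      rw [ofMask_eq_ind, ind_comp, ← hgo, inv_smul_smul, ← ofMask_eq_ind]
    rw [← hmm]
    exact h
  obtain ⟨k, hk, hk1, hk2⟩ := rigid_descend orbLevels [orbFirst] (actMap g⁻¹ f) hlev
    (fun p hp => by rw [List.mem_singleton] at hp; subst hp; exact octLit_lt hc0)
    (hf.act (inv_mem hg)) hp1
  set F := actMap k (actMap g⁻¹ f) with hF
  set pre := rigidFinal [orbFirst] orbLevels with hpre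
  have hinj := incrKeys_spec _ _ hincr
  have hoct : FixesList F octLit := by
    intro o ho
    obtain ⟨o', ho', hkey, b, hb, hb'⟩ := hk1.image hk2 ho
    have heq : o' = o := by
      have hnd : (orbSorted.map (spanKey (spanList pre))).Nodup := hinj.imp fun {a b} hab => hab.ne
      exact List.inj_on_of_nodup_map hnd (hcovP o' ho') (hcovP o ho) hkey
    exact ⟨b, hb, heq ▸ hb'⟩
  have hbasis : FixesList F (gBasis.map fun v => v.2) := by
    intro m hm
    obtain ⟨v, hv, rfl⟩ := List.mem_map.1 hm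
    have h := pair_rep_ok
    simp only [Bool.and_eq_true, allF_iff, Nat.beq_eq] at h
    refine hoct v.2 ?_
    rw [← octadList_eq]
    exact mem_octadList.2 ⟨inCode_iff.1 (h.2 v hv).1, (h.2 v hv).2⟩
  refine ⟨(k * g⁻¹)⁻¹, inv_mem (mul_mem hk (inv_mem hg)), fun c => ?_⟩
  obtain ⟨m, hm, hme⟩ := mem_golayCode.1 c.2
  obtain ⟨b, hb, hb'⟩ := hbasis.span m hm
  have hbc : b = c := Subtype.ext (hb.trans hme)
  subst hbc
  rw [← hb] at hb'
  have h := oneSpan_act (k * g⁻¹)⁻¹ hb'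
  have e : (fun p => (F b + (b : GolayPt → ZMod 2)) ((k * g⁻¹)⁻¹.symm p)) =
      f b + fun p => (b : GolayPt → ZMod 2) (((k * g⁻¹)⁻¹).symm p) := by
    ext p
    simp [hF, actMap_apply, Equiv.Perm.inv_def, Equiv.Perm.mul_def]
  rwa [e] at h

end Cfsg.Agent.Golay.Local
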