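import Cfsg.Agent.Lib.Golay.Local.Orbits
import Cfsg.Agent.Lib.Golay.Local.OrbDataSext

/-! Kernel checks of orbit certificates. -/

namespace Cfsg.Agent.Golay.Local

theorem sextRef_ok : famOK sextRef = true := by decide +kernel

theorem sextGens_ok : gensOK sextGens sextTabs sextRef = true := by decide +kernel

theorem sextOct0Root_ok : famOK sextOct0Root = true := by decide +kernel

theorem sextOct0_ok : orbitOK sextTabs (octLit.map fun m => [m]) sextRef sextOct0Root 512 15 sextOct0Tree = true := by
  decide +kernel

theorem sextOct1Root_ok : famOK sextOct1Root = true := by decide +kernel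

theorem sextOct1_ok : orbitOK sextTabs (octLit.map fun m => [m]) sextRef sextOct1Root 64 360 sextOct1Tree = true := by
  decide +kernel

theorem sextOct2Root_ok : famOK sextOct2Root = true := by decide +kernel

theorem sextOct2_ok : orbitOK sextTabs (octLit.map fun m => [m]) sextRef sextOct2Root 86 384 sextOct2Tree = true := by
  decide +kernel

theorem sextOct_values : valuesOK (octLit.map fun m => [m]) sextRef [512, 64, 86] = true := by
  decide +kernel

theorem sextTri0Root_ok : famOK sextTri0Root = true := by decide +kernel

theorem sextTri0_ok : orbitOK sextTabs triList sextRef sextTri0Root 1536 15 sextTri0Tree = true := by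
  decide +kernel

theorem sextTri1Root_ok : famOK sextTri1Root = true := by decide +kernel

theorem sextTri1_ok : orbitOK sextTabs triList sextRef sextTri1Root 640 180 sextTri1Tree = true := by
  decide +kernel

theorem sextTri2Root_ok : famOK sextTri2Root = true := by decide +kernel

theorem sextTri2_ok : orbitOK sextTabs triList sextRef sextTri2Root 192 720 sextTri2Tree = true := by
  decide +kernel

theorem sextTri3Root_ok : famOK sextTri3Root = true := by decide +kernel

theorem sextTri3_ok : orbitOK sextTabs triList sextRef sextTri3Root 236 2880 sextTri3Tree = true := by
  decide +kernel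

theorem sextTri_values : valuesOK triList sextRef [1536, 640, 192, 236] = true := by
  decide +kernel

end Cfsg.Agent.Golay.Local
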