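import Cfsg.Agent.Lib.Golay.Local.Orbits
import Cfsg.Agent.Lib.Golay.Local.OrbDataTrio

/-! Kernel checks of orbit certificates. -/

namespace Cfsg.Agent.Golay.Local

theorem trioRef_ok : famOK trioRef = true := by decide +kernel

theorem trioGens_ok : gensOK trioGens trioTabs trioRef = true := by decide +kernel

theorem trioOct0Root_ok : famOK trioOct0Root = true := by decide +kernel

theorem trioOct0_ok : orbitOK trioTabs (octLit.map fun m => [m]) trioRef trioOct0Root 4096 3 trioOct0Tree = true := by
  decide +kernel

theorem trioOct1Root_ok : famOK trioOct1Root = true := by decide +kernel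

theorem trioOct1_ok : orbitOK trioTabs (octLit.map fun m => [m]) trioRef trioOct1Root 512 84 trioOct1Tree = true := by
  decide +kernel

theorem trioOct2Root_ok : famOK trioOct2Root = true := by decide +kernel

theorem trioOct2_ok : orbitOK trioTabs (octLit.map fun m => [m]) trioRef trioOct2Root 288 672 trioOct2Tree = true := by
  decide +kernel

theorem trioOct_values : valuesOK (octLit.map fun m => [m]) trioRef [4096, 512, 288] = true := by
  decide +kernel

theorem trioSex0Root_ok : famOK trioSex0Root = true := by decide +kernel

theorem trioSex0_ok : orbitOK trioTabs sexLit trioRef trioSex0Root 1536 7 trioSex0Tree = true := by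
  decide +kernel

theorem trioSex1Root_ok : famOK trioSex1Root = true := by decide +kernel

theorem trioSex1_ok : orbitOK trioTabs sexLit trioRef trioSex1Root 640 84 trioSex1Tree = true := by
  decide +kernel

theorem trioSex2Root_ok : famOK trioSex2Root = true := by decide +kernel

theorem trioSex2_ok : orbitOK trioTabs sexLit trioRef trioSex2Root 192 336 trioSex2Tree = true := by
  decide +kernel

theorem trioSex3Root_ok : famOK trioSex3Root = true := by decide +kernel

theorem trioSex3_ok : orbitOK trioTabs sexLit trioRef trioSex3Root 236 1344 trioSex3Tree = true := by
  decide +kernel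

theorem trioSex_values : valuesOK sexLit trioRef [1536, 640, 192, 236] = true := by
  decide +kernel

end Cfsg.Agent.Golay.Local
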