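import Cfsg.Agent.Lib.Golay.Local.Orbits
import Cfsg.Agent.Lib.Golay.Local.OrbDataSelf
import Cfsg.Agent.Lib.Golay.Local.OrbSext
import Cfsg.Agent.Lib.Golay.Local.OrbTrio

/-! Kernel checks of the orbit certificates. -/

namespace Cfsg.Agent.Golay.Local

theorem sextSexSelf0Root_ok : famOK sextSexSelf0Root = true := by decide +kernel

theorem sextSexSelf0_ok : orbitOK sextTabs sexLit sextRef sextSexSelf0Root 1536 1 sextSexSelf0Tree = true := by
  decide +kernel

theorem sextSexSelf1Root_ok : famOK sextSexSelf1Root = true := by decide +kernel

theorem sextSexSelf1_ok : orbitOK sextTabs sexLit sextRef sextSexSelf1Root 192 90 sextSexSelf1Tree = true := by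
  decide +kernel

theorem sextSexSelf2Root_ok : famOK sextSexSelf2Root = true := by decide +kernel

theorem sextSexSelf2_ok : orbitOK sextTabs sexLit sextRef sextSexSelf2Root 180 240 sextSexSelf2Tree = true := by
  decide +kernel

theorem sextSexSelf3Root_ok : famOK sextSexSelf3Root = true := by decide +kernel

theorem sextSexSelf3_ok : orbitOK sextTabs sexLit sextRef sextSexSelf3Root 80 1440 sextSexSelf3Tree = true := by
  decide +kernel

theorem sextSexSelf_values : valuesOK sexLit sextRef [1536, 192, 180, 80] = true := by
  decide +kernel

theorem trioTriSelf0Root_ok : famOK trioTriSelf0Root = true := by decide +kernel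

theorem trioTriSelf0_ok : orbitOK trioTabs triList trioRef trioTriSelf0Root 12288 1 trioTriSelf0Tree = true := by
  decide +kernel

theorem trioTriSelf1Root_ok : famOK trioTriSelf1Root = true := by decide +kernel

theorem trioTriSelf1_ok : orbitOK trioTabs triList trioRef trioTriSelf1Root 5120 42 trioTriSelf1Tree = true := by
  decide +kernel

theorem trioTriSelf2Root_ok : famOK trioTriSelf2Root = true := by decide +kernel

theorem trioTriSelf2_ok : orbitOK trioTabs triList trioRef trioTriSelf2Root 1536 56 trioTriSelf2Tree = true := by
  decide +kernel

theorem trioTriSelf3Root_ok : famOK trioTriSelf3Root = true := by decide +kernel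

theorem trioTriSelf3_ok : orbitOK trioTabs triList trioRef trioTriSelf3Root 1088 1008 trioTriSelf3Tree = true := by
  decide +kernel

theorem trioTriSelf4Root_ok : famOK trioTriSelf4Root = true := by decide +kernel

theorem trioTriSelf4_ok : orbitOK trioTabs triList trioRef trioTriSelf4Root 864 2688 trioTriSelf4Tree = true := by
  decide +kernel

theorem trioTriSelf_values : valuesOK triList trioRef [12288, 5120, 1536, 1088, 864] = true := by
  decide +kernel

end Cfsg.Agent.Golay.Local
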