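import Cfsg.Agent.Lib.Golay.Local.Orbits
import Cfsg.Agent.Lib.Golay.Local.OrbDataThree

/-! Kernel checks of orbit certificates. -/

namespace Cfsg.Agent.Golay.Local

theorem threeRef_ok : famOK threeRef = true := by decide +kernel

theorem threeGens_ok : gensOK threeGens threeTabs threeRef = true := by decide +kernel

theorem threeSex0Root_ok : famOK threeSex0Root = true := by decide +kernel

theorem threeSex0_ok : orbitOK threeTabs sexLit threeRef threeSex0Root 81 21 threeSex0Tree = true := by
  decide +kernel

theorem threeSex1Root_ok : famOK threeSex1Root = true := by decide +kernel

theorem threeSex1_ok : orbitOK threeTabs sexLit threeRef threeSex1Root 17 630 threeSex1Tree = true := by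
  decide +kernel

theorem threeSex2Root_ok : famOK threeSex2Root = true := by decide +kernel

theorem threeSex2_ok : orbitOK threeTabs sexLit threeRef threeSex2Root 3 1120 threeSex2Tree = true := by
  decide +kernel

theorem threeSex_values : valuesOK sexLit threeRef [81, 17, 3] = true := by
  decide +kernel

end Cfsg.Agent.Golay.Local
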