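import Cfsg.Agent.Lib.Golay.Local.M11Tables

/-! A checked element table as an indexing of a subgroup, and homomorphisms out of it. -/

namespace Cfsg.Agent.Golay.Local

open Cfsg Cfsg.Agent.PermCert
open scoped Pointwise

attribute [local irreducible] cmpF

/-- The indexing of a subgroup of known order by a checked table. -/
theorem exists_table {N : ℕ} [NeZero N] {P : Elt → Bool} {es : List Elt} {gi : List ℕ}
    {nx : List (List ℕ)} {par : List (ℕ × ℕ)} (h : tblOK N P es gi nx par = true)
    {K : Subgroup M24} (hP : ∀ e, eltOK e = true → P e = true → gOf e ∈ K) (hK : Nat.card K ≤ N) :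
    ∃ x : Fin N → K, Function.Bijective x ∧
      (∀ n : Fin N, eltOK (es.getD n (0, 0)) = true ∧ (x n : M24) = gOf (es.getD n (0, 0))) ∧ x 0 = 1 ∧
      (∀ n j, x (tnext N nx n j) = x n * x (tgen N gi j)) ∧
      ∀ n : Fin N, n ≠ 0 → fidx N (par.getD n (0, 0)).1 < n ∧
        tnext N nx (fidx N (par.getD n (0, 0)).1) (fidx 2 (par.getD n (0, 0)).2) = n := by
  simp only [tblOK, Bool.and_eq_true, Nat.beq_eq, List.all_eq_true, List.mem_finRange, forall_true_left] at h
  obtain ⟨⟨⟨⟨⟨hlen, hall⟩, hdist⟩, h0⟩, hstep⟩, hpar⟩ := h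
  have hmem : ∀ n : Fin N, es.getD n (0, 0) ∈ es := fun n => by
    rw [List.getD_eq_getElem _ _ (by omega)]; exact List.getElem_mem _
  let x : Fin N → K := fun n => ⟨gOf (es.getD n (0, 0)), hP _ (hall _ (hmem n)).1 (hall _ (hmem n)).2⟩
  have hc : ∀ n : Fin N, Code (es.getD n (0, 0)).1 ((x n : M24) : Equiv.Perm GolayPt) := fun n =>
    code_gOf (hall _ (hmem n)).1
  have hxi : Function.Injective x := by
    intro a b e
    have e' : ((x a : M24) : Equiv.Perm GolayPt) = ((x b : M24) : Equiv.Perm GolayPt) := by rw [e]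
    have key := (e' ▸ hc a).cmpF_congr (hc b) code_idC
    have hn := distinctKeys_spec _ hdist
    have ha : (a : ℕ) < (es.map fun e => cmpF e.1 idC).length := by simp only [List.length_map]; omega
    have hb : (b : ℕ) < (es.map fun e => cmpF e.1 idC).length := by simp only [List.length_map]; omega
    refine Fin.ext ((hn.getElem_inj_iff (hi := ha) (hj := hb)).mp ?_)
    rw [List.getElem_map, List.getElem_map]
    rw [List.getD_eq_getElem _ _ (by omega : (a : ℕ) < es.length),
      List.getD_eq_getElem _ _ (by omega : (b : ℕ) < es.length)] at key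
    exact key
  refine ⟨x, hxi.bijective_of_nat_card_le (by rwa [Nat.card_fin]),
    fun n => ⟨(hall _ (hmem n)).1, rfl⟩, Subtype.ext (Subtype.ext ((sameF_iff (hc 0) code_idC).1 h0)),
    fun n j => Subtype.ext (Subtype.ext ((sameF_iff (hc _) ((hc n).cmp (hc _))).1 (hstep n j))), fun n hn => ?_⟩
  have := hpar n
  simp only [Bool.or_eq_true, Nat.beq_eq, Bool.and_eq_true, Nat.blt_eq] at this
  rcases this with h | ⟨⟨h1, -⟩, h3⟩
  · exact absurd (Fin.ext (by simpa using h)) hn
  · refine ⟨?_, Fin.ext h3⟩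
    rw [Fin.lt_def, show ((fidx N (par.getD n (0, 0)).1 : Fin N) : ℕ) = _ % N from rfl,
      Nat.mod_eq_of_lt (h1.trans n.2)]
    exact h1

/-- A map on a table compatible with right multiplication by the generators is a homomorphism. -/
theorem exists_hom_of_table {G H : Type*} [Group G] [Group H] {N k : ℕ}
    (x : Fin N → G) (y : Fin N → H) (z : Fin N) (gi : Fin k → Fin N) (next : Fin N → Fin k → Fin N)
    (par : Fin N → Fin N × Fin k)
    (hx : Function.Bijective x) (hx1 : x z = 1) (hy1 : y z = 1)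
    (hxs : ∀ n j, x (next n j) = x n * x (gi j)) (hys : ∀ n j, y (next n j) = y n * y (gi j))
    (hpar : ∀ n, n ≠ z → (par n).1 < n ∧ next (par n).1 (par n).2 = n) :
    ∃ φ : G →* H, ∀ n, φ (x n) = y n := by
  have key : ∀ m n : Fin N, ∃ l, x l = x n * x m ∧ y l = y n * y m := by
    intro m
    induction m using WellFoundedLT.induction with
    | _ m ih =>
      intro n
      by_cases hm : m = z
      · exact ⟨n, by rw [hm, hx1, mul_one], by rw [hm, hy1, mul_one]⟩
      · obtain ⟨hlt, he⟩ := hpar m hm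
        obtain ⟨l, lx, ly⟩ := ih (par m).1 hlt n
        refine ⟨next l (par m).2, ?_, ?_⟩
        · rw [hxs, lx, mul_assoc, ← hxs, he]
        · rw [hys, ly, mul_assoc, ← hys, he]
  let ex := Equiv.ofBijective x hx
  have hs : ∀ n, ex.symm (x n) = n := fun n => ex.symm_apply_apply n
  refine ⟨MonoidHom.mk' (fun g => y (ex.symm g)) fun a b => ?_, fun n => congrArg y (hs n)⟩
  obtain ⟨n, rfl⟩ := hx.2 a
  obtain ⟨m, rfl⟩ := hx.2 b
  obtain ⟨l, lx, ly⟩ := key m n
  rw [← lx, hs, hs, hs, ly]

end Cfsg.Agent.Golay.Local
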