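import Cfsg.Agent.Lib.Golay.Local.PSL11A5Checks
import Cfsg.Agent.Lib.Golay.Local.TableHom
import Cfsg.Agent.Lib.Golay.Local.M11Subgroups
import Mathlib.GroupTheory.SpecificGroups.Alternating.Simple
import Mathlib.GroupTheory.Sylow

/-! The subgroups isomorphic to the alternating group of degree five in the group of order 660. -/

namespace Cfsg.Agent.Golay.Local

open Cfsg Cfsg.Agent.PermCert
open scoped Pointwise

attribute [local irreducible] k660Elts k660Gen k660Next k660Par a5Inv a5Three a5xElts a5xGen a5xNext a5xPar a5xImgs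
  a5yElts a5yGen a5yNext a5yPar a5yImgs a5XMask a5YMask a5X a5Y cmpF fixF maskSet

/-- The two-point stabiliser of order 660. -/
abbrev stdQ : Subgroup M24 := stdA ⊓ MulAction.stabilizer M24 dq0

theorem gOf_mem_stdQ {e : Elt} (he : eltOK e = true) (h : inQ e = true) : gOf e ∈ stdQ := by
  simp only [inQ, Bool.and_eq_true, Nat.beq_eq] at h
  exact ⟨gOf_mem_stdA he h.1, gOf_apply he (i := 5) (j := 5) h.2⟩

/-- A point of the twenty-two. -/
def IsA5Pt (r : Fin 24) : Prop := (r : ℕ) ∈ a5Pts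

/-- The stabiliser of one more point. -/
def stabR (r : Fin 24) : Subgroup stdQ := (MulAction.stabilizer M24 (pt r)).subgroupOf stdQ

theorem exists_code (g : stdQ) : ∃ e ∈ k660Elts, eltOK e = true ∧ (g : M24) = gOf e ∧
    Code e.1 ((g : M24) : Equiv.Perm GolayPt) := by
  obtain ⟨x, hx, hxe, -⟩ := exists_table psl_table (K := stdQ) (fun e => gOf_mem_stdQ) card_stab_q.le
  obtain ⟨n, rfl⟩ := hx.2 g
  have hlen : k660Elts.length = 660 := by
    have h := psl_table
    simp only [tblOK, Bool.and_eq_true, Nat.beq_eq] at h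
    exact h.1.1.1.1.1
  refine ⟨_, ?_, (hxe n).1, (hxe n).2, (hxe n).2 ▸ code_gOf (hxe n).1⟩
  rw [List.getD_eq_getElem _ _ (by omega)]; exact List.getElem_mem _

theorem mem_stdQ_of_mem {e : Elt} (he : e ∈ k660Elts) : eltOK e = true ∧ gOf e ∈ stdQ := by
  have h := psl_table
  simp only [tblOK, Bool.and_eq_true, List.all_eq_true] at h
  obtain ⟨a, b⟩ := h.1.1.1.1.2 e he
  exact ⟨a, gOf_mem_stdQ a b⟩

theorem a5Pts_lt {r : ℕ} (hr : r ∈ a5Pts) : r < 24 := List.mem_range.1 (List.mem_filter.1 hr).1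

theorem fixed_point_iff {e : Elt} (he : eltOK e = true) (r : Fin 24) :
    gOf e • pt r = pt r ↔ g5 e.1 r = r := by
  have hc := code_gOf he (pt r)
  rw [idx_pt] at hc
  rw [g5_eq, hc]
  refine ⟨fun h => ?_, fun h => idx_injective (h.trans (idx_pt r).symm)⟩
  have h' : (gOf e : Equiv.Perm GolayPt) (pt r) = pt r := h
  rw [h', idx_pt]

theorem stabR_injective {r r' : Fin 24} (hr : IsA5Pt r) (hr' : IsA5Pt r') (h : stabR r = stabR r') : r = r' := by
  have hf := a5_checks.1
  simp only [a5FixOK, List.all_eq_true, Nat.beq_eq] at hf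
  have key := congrArg (fun m : ℕ => m.testBit r') (hf r hr)
  have hall : ∀ l : List Elt, (∀ e ∈ l, e ∈ k660Elts) →
      (l.foldr (fun e m => bif Nat.beq (g5 e.1 r) r then Nat.land (fixF e.1) m else m) (2 ^ 24 - 1)).testBit r' = true := by
    intro l
    induction l with
    | nil => intro _; rw [List.foldr_nil, Nat.testBit_two_pow_sub_one]; simp [r'.2]
    | cons e l ih =>
      intro hl
      have hl' := ih fun x hx => hl x (List.mem_cons_of_mem _ hx)
      rw [List.foldr_cons]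
      cases hb : Nat.beq (g5 e.1 r) r
      · exact hl'
      · rw [cond_true]
        show (fixF e.1 &&& _).testBit r' = true
        rw [Nat.testBit_and, hl', Bool.and_true]
        obtain ⟨hok, hm⟩ := mem_stdQ_of_mem (hl e List.mem_cons_self)
        have h1 : (⟨gOf e, hm⟩ : stdQ) ∈ stabR r := (fixed_point_iff hok r).2 (Nat.beq_eq.mp hb)
        rw [h] at h1
        have h2 := (fixed_point_iff hok r').1 h1
        rw [fixF_eq, testBit_mkMask]
        simp [r'.2, h2]
  rw [hall _ fun _ => id] at key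
  have hb : ((2 : ℕ) ^ 0 + 2 ^ 5 + 2 ^ (r : ℕ)).testBit r' = true := key.symm
  have ne0 : ∀ v ∈ a5Pts, v ≠ 0 ∧ v ≠ 5 := by decide +kernel
  have : ∀ a b : Fin 24, (2 ^ 0 + 2 ^ 5 + 2 ^ (a : ℕ)).testBit b = true → (a : ℕ) ≠ 0 ∧ (a : ℕ) ≠ 5 →
      (b : ℕ) ≠ 0 ∧ (b : ℕ) ≠ 5 → a = b := by decide +kernel
  exact this r r' hb (ne0 _ hr) (ne0 _ hr')

theorem orbit_facts {g : stdQ} : (g : M24) • maskSet a5XMask = maskSet a5XMask ∧
    (g : M24) • maskSet a5YMask = maskSet a5YMask := by
  obtain ⟨e, he, hok, hg, -⟩ := exists_code g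
  have h := a5_checks.2.1
  simp only [a5OrbOK, Bool.and_eq_true, List.all_eq_true, Nat.beq_eq] at h
  rw [hg, gOf_smul_maskSet hok, gOf_smul_maskSet hok, (h.1 e he).1, (h.1 e he).2]
  exact ⟨rfl, rfl⟩

theorem orbit_masks : a5X < 24 ∧ a5Y < 24 ∧ a5XMask.testBit a5X = true ∧ a5YMask.testBit a5Y = true ∧
    a5YMask.testBit a5X = false ∧ a5XMask.testBit a5Y = false ∧ a5X ∈ a5Pts ∧ a5Y ∈ a5Pts ∧
    popCount a5XMask 24 = 11 ∧ popCount a5YMask 24 = 11 := by decide +kernel

/-- A representative of the orbit of a point. -/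
def a5Rep (r : Fin 24) : Fin 24 := bif a5XMask.testBit r then Fin.ofNat 24 a5X else Fin.ofNat 24 a5Y

theorem exists_move {r : Fin 24} (hr : IsA5Pt r) : ∃ g : stdQ, (g : M24) • pt (a5Rep r) = pt r := by
  have h := a5_checks.2.1
  simp only [a5OrbOK, Bool.and_eq_true, List.all_eq_true, List.any_eq_true, Nat.beq_eq] at h
  obtain ⟨e, he, h'⟩ := h.2 r hr
  obtain ⟨hok, hm⟩ := mem_stdQ_of_mem he
  refine ⟨⟨gOf e, hm⟩, gOf_apply hok ?_⟩
  rw [← g5_eq]
  refine Eq.trans ?_ h'
  obtain ⟨h1, h2, -⟩ := orbit_masks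
  unfold a5Rep
  cases a5XMask.testBit (r : ℕ) <;> simp [Nat.mod_eq_of_lt, h1, h2]

theorem conj_stabR (g : stdQ) {r s : Fin 24} (h : (g : M24) • pt r = pt s) :
    MulAut.conj g • stabR r = stabR s := by
  ext a
  rw [Subgroup.mem_pointwise_smul_iff_inv_smul_mem]
  simp only [MulAut.smul_def, MulAut.inv_def, MulAut.conj_symm_apply]
  show ((g⁻¹ * a * g : stdQ) : M24) • pt r = pt r ↔ (a : M24) • pt s = pt s
  push_cast
  rw [mul_smul, mul_smul, h, inv_smul_eq_iff, h]

theorem orbit_eq {r : Fin 24} (m : ℕ) (hm : a5XMask = m ∨ a5YMask = m) (hr : m.testBit r = true) (hp : IsA5Pt r) :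
    MulAction.orbit stdQ (pt r) = (maskSet m : Set GolayPt) := by
  obtain ⟨h1, h2, hx, hy, hyx, hxy, -⟩ := orbit_masks
  ext q
  constructor
  · rintro ⟨g, rfl⟩
    have hg : (g : M24) • maskSet m = maskSet m := by rcases hm with rfl | rfl <;> simp [orbit_facts]
    show (g : M24) • pt r ∈ maskSet m
    rw [← hg]
    exact Finset.smul_mem_smul_finset (mem_maskSet.2 (by rw [idx_pt]; exact hr))
  · intro hq
    rw [Finset.mem_coe, mem_maskSet] at hq
    have hin : IsA5Pt ⟨idx q, idx_lt q⟩ := by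
      refine List.mem_filter.2 ⟨List.mem_range.2 (idx_lt q), ?_⟩
      rcases hm with rfl | rfl <;> simp [hq]
    have disj : ∀ v : Fin 24, a5XMask.testBit v = true → a5YMask.testBit v = false := by decide +kernel
    have e : a5Rep r = a5Rep ⟨idx q, idx_lt q⟩ := by
      unfold a5Rep
      rcases hm with rfl | rfl
      · rw [hr, show a5XMask.testBit ((⟨idx q, idx_lt q⟩ : Fin 24) : ℕ) = true from hq]
      · have a : a5XMask.testBit (r : ℕ) = false := by
          cases hc : a5XMask.testBit (r : ℕ)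
          · rfl
          · rw [disj r hc] at hr; exact Bool.noConfusion hr
        have b : a5XMask.testBit ((⟨idx q, idx_lt q⟩ : Fin 24) : ℕ) = false := by
          cases hc : a5XMask.testBit ((⟨idx q, idx_lt q⟩ : Fin 24) : ℕ)
          · rfl
          · have := disj ⟨idx q, idx_lt q⟩ hc
            rw [show a5YMask.testBit ((⟨idx q, idx_lt q⟩ : Fin 24) : ℕ) = true from hq] at this
            exact Bool.noConfusion this
        rw [a, b]
    obtain ⟨g, hg⟩ := exists_move hp
    obtain ⟨k, hk⟩ := exists_move hin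
    rw [pt_idx, ← e] at hk
    refine ⟨k * g⁻¹, ?_⟩
    show ((k : M24) * (g : M24)⁻¹) • pt r = q
    rw [mul_smul, ← hg, inv_smul_smul, hk]

theorem nonempty_a5_of_table {r : Fin 24} {es : List Elt} {gi : List ℕ} {nx : List (List ℕ)}
    {par : List (ℕ × ℕ)} {imgs : List (List ℕ)} (ht : tblOK 60 (inR r) es gi nx par = true)
    (hi : a5ImgOK imgs gi nx = true) {m : ℕ} (hm : a5XMask = m ∨ a5YMask = m) (hr : m.testBit r = true)
    (hp : IsA5Pt r) : Nonempty (stabR r ≃* alternatingGroup (Fin 5)) := by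
  have hcard : Nat.card ↥(stdQ ⊓ MulAction.stabilizer M24 (pt r)) = 60 := by
    refine card_inf_stabilizer (N := 11) ?_ (by rw [card_stab_q]) (by norm_num)
    rw [orbit_eq m hm hr hp, Set.ncard_coe_finset, card_maskSet]
    obtain ⟨-, -, -, -, -, -, -, -, hX, hY⟩ := orbit_masks
    rcases hm with rfl | rfl <;> assumption
  simp only [a5ImgOK, Bool.and_eq_true, Nat.beq_eq, List.all_eq_true, List.mem_finRange, forall_true_left,
    decide_eq_true_eq] at hi
  obtain ⟨⟨⟨⟨hlen, hall⟩, h0⟩, hdist⟩, hstep⟩ := hi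
  have hmem : ∀ n : Fin 60, imgs.getD n [] ∈ imgs := fun n => by
    rw [List.getD_eq_getElem _ _ (by omega)]; exact List.getElem_mem _
  have hp5 : ∀ (n : Fin 60) (i : Fin 5), perm5 (imgs.getD n []) i = fun5 (imgs.getD n []) i := fun n =>
    (hall _ (hmem n)).1
  let y : Fin 60 → alternatingGroup (Fin 5) := fun n =>
    ⟨perm5 (imgs.getD n []), Equiv.Perm.mem_alternatingGroup.2 (hall _ (hmem n)).2⟩
  obtain ⟨E⟩ := nonempty_mulEquiv_of_tblOK ht (K := stdQ ⊓ MulAction.stabilizer M24 (pt r)) (fun e he h => by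
      simp only [inR, Bool.and_eq_true, Nat.beq_eq] at h
      exact ⟨⟨gOf_mem_stdA he h.1.1, gOf_apply he (i := 5) (j := 5) h.1.2⟩, gOf_apply he h.2⟩)
    hcard.le y (Subtype.ext (Equiv.ext fun i => (hp5 0 i).trans (h0 i)))
    (fun a b e => by
      have hn := distinctKeys_spec _ hdist
      have ha' : (a : ℕ) < (imgs.map fun l => keyL 5 ((List.finRange 4).map fun i => (fun5 l i.castSucc : ℕ))).length := by
        simp only [List.length_map]; omega
      have hb' : (b : ℕ) < (imgs.map fun l => keyL 5 ((List.finRange 4).map fun i => (fun5 l i.castSucc : ℕ))).length := by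
        simp only [List.length_map]; omega
      refine Fin.ext ((hn.getElem_inj_iff (hi := ha') (hj := hb')).mp ?_)
      rw [List.getElem_map, List.getElem_map]
      have e' : fun5 (imgs.getD a []) = fun5 (imgs.getD b []) := funext fun i => by
        rw [← hp5, ← hp5]
        exact congrArg (fun z : alternatingGroup (Fin 5) => (z : Equiv.Perm (Fin 5)) i) e
      rw [List.getD_eq_getElem _ _ (by omega : (a : ℕ) < imgs.length),
        List.getD_eq_getElem _ _ (by omega : (b : ℕ) < imgs.length)] at e'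
      rw [e'])
    (by rw [nat_card_alternatingGroup, Nat.card_fin]; rfl)
    (fun n j => Subtype.ext (Equiv.ext fun i => by
      show perm5 _ i = perm5 _ (perm5 _ i)
      rw [hp5, hp5, hp5]; exact hstep n j i))
  exact ⟨({ toFun := fun g => (⟨g.1.1, g.1.2, g.2⟩ : ↥(stdQ ⊓ MulAction.stabilizer M24 (pt r)))
            invFun := fun g => ⟨⟨g.1, g.2.1⟩, g.2.2⟩
            left_inv := fun _ => rfl
            right_inv := fun _ => rfl
            map_mul' := fun _ _ => rfl } : stabR r ≃* ↥(stdQ ⊓ MulAction.stabilizer M24 (pt r))).trans E⟩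

theorem nonempty_stabR {r : Fin 24} (hr : IsA5Pt r) : Nonempty (stabR r ≃* alternatingGroup (Fin 5)) := by
  obtain ⟨hx, hy, hxm, hym, -, -, hxp, hyp, -⟩ := orbit_masks
  obtain ⟨tx, ty, ix, iy⟩ := a5_tables
  have ex : ((Fin.ofNat 24 a5X : Fin 24) : ℕ) = a5X := Nat.mod_eq_of_lt hx
  have ey : ((Fin.ofNat 24 a5Y : Fin 24) : ℕ) = a5Y := Nat.mod_eq_of_lt hy
  have key : Nonempty (stabR (a5Rep r) ≃* alternatingGroup (Fin 5)) := by
    unfold a5Rep
    cases a5XMask.testBit (r : ℕ)
    · exact nonempty_a5_of_table (r := Fin.ofNat 24 a5Y) (by rw [ey]; exact ty) iy (Or.inr rfl)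
        (by rw [ey]; exact hym) (by unfold IsA5Pt; rw [ey]; exact hyp)
    · exact nonempty_a5_of_table (r := Fin.ofNat 24 a5X) (by rw [ex]; exact tx) ix (Or.inl rfl)
        (by rw [ex]; exact hxm) (by unfold IsA5Pt; rw [ex]; exact hxp)
  obtain ⟨E⟩ := key
  obtain ⟨g, hg⟩ := exists_move hr
  exact ⟨((MulEquiv.subgroupCongr (conj_stabR g hg).symm).trans
    (Subgroup.equivSMul (MulAut.conj g) (stabR (a5Rep r))).symm).trans E⟩

theorem a5_generators : ∃ a b : alternatingGroup (Fin 5), a ≠ 1 ∧ a * a = 1 ∧ b ≠ 1 ∧ b * (b * b) = 1 ∧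
    (a * b) ^ 5 = 1 ∧ Subgroup.closure ({a, b} : Set (alternatingGroup (Fin 5))) = ⊤ := by
  let a : alternatingGroup (Fin 5) := ⟨Equiv.swap 0 1 * Equiv.swap 2 3, Equiv.Perm.mem_alternatingGroup.2 (by decide +kernel)⟩
  let b : alternatingGroup (Fin 5) := ⟨Equiv.swap 0 2 * Equiv.swap 2 4, Equiv.Perm.mem_alternatingGroup.2 (by decide +kernel)⟩
  have ha1 : a ≠ 1 := by decide +kernel
  have ha2 : a * a = 1 := by decide +kernel
  have hb1 : b ≠ 1 := by decide +kernel
  have hb3 : b * (b * b) = 1 := by decide +kernel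
  have hab : (a * b) ^ 5 = 1 := by decide +kernel
  have hab1 : a * b ≠ 1 := by decide +kernel
  refine ⟨a, b, ha1, ha2, hb1, hb3, hab, ?_⟩
  haveI : IsSimpleGroup (alternatingGroup (Fin 5)) := alternatingGroup.isSimpleGroup (by simp)
  haveI : Fact (Nat.Prime 2) := ⟨Nat.prime_two⟩
  haveI : Fact (Nat.Prime 3) := ⟨Nat.prime_three⟩
  haveI : Fact (Nat.Prime 5) := ⟨by norm_num⟩
  set H := Subgroup.closure ({a, b} : Set (alternatingGroup (Fin 5)))
  have ha : a ∈ H := Subgroup.subset_closure (by simp)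
  have hb : b ∈ H := Subgroup.subset_closure (by simp)
  have o2 : orderOf a = 2 := orderOf_eq_prime (by rw [sq]; exact ha2) ha1
  have o3 : orderOf b = 3 := orderOf_eq_prime (by rw [pow_succ', pow_two]; exact hb3) hb1
  have o5 : orderOf (a * b) = 5 := orderOf_eq_prime hab hab1
  have d2 := Subgroup.orderOf_dvd_natCard H ha
  have d3 := Subgroup.orderOf_dvd_natCard H hb
  have d5 := Subgroup.orderOf_dvd_natCard H (H.mul_mem ha hb)
  rw [o2] at d2
  rw [o3] at d3
  rw [o5] at d5
  have hc := H.card_mul_index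
  rw [nat_card_alternatingGroup, Nat.card_fin, show Nat.factorial 5 / 2 = 60 from rfl] at hc
  have d6 := Nat.Coprime.mul_dvd_of_dvd_of_dvd (by norm_num : Nat.Coprime 2 3) d2 d3
  have d30 := Nat.Coprime.mul_dvd_of_dvd_of_dvd (by norm_num : Nat.Coprime (2 * 3) 5) d6 d5
  obtain ⟨m, hm⟩ := d30
  rw [hm] at hc
  have hidx : H.index = 1 ∨ H.index = 2 := by
    have : H.index ∣ 2 := ⟨m, by nlinarith⟩
    exact (Nat.dvd_prime Nat.prime_two).1 this
  rcases hidx with h | h
  · exact Subgroup.index_eq_one.1 h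
  · rcases (Subgroup.normal_of_index_eq_two h).eq_bot_or_eq_top with e | e
    · rw [e, Subgroup.card_bot] at hm
      omega
    · exact e

theorem exists_stabR_of_a5 {H : Subgroup stdQ} (hH : Nonempty (H ≃* alternatingGroup (Fin 5))) :
    ∃ r, IsA5Pt r ∧ H = stabR r := by
  obtain ⟨E⟩ := hH
  obtain ⟨a, b, ha1, ha2, hb1, hb3, hab, htop⟩ := a5_generators
  let φ : alternatingGroup (Fin 5) →* stdQ := H.subtype.comp E.symm.toMonoidHom
  have hφ : Function.Injective φ := H.subtype_injective.comp E.symm.injective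
  obtain ⟨ea, hea, -, -, ca⟩ := exists_code (φ a)
  obtain ⟨eb, heb, -, -, cb⟩ := exists_code (φ b)
  have hl := a5_checks.2.2.1
  simp only [a5ListOK, Bool.and_eq_true, List.all_eq_true, Bool.or_eq_true, Bool.not_eq_true', List.any_eq_true] at hl
  have val : ∀ g h : stdQ, ((g : M24) : Equiv.Perm GolayPt) = ((h : M24) : Equiv.Perm GolayPt) → g = h :=
    fun g h e => Subtype.ext (Subtype.ext e)
  obtain ⟨fa, hfa, sa⟩ : ∃ f ∈ a5Inv, sameF ea.1 f = true := by
    rcases (hl ea hea).1 with (h | h) | h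
    · exact absurd (hφ ((val _ 1 ((sameF_iff ca code_idC).1 h)).trans φ.map_one.symm)) ha1
    · have h2 : φ a * φ a = 1 := by rw [← map_mul, ha2, map_one]
      rw [(sameF_iff (ca.cmp ca) code_idC).2 (congrArg (fun g : stdQ => ((g : M24) : Equiv.Perm GolayPt)) h2)] at h
      exact Bool.noConfusion h
    · exact h
  obtain ⟨fb, hfb, sb⟩ : ∃ f ∈ a5Three, sameF eb.1 f = true := by
    rcases (hl eb heb).2 with (h | h) | h
    · exact absurd (hφ ((val _ 1 ((sameF_iff cb code_idC).1 h)).trans φ.map_one.symm)) hb1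
    · have h2 : φ b * (φ b * φ b) = 1 := by rw [← map_mul, ← map_mul, hb3, map_one]
      rw [(sameF_iff (cb.cmp (cb.cmp cb)) code_idC).2 (congrArg (fun g : stdQ => ((g : M24) : Equiv.Perm GolayPt)) h2)] at h
      exact Bool.noConfusion h
    · exact h
  have same : ∀ {e f : ℕ} {σ : Equiv.Perm GolayPt}, Code e σ → sameF e f = true → ∀ i, i < 24 → g5 e i = g5 f i := by
    intro e f σ _ h i hi
    rw [sameF, Nat.beq_eq, cmpF_eq, cmpF_eq] at h
    have := congrArg (fun z => get 5 z i) h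
    simp only [get_comp _ _ _ _ _ hi] at this
    rw [idC_eq, get_idCode 5 24 _ (by norm_num) hi] at this
    simpa [g5_eq] using this
  have mk : ∀ {e f : ℕ} {σ : Equiv.Perm GolayPt}, Code e σ → sameF e f = true → Code f σ := by
    intro e f σ hc h p
    rw [← g5_eq, ← same hc h _ (idx_lt p), g5_eq, hc p]
  have ca' := mk ca sa
  have cb' := mk cb sb
  have cab := ca'.cmp cb'
  have h5 : sameF (pow5F (cmpF fa fb)) idC = true := by
    unfold pow5F
    refine (sameF_iff (cab.cmp ((cab.cmp cab).cmp (cab.cmp cab))) code_idC).2 ?_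
    have h : (φ a * φ b) * ((φ a * φ b) * (φ a * φ b) * ((φ a * φ b) * (φ a * φ b))) = 1 := by
      rw [← map_one φ, ← hab, map_pow, map_mul]; simp only [pow_succ, pow_zero, one_mul, mul_assoc]
    exact congrArg (fun g : stdQ => ((g : M24) : Equiv.Perm GolayPt)) h
  have hp := a5_checks.2.2.2
  simp only [a5PairOK, List.all_eq_true, Bool.or_eq_true, Bool.not_eq_true'] at hp
  rcases hp fa hfa fb hfb with h | h
  · rw [h5] at h; exact Bool.noConfusion h
  · have hne : (fixF fa &&& fixF fb &&& (a5XMask ||| a5YMask)) ≠ 0 := fun e => by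
      have e' : Nat.land (Nat.land (fixF fa) (fixF fb)) (Nat.lor a5XMask a5YMask) = 0 := e
      rw [e', Nat.beq_refl] at h
      exact Bool.noConfusion h
    obtain ⟨i, hi⟩ := Nat.exists_testBit_of_ne_zero hne
    simp only [Nat.testBit_and, Nat.testBit_or, Bool.and_eq_true, Bool.or_eq_true] at hi
    have hi24 : i < 24 := by
      have := hi.1.1
      rw [fixF_eq, testBit_mkMask] at this
      simp only [Bool.and_eq_true, decide_eq_true_eq] at this
      exact this.1
    have hr : IsA5Pt ⟨i, hi24⟩ :=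
      List.mem_filter.2 ⟨List.mem_range.2 hi24, by simpa [Bool.or_eq_true] using hi.2⟩
    refine ⟨⟨i, hi24⟩, hr, ?_⟩
    have fx : ∀ {f : ℕ} {g : stdQ}, Code f ((g : M24) : Equiv.Perm GolayPt) → (fixF f).testBit i = true →
        g ∈ stabR ⟨i, hi24⟩ := by
      intro f g hc hb
      refine idx_injective ?_
      show idx (((g : M24) : Equiv.Perm GolayPt) (pt ⟨i, hi24⟩)) = idx (pt ⟨i, hi24⟩)
      rw [← hc, idx_pt, ← g5_eq]
      rw [fixF_eq, testBit_mkMask] at hb
      simp only [Bool.and_eq_true, Nat.beq_eq] at hb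
      exact hb.2
    have hle : H ≤ stabR ⟨i, hi24⟩ := by
      have h1 : φ.range ≤ stabR ⟨i, hi24⟩ := by
        rw [MonoidHom.range_eq_map, ← htop, MonoidHom.map_closure, Subgroup.closure_le]
        rintro _ ⟨z, hz, rfl⟩
        rcases hz with rfl | hz
        · exact fx ca' hi.1.1
        · rw [Set.mem_singleton_iff] at hz; subst hz
          exact fx cb' hi.1.2
      intro h hh
      exact h1 ⟨E ⟨h, hh⟩, by simp [φ]⟩
    obtain ⟨E'⟩ := nonempty_stabR hr
    exact Subgroup.eq_of_le_of_card_ge hle (by rw [Nat.card_congr E.toEquiv, Nat.card_congr E'.toEquiv])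

theorem a5_count : Nat.card {H : Subgroup stdQ // Nonempty (H ≃* alternatingGroup (Fin 5))} = 22 := by
  let f : {r : Fin 24 // IsA5Pt r} → {H : Subgroup stdQ // Nonempty (H ≃* alternatingGroup (Fin 5))} :=
    fun r => ⟨stabR r, nonempty_stabR r.2⟩
  have hf : Function.Bijective f := by
    refine ⟨fun r s e => Subtype.ext (stabR_injective r.2 s.2 (congrArg Subtype.val e)), fun ⟨H, hH⟩ => ?_⟩
    obtain ⟨r, hr, rfl⟩ := exists_stabR_of_a5 hH
    exact ⟨⟨r, hr⟩, rfl⟩
  rw [← Nat.card_eq_of_bijective f hf]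
  classical
  rw [Nat.card_eq_fintype_card, Fintype.card_subtype]
  have : (Finset.univ.filter fun r : Fin 24 => (r : ℕ) ∈ a5Pts).card = 22 := by decide +kernel
  rw [← this]
  exact congrArg Finset.card (Finset.filter_congr fun r _ => Iff.rfl)

theorem a5_two_classes : ∃ H K : Subgroup stdQ, Nonempty (H ≃* alternatingGroup (Fin 5)) ∧
    Nonempty (K ≃* alternatingGroup (Fin 5)) ∧ (∀ g : stdQ, MulAut.conj g • H ≠ K) ∧
    ∀ L : Subgroup stdQ, Nonempty (L ≃* alternatingGroup (Fin 5)) →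
      ∃ g : stdQ, MulAut.conj g • L = H ∨ MulAut.conj g • L = K := by
  obtain ⟨hx, hy, hxm, hym, -, hxy, hxp, hyp, -⟩ := orbit_masks
  have ex : ((Fin.ofNat 24 a5X : Fin 24) : ℕ) = a5X := Nat.mod_eq_of_lt hx
  have ey : ((Fin.ofNat 24 a5Y : Fin 24) : ℕ) = a5Y := Nat.mod_eq_of_lt hy
  have hX : IsA5Pt (Fin.ofNat 24 a5X) := by unfold IsA5Pt; rw [ex]; exact hxp
  have hY : IsA5Pt (Fin.ofNat 24 a5Y) := by unfold IsA5Pt; rw [ey]; exact hyp
  refine ⟨_, _, nonempty_stabR hX, nonempty_stabR hY, fun g hg => ?_, fun L hL => ?_⟩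
  · obtain ⟨s, hs⟩ : ∃ s : Fin 24, (g : M24) • pt (Fin.ofNat 24 a5X) = pt s :=
      ⟨⟨idx ((g : M24) • pt (Fin.ofNat 24 a5X)), idx_lt _⟩, (pt_idx _).symm⟩
    have hmem : pt s ∈ maskSet a5XMask := by
      rw [← hs, ← (orbit_facts (g := g)).1]
      exact Finset.smul_mem_smul_finset (mem_maskSet.2 (by rw [idx_pt, ex]; exact hxm))
    rw [mem_maskSet, idx_pt] at hmem
    have hsp : IsA5Pt s := List.mem_filter.2 ⟨List.mem_range.2 s.2, by simp [hmem]⟩
    have := stabR_injective hsp hY ((conj_stabR g hs).symm.trans hg)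
    rw [this, ey, hxy] at hmem
    exact Bool.noConfusion hmem
  · obtain ⟨r, hr, rfl⟩ := exists_stabR_of_a5 hL
    obtain ⟨g, hg⟩ := exists_move hr
    have hg' : ((g⁻¹ : stdQ) : M24) • pt r = pt (a5Rep r) := by
      show (g : M24)⁻¹ • pt r = _
      rw [← hg, inv_smul_smul]
    refine ⟨g⁻¹, ?_⟩
    rw [conj_stabR g⁻¹ hg']
    unfold a5Rep
    cases a5XMask.testBit (r : ℕ)
    · exact Or.inr rfl
    · exact Or.inl rfl

end Cfsg.Agent.Golay.Local
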