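import Cfsg.Agent.Lib.Golay.Local.M11TableChecks
import Cfsg.Agent.Lib.Golay.Local.PSL11A5Data
import Mathlib.GroupTheory.Perm.Sign

/-! Kernel checks for the subgroups of order sixty of the two-point stabiliser of order 660. -/

namespace Cfsg.Agent.Golay.Local

open Cfsg Cfsg.Agent.PermCert

/-- The twenty-two other points. -/
def a5Pts : List ℕ := (List.range 24).filter fun r => a5XMask.testBit r || a5YMask.testBit r

/-- The stabiliser of a point fixes only the three obvious points. -/
def a5FixOK : Bool :=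
  a5Pts.all fun r => Nat.beq
    (k660Elts.foldr (fun e m => bif Nat.beq (g5 e.1 r) r then Nat.land (fixF e.1) m else m) (2 ^ 24 - 1))
    (2 ^ 0 + 2 ^ 5 + 2 ^ r)

/-- The two orbits. -/
def a5OrbOK : Bool :=
  k660Elts.all (fun e => Nat.beq (imgMask e a5XMask) a5XMask && Nat.beq (imgMask e a5YMask) a5YMask) &&
    a5Pts.all (fun r => k660Elts.any fun e =>
      Nat.beq (g5 e.1 (bif a5XMask.testBit r then a5X else a5Y)) r)

/-- The lists of involutions and of elements of order three are complete. -/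
def a5ListOK : Bool :=
  k660Elts.all fun e =>
    (sameF e.1 idC || !(sameF (cmpF e.1 e.1) idC) || a5Inv.any (fun a => sameF e.1 a)) &&
      (sameF e.1 idC || !(sameF (cmpF e.1 (cmpF e.1 e.1)) idC) || a5Three.any (fun a => sameF e.1 a))

/-- The fifth power of a code. -/
def pow5F (c : ℕ) : ℕ :=
  let d := cmpF c c
  cmpF c (cmpF d d)

/-- A pair generating a group of order sixty fixes one of the points. -/
def a5PairOK : Bool :=
  a5Inv.all fun a => a5Three.all fun b =>
    !(sameF (pow5F (cmpF a b)) idC) ||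
      !(Nat.beq (Nat.land (Nat.land (fixF a) (fixF b)) (Nat.lor a5XMask a5YMask)) 0)

/-- Membership in the stabiliser of a point. -/
def inR (r : ℕ) (e : Elt) : Bool := inA e && Nat.beq (get 5 e.1 5) 5 && Nat.beq (get 5 e.1 r) r

/-- A permutation of five points from a list. -/
def perm5 (l : List ℕ) : Equiv.Perm (Fin 5) :=
  if h : (∀ i : Fin 5, Fin.ofNat 5 (l.idxOf (fun5 l i : ℕ)) = i) ∧
      ∀ i : Fin 5, fun5 l (Fin.ofNat 5 (l.idxOf (i : ℕ))) = i then
    ⟨fun5 l, fun i => Fin.ofNat 5 (l.idxOf (i : ℕ)), h.1, h.2⟩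
  else 1

/-- The images form the even permutations of five points. -/
def a5ImgOK (imgs : List (List ℕ)) (gi : List ℕ) (nx : List (List ℕ)) : Bool :=
  Nat.beq imgs.length 60 &&
    imgs.all (fun l => decide (∀ i, perm5 l i = fun5 l i) && decide (Equiv.Perm.sign (perm5 l) = 1)) &&
    decide (∀ i, fun5 (imgs.getD 0 []) i = i) &&
    distinctKeys (imgs.map fun l => keyL 5 ((List.finRange 4).map fun i => (fun5 l i.castSucc : ℕ))) &&
    (List.finRange 60).all (fun n => (List.finRange 2).all fun j => decide (∀ i,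
      fun5 (imgs.getD (tnext 60 nx n j) []) i =
        fun5 (imgs.getD n []) (fun5 (imgs.getD (tgen 60 gi j) []) i)))

theorem a5_tables : tblOK 60 (inR a5X) a5xElts a5xGen a5xNext a5xPar = true ∧
    tblOK 60 (inR a5Y) a5yElts a5yGen a5yNext a5yPar = true ∧
    a5ImgOK a5xImgs a5xGen a5xNext = true ∧ a5ImgOK a5yImgs a5yGen a5yNext = true := by
  refine ⟨?_, ?_, ?_, ?_⟩ <;> decide +kernel

theorem a5_checks : a5FixOK = true ∧ a5OrbOK = true ∧ a5ListOK = true ∧ a5PairOK = true := by
  refine ⟨?_, ?_, ?_, ?_⟩ <;> decide +kernel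

end Cfsg.Agent.Golay.Local
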