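import Cfsg.Agent.Lib.Golay.Local.M11Tables
import Cfsg.Agent.Lib.Golay.Local.QuartetData
import Cfsg.Agent.Lib.Golay.OrbitChecks

/-! Kernel checks of the hexads and quartets on the dodecad of squares. -/

namespace Cfsg.Agent.Golay.Local

open Cfsg Cfsg.Agent.PermCert

/-- The triples of a listed quartet. -/
def qMem (n : ℕ) : List ℕ := qList.getD n []

/-- A mask is a listed hexad. -/
def isHexB (m : ℕ) : Bool := memF m qHex

/-- The checks of the hexads. -/
def hexOK : Bool :=
  Nat.beq qHexOct.length qHex.length &&
    (List.range qHex.length).all (fun i => memF (qHexOct.getD i 0) octadList &&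
      Nat.beq (qHexOct.getD i 0 &&& sqMask) (qHex.getD i 0) && Nat.beq (pcF (qHex.getD i 0)) 6) &&
    octadList.all (fun m => !(Nat.beq (pcF (m &&& sqMask)) 6) || isHexB (m &&& sqMask))

/-- The candidates completing the reference pair lie in the first quartet. -/
def complOK : Bool :=
  (masksOfWeight 24 3).all (fun m => !(Nat.beq (m &&& sqMask) m) || memF m (qMem 0) ||
    !(isHexB (qT0 ||| m) && isHexB (qU0 ||| m))) &&
  memF qT0 (qMem 0) && memF qU0 (qMem 0) && !(Nat.beq qT0 qU0) &&
  Nat.beq (qT0 &&& qU0) 0 && isHexB (qT0 ||| qU0)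

/-- The listed quartets are quartets. -/
def qlistOK : Bool :=
  Nat.beq qList.length 220 && qList.all (fun Q => Nat.beq Q.length 4 && famOK Q &&
    Q.all (fun m => Nat.beq (pcF m) 3 && Nat.beq (m &&& sqMask) m &&
      Q.all fun k => Nat.beq m k || isHexB (m ||| k)))

/-- The listed quartets are different. -/
def qdistOK : Bool :=
  (List.range 220).all fun a => (List.range a).all fun b => !(sameFam (qMem a) (qMem b))

/-- The generators of the dodecad group permute the listed quartets. -/
def qimgOK : Bool :=
  (List.range Cert.m12Gens.length).all fun i =>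
    eltOK (Cert.m12Gens.getD i (0, 0)) && (List.range 220).all fun n =>
      Nat.blt ((qImg.getD i []).getD n 220) 220 &&
        sameFam ((qMem n).map (imgMask (Cert.m12Gens.getD i (0, 0)))) (qMem ((qImg.getD i []).getD n 220))

theorem quartet_checks : hexOK = true ∧ complOK = true ∧ qlistOK = true ∧ qdistOK = true ∧ qimgOK = true := by
  refine ⟨?_, ?_, ?_, ?_, ?_⟩ <;> decide +kernel

end Cfsg.Agent.Golay.Local
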