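import Cfsg.Agent.Lib.Golay.Local.QuartetChecks
import Cfsg.Agent.Lib.Golay.Local.M11TableChecks

/-! Kernel checks of the tables of a quartet stabiliser. -/

namespace Cfsg.Agent.Golay.Local

open Cfsg Cfsg.Agent.PermCert

/-- Membership in the quartet stabiliser. -/
def inK432 (e : Elt) : Bool :=
  Nat.beq (imgMask e sqMask) sqMask && sameFam ((qMem 0).map (imgMask e)) (qMem 0)

/-- The orbits with their trees. -/
def qOrbits : List (List ℕ × List (ℕ × ℕ)) :=
  [(qOrb0, qOrbPar0), (qOrb1, qOrbPar1), (qOrb2, qOrbPar2), (qOrb3, qOrbPar3), (qOrb4, qOrbPar4)]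

/-- The images in the general linear group are compatible with the table. -/
def k432ImgOK : Bool :=
  Nat.beq k432Imgs.length 432 &&
    k432Imgs.all (fun l => shapeL 3 l &&
      !Nat.beq ((l.getD 0 0 * l.getD 3 0) % 3) ((l.getD 1 0 * l.getD 2 0) % 3)) &&
    k432Imgs.getD 0 [] == [1, 0, 0, 1] &&
    (List.finRange 432).all (fun n => (List.finRange 2).all fun j =>
      k432Imgs.getD (tnext 432 k432Next n j) [] ==
        mulL 3 (k432Imgs.getD n []) (k432Imgs.getD (tgen 432 k432Gen j) [])) &&
    Nat.beq k432Sec.length 48 && k432Sec.all (fun n => Nat.blt n 432) &&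
    distinctKeys (k432Sec.map fun n => keyL 3 (k432Imgs.getD n []))

/-- Elements moving the first point of the dodecad to each of its points. -/
def k432ReachOK : Bool :=
  (List.range 24).all fun i => !(sqMask.testBit i) ||
    k432Reach.any fun n => Nat.blt n 432 && Nat.beq (get 5 (k432Elts.getD n (0, 0)).1 0) i

/-- The generators permute the listed quartets as recorded. -/
def k432QImgOK : Bool :=
  (List.finRange 2).all fun j => (List.range 220).all fun n =>
    Nat.blt ((k432QImg.getD j []).getD n 220) 220 &&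
      sameFam ((qMem n).map (imgMask (k432Elts.getD (tgen 432 k432Gen j) (0, 0))))
        (qMem ((k432QImg.getD j []).getD n 220))

/-- A listed orbit is closed and connected, of the given length. -/
def qOrbOK (len : ℕ) (o : List ℕ × List (ℕ × ℕ)) : Bool :=
  Nat.beq o.1.length len && distinctKeys o.1 && o.1.all (fun n => Nat.blt n 220) &&
    (List.finRange 2).all (fun j => o.1.all fun n => memF ((k432QImg.getD j []).getD n 220) o.1) &&
    (List.range len).all (fun i => Nat.beq i 0 ||
      (Nat.blt (o.2.getD i (0, 0)).1 i &&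
        Nat.beq ((k432QImg.getD (fidx 2 (o.2.getD i (0, 0)).2 : ℕ) []).getD (o.1.getD (o.2.getD i (0, 0)).1 0) 220)
          (o.1.getD i 0)))

/-- The five orbits cover the quartets. -/
def qOrbitsOK : Bool :=
  qOrbOK 1 (qOrb0, qOrbPar0) && qOrbOK 12 (qOrb1, qOrbPar1) && qOrbOK 27 (qOrb2, qOrbPar2) &&
    qOrbOK 72 (qOrb3, qOrbPar3) && qOrbOK 108 (qOrb4, qOrbPar4) && Nat.beq (qOrb0.getD 0 1) 0 &&
    (List.range 220).all fun n => qOrbits.any fun o => memF n o.1

theorem k432_table : tblOK 432 inK432 k432Elts k432Gen k432Next k432Par = true := by decide +kernel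

theorem k432_checks : k432ImgOK = true ∧ k432ReachOK = true ∧ k432QImgOK = true ∧ qOrbitsOK = true := by
  refine ⟨?_, ?_, ?_, ?_⟩ <;> decide +kernel

end Cfsg.Agent.Golay.Local
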