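import Cfsg.Agent.Lib.Golay.Local.Quartets
import Cfsg.Agent.Lib.Golay.Local.TableHom
import Cfsg.Agent.Lib.Golay.Local.QuartetStabChecks
import Cfsg.Agent.Lib.Golay.Local.M11Subgroups
import Mathlib.GroupTheory.QuotientGroup.Basic

/-! The stabiliser of a quartet in the stabiliser of its dodecad. -/

namespace Cfsg.Agent.Golay.Local

open Cfsg Cfsg.Agent.PermCert
open scoped Pointwise

attribute [local irreducible] qList qImg k432Elts k432Gen k432Next k432Par k432Imgs k432Sec k432Reach k432QImg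
  qOrb0 qOrb1 qOrb2 qOrb3 qOrb4 famSet maskSet cmpF

/-- The stabiliser of the reference quartet. -/
def stdK : Subgroup M24 := MulAction.stabilizer M24 (maskSet sqMask) ⊓ MulAction.stabilizer M24 (qSet 0)

theorem card_stdD : Nat.card (MulAction.stabilizer M24 (maskSet sqMask)) = 95040 := by
  rw [Nat.card_congr (equivStabSets _ [Spor.squareDodecad] (fun g => by
    rw [squareDodecad_eq, mem_stab_set]; simp)).toEquiv, ← sporM12_eq, card_sporM12]

theorem card_stdK : Nat.card stdK = 432 := by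
  refine card_inf_stabilizer (N := 220) ?_ (by rw [card_stdD]) (by norm_num)
  have hsq : maskSet sqMask ∈ dodecads := squareDodecad_eq ▸ squareDodecad_mem
  have : MulAction.orbit (MulAction.stabilizer M24 (maskSet sqMask)) (qSet 0) = quartets (maskSet sqMask) := by
    ext Q
    constructor
    · rintro ⟨g, rfl⟩
      have h := quartets_smul (g : M24) (qSet_mem_quartets (by norm_num : 0 < 220))
      rwa [show (g : M24) • maskSet sqMask = maskSet sqMask from g.2] at h
    · intro hQ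
      obtain ⟨g, hgd, rfl⟩ := exists_quartet_map hsq hQ
      exact ⟨⟨g, hgd⟩, rfl⟩
  rw [this, ncard_quartets hsq]

theorem gOf_mem_stdK {e : Elt} (h : eltOK e = true) (h' : inK432 e = true) : gOf e ∈ stdK := by
  simp only [inK432, Bool.and_eq_true, Nat.beq_eq] at h'
  refine ⟨?_, ?_⟩
  · show gOf e • maskSet sqMask = maskSet sqMask
    rw [gOf_smul_maskSet h, h'.1]
  · show gOf e • qSet 0 = qSet 0
    rw [qSet, gOf_smul_famSet h, famSet_congr h'.2]

theorem exists_psi432 : ∃ φ : stdK →* GL (Fin 2) (ZMod 3), Function.Surjective φ := by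
  obtain ⟨x, hx, -, hx1, hxs, hpar⟩ := exists_table k432_table (K := stdK) (fun e => gOf_mem_stdK) card_stdK.le
  have h := k432_checks.1
  simp only [k432ImgOK, Bool.and_eq_true, Nat.beq_eq, List.all_eq_true, List.mem_finRange, forall_true_left,
    beq_iff_eq, Bool.not_eq_true', Nat.blt_eq] at h
  obtain ⟨⟨⟨⟨⟨⟨hlen, hall⟩, h0⟩, hstep⟩, hsl⟩, hsec⟩, hdist⟩ := h
  have hmem : ∀ n : Fin 432, k432Imgs.getD n [] ∈ k432Imgs := fun n => by
    rw [List.getD_eq_getElem _ _ (by omega)]; exact List.getElem_mem _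
  haveI : Fact (Nat.Prime 3) := ⟨Nat.prime_three⟩
  have hdet : ∀ n : Fin 432, (mat22 3 (k432Imgs.getD n [])).det ≠ 0 := fun n e => by
    have h1 := (hall _ (hmem n)).2
    rw [mat22, Matrix.det_fin_two_of, sub_eq_zero, ← Nat.cast_mul, ← Nat.cast_mul,
      ZMod.natCast_eq_natCast_iff'] at e
    rw [e, Nat.beq_refl] at h1
    exact Bool.noConfusion h1
  let y : Fin 432 → GL (Fin 2) (ZMod 3) := fun n =>
    Matrix.GeneralLinearGroup.mkOfDetNeZero (mat22 3 (k432Imgs.getD n [])) (hdet n)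
  obtain ⟨φ, hφ⟩ := exists_hom_of_table x y 0 (tgen 432 k432Gen) (tnext 432 k432Next)
    (fun n => (fidx 432 (k432Par.getD n (0, 0)).1, fidx 2 (k432Par.getD n (0, 0)).2)) hx hx1
    (Units.ext (by
      show mat22 3 (k432Imgs.getD ((0 : Fin 432) : ℕ) []) = 1
      rw [Fin.val_zero, h0]
      ext i j; fin_cases i <;> fin_cases j <;> simp [mat22])) hxs
    (fun n j => Units.ext ((congrArg (mat22 3) (hstep n j)).trans (mat22_mulL 3 _ _))) hpar
  refine ⟨φ, ?_⟩
  let s : Fin 48 → GL (Fin 2) (ZMod 3) := fun i => y (fidx 432 (k432Sec.getD i 0))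
  have hs : Function.Injective s := by
    intro a b e
    have hn := distinctKeys_spec _ hdist
    have ha : (a : ℕ) < (k432Sec.map fun n => keyL 3 (k432Imgs.getD n [])).length := by
      simp only [List.length_map]; omega
    have hb : (b : ℕ) < (k432Sec.map fun n => keyL 3 (k432Imgs.getD n [])).length := by
      simp only [List.length_map]; omega
    refine Fin.ext ((hn.getElem_inj_iff (hi := ha) (hj := hb)).mp ?_)
    rw [List.getElem_map, List.getElem_map]
    have e' := eq_of_mat22 (hall _ (hmem _)).1 (hall _ (hmem _)).1 (congrArg Units.val e)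
    have la : (a : ℕ) < k432Sec.length := by omega
    have lb : (b : ℕ) < k432Sec.length := by omega
    have fa : ((fidx 432 (k432Sec.getD a 0) : Fin 432) : ℕ) = k432Sec[(a : ℕ)] := by
      rw [List.getD_eq_getElem _ _ la]; exact Nat.mod_eq_of_lt (hsec _ (List.getElem_mem _))
    have fb : ((fidx 432 (k432Sec.getD b 0) : Fin 432) : ℕ) = k432Sec[(b : ℕ)] := by
      rw [List.getD_eq_getElem _ _ lb]; exact Nat.mod_eq_of_lt (hsec _ (List.getElem_mem _))
    rw [fa, fb] at e'
    rw [e']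
  intro m
  obtain ⟨i, rfl⟩ := (hs.bijective_of_nat_card_le (by
    rw [Nat.card_fin, Matrix.card_GL_field, ZMod.card]; simp [Fin.prod_univ_two])).2 m
  exact ⟨_, hφ _⟩

theorem stdK_transitive {p : GolayPt} (hp : p ∈ maskSet sqMask) : ∃ k : stdK, (k : M24) • pt 0 = p := by
  obtain ⟨x, -, hxe, -⟩ := exists_table k432_table (K := stdK) (fun e => gOf_mem_stdK) card_stdK.le
  have h := k432_checks.2.1
  simp only [k432ReachOK, List.all_eq_true, List.mem_range, Bool.or_eq_true, Bool.not_eq_true',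
    List.any_eq_true, Bool.and_eq_true, Nat.blt_eq, Nat.beq_eq] at h
  rw [mem_maskSet] at hp
  rcases h _ (idx_lt p) with e | ⟨n, -, hn, he⟩
  · rw [hp] at e; exact Bool.noConfusion e
  · refine ⟨x ⟨n, hn⟩, ?_⟩
    rw [(hxe ⟨n, hn⟩).2, ← pt_idx p]
    exact gOf_apply (hxe ⟨n, hn⟩).1 (i := 0) (j := ⟨idx p, idx_lt p⟩) he

/-- The quartets of a listed orbit. -/
noncomputable def orbFam (o : List ℕ) : Finset (Finset (Finset GolayPt)) := o.toFinset.image qSet

theorem orbit_of_checks {len : ℕ} {o : List ℕ × List (ℕ × ℕ)} (h : qOrbOK len o = true) (hlen : 0 < len) :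
    MulAction.orbit stdK (qSet (o.1.getD 0 0)) = (orbFam o.1 : Set (Finset (Finset GolayPt))) ∧
      (orbFam o.1).card = len ∧ o.1.getD 0 0 < 220 := by
  obtain ⟨x, hx, hxe, hx1, hxs, hpar⟩ := exists_table k432_table (K := stdK) (fun e => gOf_mem_stdK) card_stdK.le
  simp only [qOrbOK, Bool.and_eq_true, Nat.beq_eq, List.all_eq_true, List.mem_finRange, forall_true_left,
    List.mem_range, Bool.or_eq_true, Nat.blt_eq, memF_iff] at h
  obtain ⟨⟨⟨⟨hl, hd⟩, hlt⟩, hclosed⟩, htree⟩ := h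
  have hq := k432_checks.2.2.1
  simp only [k432QImgOK, List.all_eq_true, List.mem_finRange, forall_true_left, List.mem_range,
    Bool.and_eq_true, Nat.blt_eq] at hq
  have himg : ∀ j : Fin 2, ∀ n < 220, x (tgen 432 k432Gen j) • qSet n = qSet ((k432QImg.getD j []).getD n 220) := by
    intro j n hn
    show (x (tgen 432 k432Gen j) : M24) • qSet n = _
    rw [(hxe _).2, qSet, qSet, gOf_smul_famSet (hxe _).1, famSet_congr (hq j n hn).2]
  have mem : ∀ i, i < len → o.1.getD i 0 ∈ o.1 := fun i hi => by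
    rw [List.getD_eq_getElem _ _ (hl ▸ hi)]; exact List.getElem_mem _
  have hgen : ∀ j : Fin 2, x (tgen 432 k432Gen j) • orbFam o.1 = orbFam o.1 := by
    intro j
    refine Finset.eq_of_subset_of_card_le ?_ (by rw [Finset.card_smul_finset])
    intro X hX
    obtain ⟨Y, hY, rfl⟩ := Finset.mem_smul_finset.1 hX
    obtain ⟨n, hn, rfl⟩ := Finset.mem_image.1 hY
    rw [List.mem_toFinset] at hn
    exact Finset.mem_image.2 ⟨_, List.mem_toFinset.2 (hclosed j n hn), (himg j n (hlt n hn)).symm⟩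
  have hall : ∀ n : Fin 432, x n • orbFam o.1 = orbFam o.1 := by
    intro n
    induction n using WellFoundedLT.induction with
    | _ n ih =>
      by_cases hn : n = 0
      · rw [hn, hx1, one_smul]
      · obtain ⟨h1, h2⟩ := hpar n hn
        rw [← h2, hxs, mul_smul, hgen, ih _ h1]
  refine ⟨Set.Subset.antisymm ?_ ?_, ?_, hlt _ (mem 0 hlen)⟩
  · rintro _ ⟨k, rfl⟩
    obtain ⟨n, rfl⟩ := hx.2 k
    show x n • qSet (o.1.getD 0 0) ∈ orbFam o.1
    rw [← hall n]
    exact Finset.smul_mem_smul_finset (Finset.mem_image.2 ⟨_, List.mem_toFinset.2 (mem 0 hlen), rfl⟩)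
  · intro X hX
    obtain ⟨m, hm, rfl⟩ := Finset.mem_image.1 hX
    obtain ⟨i, hi, rfl⟩ := List.getElem_of_mem (List.mem_toFinset.1 hm)
    rw [← List.getD_eq_getElem _ 0 hi]
    clear hm hX
    induction i using Nat.strong_induction_on with
    | _ i ih =>
      rcases htree i (hl ▸ hi) with e | ⟨h1, h2⟩
      · rw [e]; exact MulAction.mem_orbit_self _
      · obtain ⟨k, hk⟩ := ih _ h1 (h1.trans hi)
        refine ⟨x (tgen 432 k432Gen (fidx 2 (o.2.getD i (0, 0)).2)) * k, ?_⟩
        show (_ * k) • _ = _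
        have hk' : k • qSet (o.1.getD 0 0) = qSet (o.1.getD (o.2.getD i (0, 0)).1 0) := hk
        rw [mul_smul, hk', himg _ _ (hlt _ (mem _ (hl ▸ h1.trans hi))), h2]
  · rw [orbFam, Finset.card_image_of_injOn (fun a ha b hb => qSet_injOn (hlt a (List.mem_toFinset.1 ha))
      (hlt b (List.mem_toFinset.1 hb))), List.toFinset_card_of_nodup (distinctKeys_spec _ hd), hl]

theorem five_orbits : ∃ X₁ ∈ quartets (maskSet sqMask), ∃ X₂ ∈ quartets (maskSet sqMask),
    ∃ X₃ ∈ quartets (maskSet sqMask), ∃ X₄ ∈ quartets (maskSet sqMask),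
    (MulAction.orbit stdK X₁).ncard = 12 ∧ (MulAction.orbit stdK X₂).ncard = 27 ∧
    (MulAction.orbit stdK X₃).ncard = 72 ∧ (MulAction.orbit stdK X₄).ncard = 108 ∧
    quartets (maskSet sqMask) = {qSet 0} ∪ MulAction.orbit stdK X₁ ∪ MulAction.orbit stdK X₂ ∪
      MulAction.orbit stdK X₃ ∪ MulAction.orbit stdK X₄ := by
  have h := k432_checks.2.2.2
  simp only [qOrbitsOK, Bool.and_eq_true, Nat.beq_eq, List.all_eq_true, List.mem_range, List.any_eq_true,
    memF_iff] at h
  obtain ⟨⟨⟨⟨⟨⟨h0, h1⟩, h2⟩, h3⟩, h4⟩, hz⟩, hcov⟩ := h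
  obtain ⟨o0, c0, -⟩ := orbit_of_checks h0 (by norm_num)
  obtain ⟨o1, c1, l1⟩ := orbit_of_checks h1 (by norm_num)
  obtain ⟨o2, c2, l2⟩ := orbit_of_checks h2 (by norm_num)
  obtain ⟨o3, c3, l3⟩ := orbit_of_checks h3 (by norm_num)
  obtain ⟨o4, c4, l4⟩ := orbit_of_checks h4 (by norm_num)
  refine ⟨_, qSet_mem_quartets l1, _, qSet_mem_quartets l2, _, qSet_mem_quartets l3, _, qSet_mem_quartets l4,
    by rw [o1, Set.ncard_coe_finset, c1], by rw [o2, Set.ncard_coe_finset, c2],
    by rw [o3, Set.ncard_coe_finset, c3], by rw [o4, Set.ncard_coe_finset, c4], ?_⟩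
  have hq0 : orbFam qOrb0 = {qSet 0} := by
    simp only [qOrbOK, Bool.and_eq_true, Nat.beq_eq] at h0
    have hl := h0.1.1.1.1
    obtain ⟨v, hv⟩ := List.length_eq_one_iff.1 hl
    rw [hv, List.getD_cons_zero] at hz
    rw [orbFam, hv, hz]; simp
  refine Set.Subset.antisymm (fun Q hQ => ?_) ?_
  · rw [quartets_std] at hQ
    obtain ⟨n, hn, rfl⟩ := Finset.mem_image.1 hQ
    obtain ⟨o, ho, hno⟩ := hcov n (Finset.mem_range.1 hn)
    have hm : qSet n ∈ orbFam o.1 := Finset.mem_image.2 ⟨n, List.mem_toFinset.2 hno, rfl⟩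
    simp only [qOrbits, List.mem_cons, List.not_mem_nil, or_false] at ho
    rw [o1, o2, o3, o4]
    simp only [Set.mem_union, Set.mem_singleton_iff, Finset.mem_coe]
    rcases ho with rfl | rfl | rfl | rfl | rfl
    · rw [hq0, Finset.mem_singleton] at hm
      exact Or.inl (Or.inl (Or.inl (Or.inl hm)))
    · exact Or.inl (Or.inl (Or.inl (Or.inr hm)))
    · exact Or.inl (Or.inl (Or.inr hm))
    · exact Or.inl (Or.inr hm)
    · exact Or.inr hm
  · have key : ∀ n < 220, MulAction.orbit stdK (qSet n) ⊆ quartets (maskSet sqMask) := by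
      rintro n hn _ ⟨k, rfl⟩
      have := quartets_smul (k : M24) (qSet_mem_quartets hn)
      rwa [show (k : M24) • maskSet sqMask = maskSet sqMask from k.2.1] at this
    simp only [Set.union_subset_iff, Set.singleton_subset_iff]
    exact ⟨⟨⟨⟨qSet_mem_quartets (by norm_num), key _ l1⟩, key _ l2⟩, key _ l3⟩, key _ l4⟩

theorem orbit_conj {X : Type*} [MulAction M24 X] (g : M24) {H K : Subgroup M24}
    (h : ∀ x, x ∈ H ↔ g * x * g⁻¹ ∈ K) (a : X) :
    MulAction.orbit K (g • a) = g • MulAction.orbit H a := by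
  ext b
  rw [Set.mem_smul_set]
  constructor
  · rintro ⟨k, rfl⟩
    refine ⟨_, ⟨⟨g⁻¹ * k * g, (h _).2 (by simp [mul_assoc])⟩, rfl⟩, ?_⟩
    show g • ((g⁻¹ * (k : M24) * g) • a) = (k : M24) • g • a
    rw [← mul_smul, ← mul_smul]; congr 1; group
  · rintro ⟨_, ⟨k, rfl⟩, rfl⟩
    refine ⟨⟨g * k * g⁻¹, (h _).1 k.2⟩, ?_⟩
    show (g * (k : M24) * g⁻¹) • g • a = g • ((k : M24) • a)
    rw [← mul_smul, ← mul_smul, inv_mul_cancel_right]

end Cfsg.Agent.Golay.Local
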