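import Cfsg.Agent.Lib.Golay.Local.QuartetChecks

/-! Hexads and quartets of a dodecad. -/

namespace Cfsg.Agent.Golay.Local

open Cfsg Cfsg.Agent.PermCert
open scoped Pointwise

attribute [local irreducible] qList qHex qHexOct qImg qFive Cert.m12Gens famSet maskSet cmpF

theorem hexadsOn_smul (g : M24) {d h : Finset GolayPt} (hh : h ∈ hexadsOn d) :
    g • h ∈ hexadsOn (g • d) := by
  obtain ⟨h6, o, ho, e⟩ := hh
  refine ⟨by rw [Finset.card_smul_finset, h6], g • o, (smul_mem_octads_iff g.2).2 ho, ?_⟩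
  rw [← Finset.smul_finset_inter, e]

theorem quartets_smul (g : M24) {d : Finset GolayPt} {Q : Finset (Finset GolayPt)} (hQ : Q ∈ quartets d) :
    g • Q ∈ quartets (g • d) := by
  obtain ⟨h4, ht, hu⟩ := hQ
  refine ⟨by rw [Finset.card_smul_finset, h4], fun t htm => ?_, fun t htm u hum hne => ?_⟩
  · obtain ⟨s, hs, rfl⟩ := Finset.mem_smul_finset.1 htm
    exact ⟨by rw [Finset.card_smul_finset, (ht s hs).1], Finset.smul_finset_subset_smul_finset (ht s hs).2⟩
  · obtain ⟨s, hs, rfl⟩ := Finset.mem_smul_finset.1 htm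
    obtain ⟨r, hr, rfl⟩ := Finset.mem_smul_finset.1 hum
    rw [← Finset.smul_finset_union]
    exact hexadsOn_smul g (hu s hs r hr fun e => hne (by rw [e]))

theorem quartets_smul_iff (g : M24) (d : Finset GolayPt) (Q : Finset (Finset GolayPt)) :
    g • Q ∈ quartets (g • d) ↔ Q ∈ quartets d :=
  ⟨fun h => by simpa using quartets_smul g⁻¹ h, quartets_smul g⟩

theorem quartets_smul_eq (g : M24) (d : Finset GolayPt) : quartets (g • d) = g • quartets d := by
  ext Q
  rw [Set.mem_smul_set_iff_inv_smul_mem, ← quartets_smul_iff g d, smul_inv_smul]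

theorem hexad_mask {m : ℕ} (hm : m ∈ qHex) : maskSet m ∈ hexadsOn (maskSet sqMask) := by
  have h := quartet_checks.1
  simp only [hexOK, Bool.and_eq_true, List.all_eq_true, List.mem_range, Nat.beq_eq, memF_iff] at h
  obtain ⟨i, hi, rfl⟩ := List.getElem_of_mem hm
  obtain ⟨⟨h1, h2⟩, h3⟩ := h.1.2 i hi
  rw [List.getD_eq_getElem _ _ hi] at h2 h3
  have hlt : qHex[i] < 2 ^ 24 := by
    rw [← h2]
    exact lt_of_le_of_lt Nat.and_le_right (by decide)
  refine ⟨?_, maskSet (qHexOct.getD i 0), mem_octads.2 ⟨_, h1, rfl⟩, by rw [← maskSet_and, h2]⟩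
  rw [card_maskSet, ← pcF_eq, h3]

theorem mask_of_hexad {h : Finset GolayPt} (hh : h ∈ hexadsOn (maskSet sqMask)) : ∃ m ∈ qHex, maskSet m = h := by
  have hc := quartet_checks.1
  simp only [hexOK, Bool.and_eq_true, List.all_eq_true, Bool.or_eq_true, Bool.not_eq_true', isHexB, memF_iff] at hc
  obtain ⟨h6, o, ho, rfl⟩ := hh
  obtain ⟨m, hm, rfl⟩ := mem_octads.1 ho
  rcases hc.2 m hm with e | e
  · rw [← maskSet_and, card_maskSet, ← pcF_eq] at h6
    rw [h6] at e
    exact Bool.noConfusion e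
  · exact ⟨_, e, (maskSet_and m sqMask)⟩

theorem qHex_lt {m : ℕ} (hm : m ∈ qHex) : m < 2 ^ 24 := by
  have h := quartet_checks.1
  simp only [hexOK, Bool.and_eq_true, List.all_eq_true, List.mem_range, Nat.beq_eq] at h
  obtain ⟨i, hi, rfl⟩ := List.getElem_of_mem hm
  have e := (h.1.2 i hi).1.2
  rw [List.getD_eq_getElem _ _ hi] at e
  rw [← e]
  exact lt_of_le_of_lt Nat.and_le_right (by decide)

theorem hexad_eq_of_inter {d h h' : Finset GolayPt} (hh : h ∈ hexadsOn d) (hh' : h' ∈ hexadsOn d)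
    {s : Finset GolayPt} (hs : s ⊆ h) (hs' : s ⊆ h') (h5 : 5 ≤ s.card) : h = h' := by
  obtain ⟨-, o, ho, rfl⟩ := hh
  obtain ⟨-, o', ho', rfl⟩ := hh'
  rw [octad_unique ho ho' (h5.trans (Finset.card_le_card (Finset.subset_inter
    (hs.trans Finset.inter_subset_left) (hs'.trans Finset.inter_subset_left))))]

/-- The quartet of a listed index. -/
def qSet (n : ℕ) : Finset (Finset GolayPt) := famSet (qMem n)

theorem qMem_facts {n : ℕ} (hn : n < 220) : (qMem n).length = 4 ∧ famOK (qMem n) = true ∧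
    ∀ m ∈ qMem n, pcF m = 3 ∧ m &&& sqMask = m ∧ ∀ k ∈ qMem n, m = k ∨ (m ||| k) ∈ qHex := by
  have h := quartet_checks.2.2.1
  simp only [qlistOK, Bool.and_eq_true, List.all_eq_true, Nat.beq_eq, Bool.or_eq_true, isHexB, memF_iff] at h
  have hm : qMem n ∈ qList := by
    rw [qMem, List.getD_eq_getElem _ _ (h.1 ▸ hn)]; exact List.getElem_mem _
  obtain ⟨⟨a, b⟩, c⟩ := h.2 _ hm
  exact ⟨a, b, fun m hm => ⟨(c m hm).1.1, (c m hm).1.2, (c m hm).2⟩⟩

theorem qSet_mem_quartets {n : ℕ} (hn : n < 220) : qSet n ∈ quartets (maskSet sqMask) := by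
  obtain ⟨h4, hok, hm⟩ := qMem_facts hn
  refine ⟨by rw [qSet, card_famSet hok, h4], fun t ht => ?_, fun t ht u hu hne => ?_⟩
  · obtain ⟨m, hmm, rfl⟩ := mem_famSet.1 ht
    obtain ⟨h3, hsub, -⟩ := hm m hmm
    refine ⟨by rw [card_maskSet, ← pcF_eq, h3], ?_⟩
    rw [← hsub, maskSet_and]
    exact Finset.inter_subset_right
  · obtain ⟨m, hmm, rfl⟩ := mem_famSet.1 ht
    obtain ⟨k, hkm, rfl⟩ := mem_famSet.1 hu
    rw [← maskSet_or]
    exact hexad_mask (((hm m hmm).2.2 k hkm).resolve_left fun e => hne (by rw [e]))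

theorem qSet_injOn {a b : ℕ} (ha : a < 220) (hb : b < 220) (h : qSet a = qSet b) : a = b := by
  have hd := quartet_checks.2.2.2.1
  simp only [qdistOK, List.all_eq_true, List.mem_range, Bool.not_eq_true'] at hd
  have key : ∀ {a b}, a < 220 → b < a → qSet a ≠ qSet b := by
    intro a b ha hba e
    have := hd a ha b hba
    rw [show sameFam (qMem a) (qMem b) = true from ?_] at this
    · exact Bool.noConfusion this
    · have la := (famOK_spec (qMem_facts ha).2.1).2
      have lb := (famOK_spec (qMem_facts (hba.trans ha)).2.1).2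
      simp only [sameFam, Bool.and_eq_true, allF_iff, memF_iff]
      refine ⟨fun m hm => ?_, fun m hm => ?_⟩
      · obtain ⟨k, hk, e'⟩ := mem_famSet.1 (e ▸ mem_famSet.2 ⟨m, hm, rfl⟩ : maskSet m ∈ qSet b)
        rwa [← maskSet_inj (lb k hk) (la m hm) e']
      · obtain ⟨k, hk, e'⟩ := mem_famSet.1 (e.symm ▸ mem_famSet.2 ⟨m, hm, rfl⟩ : maskSet m ∈ qSet a)
        rwa [← maskSet_inj (la k hk) (lb m hm) e']
  rcases lt_trichotomy a b with h' | h' | h'
  · exact absurd h.symm (key hb h')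
  · exact h'
  · exact absurd h (key ha h')

/-- The reference pair of triples. -/
def tri0 : Finset GolayPt := maskSet qT0

/-- Its partner. -/
def tri1 : Finset GolayPt := maskSet qU0

theorem pair_facts : qT0 < 2 ^ 24 ∧ qU0 < 2 ^ 24 ∧ tri0.card = 3 ∧ tri1.card = 3 ∧ Disjoint tri0 tri1 ∧
    tri0 ∈ qSet 0 ∧ tri1 ∈ qSet 0 ∧ tri0 ∪ tri1 ∈ hexadsOn (maskSet sqMask) := by
  have hc := quartet_checks.2.1
  simp only [complOK, Bool.and_eq_true, Nat.beq_eq, memF_iff, isHexB, Bool.not_eq_true'] at hc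
  obtain ⟨⟨⟨⟨⟨-, h0⟩, h1⟩, hne⟩, hd⟩, hh⟩ := hc
  obtain ⟨-, hok, hm⟩ := qMem_facts (n := 0) (by norm_num)
  have l0 := (famOK_spec hok).2 _ h0
  have l1 := (famOK_spec hok).2 _ h1
  refine ⟨l0, l1, by rw [tri0, card_maskSet, ← pcF_eq, (hm _ h0).1],
    by rw [tri1, card_maskSet, ← pcF_eq, (hm _ h1).1], ?_, mem_famSet.2 ⟨_, h0, rfl⟩, mem_famSet.2 ⟨_, h1, rfl⟩, ?_⟩
  · rw [Finset.disjoint_iff_inter_eq_empty, tri0, tri1, ← maskSet_and, hd]
    exact Finset.card_eq_zero.1 (by rw [card_maskSet]; decide)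
  · rw [tri0, tri1, ← maskSet_or]
    exact hexad_mask hh

theorem std_unique {Q : Finset (Finset GolayPt)} (hQ : Q ∈ quartets (maskSet sqMask)) (ht : tri0 ∈ Q) (hu : tri1 ∈ Q) :
    Q = qSet 0 := by
  obtain ⟨h4, htr, hun⟩ := hQ
  obtain ⟨l0, l1, -, -, -, m0, m1, -⟩ := pair_facts
  refine Finset.eq_of_subset_of_card_le (fun w hw => ?_) (by
    rw [h4, qSet, card_famSet (qMem_facts (by norm_num : 0 < 220)).2.1, (qMem_facts (by norm_num : 0 < 220)).1])
  by_cases hw0 : w = tri0
  · rw [hw0]; exact m0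
  by_cases hw1 : w = tri1
  · rw [hw1]; exact m1
  obtain ⟨h3, hsub⟩ := htr w hw
  obtain ⟨m, hm, rfl⟩ := card_eq_iff_mask.1 h3
  have hlt := (lt_of_mem_masksOfWeight _ _ _ hm).1
  have hc := quartet_checks.2.1
  simp only [complOK, Bool.and_eq_true, List.all_eq_true, Bool.or_eq_true, Bool.not_eq_true', isHexB] at hc
  rcases hc.1.1.1.1.1 m hm with (h | h) | h
  · exfalso
    refine (Bool.eq_false_iff.1 h) (Nat.beq_eq.symm ▸ maskSet_inj (lt_of_le_of_lt Nat.and_le_right (by decide)) hlt ?_)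
    rw [maskSet_and, Finset.inter_eq_left]
    exact hsub
  · exact mem_famSet.2 ⟨m, memF_iff.1 h, rfl⟩
  · exfalso
    have hx : ∀ k, k < 2 ^ 24 → maskSet k ∪ maskSet m ∈ hexadsOn (maskSet sqMask) → memF (k ||| m) qHex = true := by
      intro k hk hk'
      obtain ⟨n, hn, e⟩ := mask_of_hexad hk'
      rw [memF_iff]
      rw [← maskSet_or] at e
      rwa [← maskSet_inj (qHex_lt hn) (Nat.or_lt_two_pow hk hlt) e]
    rw [hx qT0 l0 (hun _ ht _ hw (Ne.symm hw0)), hx qU0 l1 (hun _ hu _ hw (Ne.symm hw1))] at h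
    exact Bool.noConfusion h

/-- Disjoint triples uniting to a hexad are moved from the reference pair. -/
theorem exists_pair_map {d : Finset GolayPt} (hd : d ∈ dodecads) {t u : Finset GolayPt} (ht : t.card = 3)
    (hu : u.card = 3) (htu : Disjoint t u) (hh : t ∪ u ∈ hexadsOn d) :
    ∃ g : M24, g • maskSet sqMask = d ∧ g • tri0 = t ∧ g • tri1 = u := by
  obtain ⟨-, -, c0, c1, d01, -, -, h01⟩ := pair_facts
  obtain ⟨a, b, c, hab, hac, hbc, rfl⟩ := Finset.card_eq_three.1 ht
  obtain ⟨a', b', c', hab', hac', hbc', rfl⟩ := Finset.card_eq_three.1 hu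
  obtain ⟨p, q, r, hpq, hpr, hqr, e0⟩ := Finset.card_eq_three.1 c0
  obtain ⟨p', q', r', hpq', hpr', hqr', e1⟩ := Finset.card_eq_three.1 c1
  rw [e0, e1] at d01 h01
  have ne01 : ∀ x ∈ ({p, q, r} : Finset GolayPt), ∀ y ∈ ({p', q', r'} : Finset GolayPt), x ≠ y :=
    fun x hx y hy e => Finset.disjoint_left.1 d01 hx (e ▸ hy)
  have nead : ∀ x ∈ ({a, b, c} : Finset GolayPt), ∀ y ∈ ({a', b', c'} : Finset GolayPt), x ≠ y :=
    fun x hx y hy e => Finset.disjoint_left.1 htu hx (e ▸ hy)
  have sub0 : ({p, q, r} ∪ {p', q', r'} : Finset GolayPt) ⊆ Spor.squareDodecad := by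
    obtain ⟨-, o, -, e⟩ := h01
    rw [squareDodecad_eq, ← e]; exact Finset.inter_subset_right
  have subd : ({a, b, c} ∪ {a', b', c'} : Finset GolayPt) ⊆ d := by
    obtain ⟨-, o, -, e⟩ := hh
    rw [← e]; exact Finset.inter_subset_right
  obtain ⟨g, hg, hgd, hgx⟩ := exists_M24_dodecad_map hd (k := 5) (by norm_num) (x := ![p, q, r, p', q'])
    (y := ![a, b, c, a', b'])
    (by intro i j; fin_cases i <;> fin_cases j <;>
      simp [hpq, hpq.symm, hpr, hpr.symm, hqr, hqr.symm, hpq', hpq'.symm, ne01 p, ne01 q, ne01 r,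
        (ne01 p (by simp) p' (by simp)).symm, (ne01 p (by simp) q' (by simp)).symm,
        (ne01 q (by simp) p' (by simp)).symm, (ne01 q (by simp) q' (by simp)).symm,
        (ne01 r (by simp) p' (by simp)).symm, (ne01 r (by simp) q' (by simp)).symm])
    (by intro i j; fin_cases i <;> fin_cases j <;>
      simp [hab, hab.symm, hac, hac.symm, hbc, hbc.symm, hab', hab'.symm, nead a, nead b, nead c,
        (nead a (by simp) a' (by simp)).symm, (nead a (by simp) b' (by simp)).symm,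
        (nead b (by simp) a' (by simp)).symm, (nead b (by simp) b' (by simp)).symm,
        (nead c (by simp) a' (by simp)).symm, (nead c (by simp) b' (by simp)).symm])
    (fun i => by fin_cases i <;> exact sub0 (by simp))
    (fun i => by fin_cases i <;> exact subd (by simp))
  set g' : M24 := ⟨g, hg⟩
  have gp : g' • p = a := hgx 0
  have gq : g' • q = b := hgx 1
  have gr : g' • r = c := hgx 2
  have gp' : g' • p' = a' := hgx 3
  have gq' : g' • q' = b' := hgx 4
  have hd' : g' • maskSet sqMask = d := by rw [← squareDodecad_eq]; exact hgd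
  have ht' : g' • tri0 = {a, b, c} := by
    rw [e0, Finset.smul_finset_insert, Finset.smul_finset_insert, Finset.smul_finset_singleton, gp, gq, gr]
  refine ⟨g', hd', ht', ?_⟩
  have hx := hd' ▸ hexadsOn_smul g' h01
  rw [Finset.smul_finset_union, ← e0, ht', Finset.smul_finset_insert, Finset.smul_finset_insert,
    Finset.smul_finset_singleton, gp', gq'] at hx
  have e := hexad_eq_of_inter hx hh (s := {a, b, c} ∪ {a', b'})
    (Finset.union_subset_union subset_rfl (by simp [Finset.insert_subset_iff]))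
    (Finset.union_subset_union subset_rfl (by simp [Finset.insert_subset_iff]))
    (by
      rw [Finset.card_union_of_disjoint (htu.mono_right (by simp [Finset.insert_subset_iff])), ht,
        Finset.card_pair hab'])
  rw [e1, Finset.smul_finset_insert, Finset.smul_finset_insert, Finset.smul_finset_singleton, gp', gq']
  have hr' : g' • r' ∈ ({a, b, c} ∪ {a', b', c'} : Finset GolayPt) := e ▸ (by simp)
  have n0 : g' • r' ∉ ({a, b, c} : Finset GolayPt) := by
    intro hm
    rw [← ht', Finset.smul_mem_smul_finset_iff, e0] at hm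
    exact ne01 _ hm r' (by simp) rfl
  rcases Finset.mem_union.1 hr' with h | h
  · exact absurd h n0
  · simp only [Finset.mem_insert, Finset.mem_singleton] at h
    rcases h with h | h | h
    · exact absurd (MulAction.injective g' (h.trans gp'.symm)) hpr'.symm
    · exact absurd (MulAction.injective g' (h.trans gq'.symm)) hqr'.symm
    · rw [h]

theorem quartet_pairwise_disjoint {d : Finset GolayPt} {Q : Finset (Finset GolayPt)} (hQ : Q ∈ quartets d)
    {t u : Finset GolayPt} (ht : t ∈ Q) (hu : u ∈ Q) (hne : t ≠ u) : Disjoint t u := by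
  rw [← Finset.card_union_eq_card_add_card, (hQ.2.1 t ht).1, (hQ.2.1 u hu).1]
  exact (hQ.2.2 t ht u hu hne).1

theorem exists_quartet_map {d : Finset GolayPt} (hd : d ∈ dodecads) {Q : Finset (Finset GolayPt)}
    (hQ : Q ∈ quartets d) : ∃ g : M24, g • maskSet sqMask = d ∧ g • qSet 0 = Q := by
  obtain ⟨t, u, ht, hu, hne⟩ := Finset.one_lt_card_iff.1 (by rw [hQ.1]; norm_num : 1 < Q.card)
  obtain ⟨g, hgd, hgt, hgu⟩ := exists_pair_map hd (hQ.2.1 t ht).1 (hQ.2.1 u hu).1
    (quartet_pairwise_disjoint hQ ht hu hne) (hQ.2.2 t ht u hu hne)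
  refine ⟨g, hgd, ?_⟩
  have h : g⁻¹ • Q = qSet 0 := by
    refine std_unique ?_ ?_ ?_
    · rw [← quartets_smul_iff g, smul_inv_smul, hgd]; exact hQ
    · rw [Finset.mem_inv_smul_finset_iff, hgt]; exact ht
    · rw [Finset.mem_inv_smul_finset_iff, hgu]; exact hu
  rw [← h, smul_inv_smul]

/-- All listed quartets. -/
noncomputable def qAll : Finset (Finset (Finset GolayPt)) := (Finset.range 220).image qSet

theorem card_qAll : qAll.card = 220 := by
  rw [qAll, Finset.card_image_of_injOn (fun a ha b hb => qSet_injOn (Finset.mem_range.1 ha) (Finset.mem_range.1 hb)),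
    Finset.card_range]

theorem stdD_smul_qAll {σ : Equiv.Perm GolayPt} (hσ : σ ∈ stabIn Cert.m12Inv) : σ • qAll = qAll := by
  have hle : stabIn Cert.m12Inv ≤ MulAction.stabilizer (Equiv.Perm GolayPt) qAll := by
    rw [← closure_eq_stabIn m12_ok, Subgroup.closure_le]
    intro τ hτ
    obtain ⟨e, he, rfl⟩ := List.mem_map.1 hτ
    obtain ⟨i, hi, rfl⟩ := List.getElem_of_mem he
    have h := quartet_checks.2.2.2.2
    simp only [qimgOK, List.all_eq_true, List.mem_range, Bool.and_eq_true, Nat.blt_eq] at h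
    obtain ⟨hok, hn⟩ := h i hi
    rw [List.getD_eq_getElem _ _ hi] at hok hn
    show permOf Cert.m12Gens[i] • qAll = qAll
    refine Finset.eq_of_subset_of_card_le ?_ (by rw [Finset.card_smul_finset])
    intro X hX
    obtain ⟨Y, hY, rfl⟩ := Finset.mem_smul_finset.1 hX
    obtain ⟨n, hn', rfl⟩ := Finset.mem_image.1 hY
    obtain ⟨h1, h2⟩ := hn n (Finset.mem_range.1 hn')
    refine Finset.mem_image.2 ⟨_, Finset.mem_range.2 h1, ?_⟩
    show _ = permOf Cert.m12Gens[i] • qSet n
    rw [← gOf_val hok, ← Subgroup.smul_def, qSet, qSet, gOf_smul_famSet hok, famSet_congr h2]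
  exact hle hσ

theorem quartets_std : quartets (maskSet sqMask) = (qAll : Set (Finset (Finset GolayPt))) := by
  have hsq : maskSet sqMask ∈ dodecads := squareDodecad_eq ▸ squareDodecad_mem
  refine Set.Subset.antisymm (fun Q hQ => ?_) ?_
  · obtain ⟨g, hgd, rfl⟩ := exists_quartet_map hsq hQ
    have h0 : qSet 0 ∈ qAll := Finset.mem_image.2 ⟨0, Finset.mem_range.2 (by norm_num), rfl⟩
    have hg : (g : Equiv.Perm GolayPt) • qAll = qAll := stdD_smul_qAll (by
      rw [stabIn_m12, mem_stabSets]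
      refine ⟨g.2, ?_⟩
      simp only [List.mem_cons, List.not_mem_nil, or_false, forall_eq]
      rw [squareDodecad_eq]; exact hgd)
    show g • qSet 0 ∈ qAll
    rw [← hg]
    exact Finset.smul_mem_smul_finset h0
  · intro Q hQ
    obtain ⟨n, hn, rfl⟩ := Finset.mem_image.1 hQ
    exact qSet_mem_quartets (Finset.mem_range.1 hn)

theorem ncard_quartets {d : Finset GolayPt} (hd : d ∈ dodecads) : (quartets d).ncard = 220 := by
  obtain ⟨g, hg, hgd⟩ := exists_M24_dodecad hd
  have e : (⟨g, hg⟩ : M24) • maskSet sqMask = d := by rw [← squareDodecad_eq]; exact hgd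
  rw [← e, quartets_smul_eq, Set.ncard_smul_set, quartets_std, Set.ncard_coe_finset, card_qAll]

end Cfsg.Agent.Golay.Local
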