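import Cfsg.Agent.Lib.Golay.Local.Fast

/-! Exhaustive pruned search through a verified stabiliser chain. -/

namespace Cfsg.Agent.Golay.Local

open Cfsg Cfsg.Agent.PermCert Cfsg.Agent.Golay.Cert
open scoped Pointwise

/-! ### Exhaustive pruned search -/

/-- Images of positions. -/
def natImg (σ : Equiv.Perm GolayPt) (i : ℕ) : ℕ := idx (σ (ptN i))

/-- Pruned search below a prefix `g` whose chain bases so far are `F`. -/
def searchB (pr : List ℕ → (ℕ → ℕ) → Bool) (leaf : ℕ → Bool) : List CLevel → List ℕ → ℕ → Bool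
  | [], _, g => leaf g
  | (b, _, T) :: L, F, g =>
    T |> allF fun t =>
      !(pr (b :: F) fun x => g5 g (g5 t.2.1.1 x)) ||
        searchB pr leaf L (b :: F) (cmpF g t.2.1.1)

theorem searchB_spec {pr : List ℕ → (ℕ → ℕ) → Bool} {leaf : ℕ → Bool} (σ : Equiv.Perm GolayPt)
    (hpr : ∀ (F : List ℕ) (f : ℕ → ℕ), (∀ b ∈ F, b < 24) → (∀ b ∈ F, f b = natImg σ b) →
      pr F f = true) :
    ∀ (L : List CLevel), Good (interp 5 24 L) → AllRep 5 24 L → (∀ l ∈ L, l.1 < 24) →
      ∀ (F : List ℕ) (g : ℕ) (τ : Equiv.Perm GolayPt) (h : Equiv.Perm (Fin 24)),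
      (∀ b ∈ F, b < 24) → Code g τ →
      (∀ s ∈ topGens (interp 5 24 L), ∀ b ∈ F, s (Fin.ofNat 24 b) = Fin.ofNat 24 b) →
      h ∈ prodSet (interp 5 24 L) → σ = τ * phi h → searchB pr leaf L F g = true →
      ∃ e, Code e σ ∧ leaf e = true := by
  intro L
  induction L with
  | nil =>
    intro _ _ _ F g τ h _ hg _ hh he hs
    simp only [interp, prodSet, Set.mem_singleton_iff] at hh
    subst hh
    rw [map_one, mul_one] at he
    exact ⟨g, he ▸ hg, hs⟩
  | cons l L ih =>
    obtain ⟨b, S, T⟩ := l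
    intro hgood hall hlt F g τ h hF hg hfix hh he hs
    obtain ⟨t', ht', h', hh', rfl⟩ := hh
    obtain ⟨t, ht, rfl⟩ := List.mem_map.1 ht'
    obtain ⟨π, hπ⟩ := hall.2.1 t ht
    rw [epsilon_rep hπ] at he
    have hb : b < 24 := hlt _ List.mem_cons_self
    have hcode : Code t.2.1.1 (phi π) := code_phi hπ
    have hfix' : ∀ s ∈ topGens (interp 5 24 L), ∀ x ∈ b :: F,
        s (Fin.ofNat 24 x) = Fin.ofNat 24 x := by
      intro s hs' x hx
      obtain ⟨hsS, hsb⟩ := hgood.2.2.1 s hs'
      rcases List.mem_cons.1 hx with rfl | hx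
      · simpa using hsb
      · exact hfix s hsS x hx
    have hfixh : ∀ x ∈ b :: F, h' (Fin.ofNat 24 x) = Fin.ofNat 24 x := by
      intro x hx
      have hm := hh'
      rw [prodSet_eq _ hgood.1] at hm
      have hsub : {s | s ∈ topGens (interp 5 24 L)} ⊆
          ((MulAction.stabilizer (Equiv.Perm (Fin 24)) (Fin.ofNat 24 x)).toSubmonoid :
            Set (Equiv.Perm (Fin 24))) := fun s hs' => hfix' s hs' x hx
      exact Submonoid.closure_le.2 hsub hm
    have hσ : σ = τ * phi π * phi h' := by rw [he, map_mul, mul_assoc]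
    have hF' : ∀ x ∈ b :: F, x < 24 := fun x hx => by
      rcases List.mem_cons.1 hx with rfl | hx
      exacts [hb, hF x hx]
    simp only [searchB, allF_iff, Bool.or_eq_true, Bool.not_eq_true'] at hs
    rcases hs t ht with hfalse | hrec
    · rw [hpr _ _ hF' fun x hx => ?_] at hfalse
      · simp at hfalse
      have hx24 := hF' x hx
      have : phi h' (ptN x) = ptN x := by
        rw [phi_apply]
        show pt (h' ⟨idx (ptN x), idx_lt _⟩) = pt (Fin.ofNat 24 x)
        rw [← hfixh x hx]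
        congr 2
        exact Fin.ext (by simp [idx_ptN hx24, Fin.val_ofNat, Nat.mod_eq_of_lt hx24])
      have hlt' := hcode.lt hx24
      rw [natImg, hσ, Equiv.Perm.mul_apply, this, Equiv.Perm.mul_apply, g5_eq, g5_eq, hg.get hlt', hcode.get hx24,
        ptN_idx]
    · exact ih hgood.1 hall.2.2 (fun l hl => hlt l (List.mem_cons_of_mem _ hl)) (b :: F) _
        (τ * phi π) h' hF' (hg.cmp hcode) hfix' hh' hσ hrec

/-- Bases below 24. -/
def basesOK (L : List CLevel) : Bool := L.all fun l => Nat.blt l.1 24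

/-- Search through a certified group. -/
theorem search_cert {gens : List Elt} {derived : List (Elt × List ℕ)} {L : List CLevel}
    (hc : checkCert 5 24 gens derived L = true) (hb : basesOK L = true)
    {pr : List ℕ → (ℕ → ℕ) → Bool} {leaf : ℕ → Bool}
    (hs : searchB pr leaf L [] idC = true) {σ : Equiv.Perm GolayPt}
    (hσ : σ ∈ genPerm gens)
    (hpr : ∀ (F : List ℕ) (f : ℕ → ℕ), (∀ b ∈ F, b < 24) → (∀ b ∈ F, f b = natImg σ b) →
      pr F f = true) : ∃ e, Code e σ ∧ leaf e = true := by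
  obtain ⟨hgood, he⟩ := cert_good (n := 24) hc
  obtain ⟨h, hh, rfl⟩ := hσ
  have hh' : h ∈ prodSet (interp 5 24 L) := by
    rw [prodSet_eq _ hgood, ← closure_carrier, he]; exact hh
  exact searchB_spec _ hpr L hgood (allRep_of_cert hc)
    (fun l hl => by simpa using List.all_eq_true.1 hb l hl) [] _ 1 h (by simp) code_idC
    (by simp) hh' (by simp) hs

theorem m24_bases : basesOK m24Levels = true := by decide +kernel

/-- Search through the group of the code. -/
theorem search_M24 {pr : List ℕ → (ℕ → ℕ) → Bool} {leaf : ℕ → Bool}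
    (hs : searchB pr leaf m24Levels [] idC = true) {σ : Equiv.Perm GolayPt} (hσ : σ ∈ M24)
    (hpr : ∀ (F : List ℕ) (f : ℕ → ℕ), (∀ b ∈ F, b < 24) → (∀ b ∈ F, f b = natImg σ b) →
      pr F f = true) : ∃ e, Code e σ ∧ leaf e = true :=
  search_cert m24_cert m24_bases hs (genPerm_M24 ▸ hσ) hpr

/-! ### Prunes -/

/-- The map sends each prefix point of the first set into the second. -/
def prMem (a a' : ℕ) (F : List ℕ) (f : ℕ → ℕ) : Bool :=
  F |> allF fun b => bitB a' (f b) == bitB a b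

theorem prMem_spec {σ : Equiv.Perm GolayPt} {a a' : ℕ} (h : σ • maskSet a = maskSet a')
    {F : List ℕ} {f : ℕ → ℕ} (hF : ∀ b ∈ F, b < 24) (hf : ∀ b ∈ F, f b = natImg σ b) :
    prMem a a' F f = true := by
  simp only [prMem, allF_iff, beq_iff_eq, bitB_eq]
  intro b hb
  have h1 : σ (ptN b) ∈ maskSet a' ↔ ptN b ∈ maskSet a := by
    rw [← h]; exact Finset.smul_mem_smul_finset_iff σ
  rw [mem_maskSet, mem_maskSet, idx_ptN (hF b hb)] at h1
  rw [hf b hb]
  exact Bool.eq_iff_iff.2 h1

/-- The map sends `x` to `y` by conjugation on the prefix. -/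
def prConj (x y : ℕ) (F : List ℕ) (f : ℕ → ℕ) : Bool :=
  F |> allF fun b => !(memF (g5 x b) F) || Nat.beq (f (g5 x b)) (g5 y (f b))

theorem prConj_spec {σ X Y : Equiv.Perm GolayPt} {x y : ℕ} (hx : Code x X) (hy : Code y Y)
    (h : σ * X = Y * σ) {F : List ℕ} {f : ℕ → ℕ} (hF : ∀ b ∈ F, b < 24)
    (hf : ∀ b ∈ F, f b = natImg σ b) : prConj x y F f = true := by
  simp only [prConj, allF_iff, Bool.or_eq_true, Bool.not_eq_true', Nat.beq_eq, g5_eq]
  intro b hb
  by_cases hm : PermCert.get 5 x b ∈ F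
  · right
    have h1 := DFunLike.congr_fun h (ptN b)
    simp only [Equiv.Perm.mul_apply] at h1
    rw [hf _ hm, hf b hb, natImg, natImg, hx.get (hF b hb), ptN_idx, hy, h1]
  · left
    rw [Bool.eq_false_iff]
    exact fun e => hm (memF_iff.1 e)

end Cfsg.Agent.Golay.Local
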