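import Cfsg.Agent.Lib.Golay.Local.StdObjects
import Cfsg.Agent.Lib.Golay.Local.OrbSelf
import Cfsg.Agent.Lib.Golay.Local.OrbTrio
import Cfsg.Agent.Lib.Golay.Maximal

/-! Orbits of sextet and trio stabilisers on sextets and trios, and their maximality. -/

namespace Cfsg.Agent.Golay.Local

open Cfsg
open scoped Pointwise

attribute [local irreducible] famSet

theorem stab_famSet (R : Finset (Finset GolayPt)) : MulAction.stabilizer M24 R = famStab R := rfl

theorem univ_ncard (U : Univ) {n : ℕ} (h : U.list.length = n) : U.set.ncard = n := by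
  have e := U.count (fun _ => True) (fun _ => true) (fun _ _ => by simp)
  rw [List.filter_true, h] at e
  simpa using e

/-- A stabiliser is maximal when no union of its profile classes has a length dividing the size of the
universe. -/
theorem isCoatom_of_classes (U : Univ) (a : Finset (Finset GolayPt)) (ha : a ∈ U.set)
    (htr : ∀ X ∈ U.set, ∃ g : M24, g • a = X) {N : ℕ} (hN : U.list.length = N) (h1 : 1 < N)
    (cs : Finset ℕ) (size : ℕ → ℕ) (hv : ∀ Y ∈ U.set, wProf a Y ∈ cs)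
    (hc : ∀ c ∈ cs, ∃ X, IsClass U a a X c (size c))
    (hdiv : ∀ S ∈ cs.powerset, wProf a a ∈ S → ∑ k ∈ S, size k = 1 ∨ ∑ k ∈ S, size k = N ∨ ¬ ∑ k ∈ S, size k ∣ N) :
    IsCoatom (MulAction.stabilizer M24 a) := by
  have horb : MulAction.orbit M24 a = U.set := by
    ext X
    exact ⟨by rintro ⟨g, rfl⟩; exact U.smul _ g.2 _ ha, fun h => htr X h⟩
  refine isCoatom_stabilizer_of_classes a (wProf a) cs size N (by rw [horb, univ_ncard U hN]) h1
    (fun y hy => hv y (horb ▸ hy)) (fun c hcm => ?_) (fun y hy z hz e => ?_) hdiv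
  · obtain ⟨X, hX⟩ := hc c hcm
    rw [horb, ← hX.2.1]
    exact hX.2.2
  · rw [horb] at hy hz
    obtain ⟨X, hX⟩ := hc _ (hv y hy)
    have h1 : y ∈ MulAction.orbit (MulAction.stabilizer M24 a) X := by rw [hX.2.1]; exact ⟨hy, rfl⟩
    have h2 : z ∈ MulAction.orbit (MulAction.stabilizer M24 a) X := by rw [hX.2.1]; exact ⟨hz, e.symm⟩
    rw [← MulAction.orbit_eq_iff.mpr h1] at h2
    obtain ⟨⟨h, hh⟩, rfl⟩ := h2
    exact ⟨h, hh, rfl⟩

theorem class_self {U : Univ} {a X : Finset (Finset GolayPt)} {c : ℕ} (h : IsClass U a a X c 1) (ha : a ∈ U.set)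
    (hc : wProf a a = c) : MulAction.orbit (MulAction.stabilizer M24 a) X = {a} := by
  obtain ⟨w, hw⟩ := Set.ncard_eq_one.mp h.2.2
  have h1 : a ∈ MulAction.orbit (MulAction.stabilizer M24 a) X := by rw [h.2.1]; exact ⟨ha, hc⟩
  rw [hw, Set.mem_singleton_iff] at h1
  rw [hw, h1]

theorem cover₅ {U : Univ} {a X₁ X₂ X₃ X₄ X₅ R : Finset (Finset GolayPt)} {c₁ c₂ c₃ c₄ c₅ n₁ n₂ n₃ n₄ n₅ : ℕ}
    (h₁ : IsClass U a R X₁ c₁ n₁) (h₂ : IsClass U a R X₂ c₂ n₂) (h₃ : IsClass U a R X₃ c₃ n₃)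
    (h₄ : IsClass U a R X₄ c₄ n₄) (h₅ : IsClass U a R X₅ c₅ n₅)
    (hv : ∀ Y ∈ U.set, wProf R Y ∈ [c₁, c₂, c₃, c₄, c₅]) :
    U.set = MulAction.orbit (MulAction.stabilizer M24 a) X₁ ∪ MulAction.orbit (MulAction.stabilizer M24 a) X₂ ∪
      MulAction.orbit (MulAction.stabilizer M24 a) X₃ ∪ MulAction.orbit (MulAction.stabilizer M24 a) X₄ ∪
        MulAction.orbit (MulAction.stabilizer M24 a) X₅ := by
  rw [h₁.2.1, h₂.2.1, h₃.2.1, h₄.2.1, h₅.2.1]
  ext Y
  constructor
  · intro hY
    have := hv Y hY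
    simp only [List.mem_cons, List.not_mem_nil, or_false] at this
    rcases this with h | h | h | h | h
    exacts [Or.inl (Or.inl (Or.inl (Or.inl ⟨hY, h⟩))), Or.inl (Or.inl (Or.inl (Or.inr ⟨hY, h⟩))),
      Or.inl (Or.inl (Or.inr ⟨hY, h⟩)), Or.inl (Or.inr ⟨hY, h⟩), Or.inr ⟨hY, h⟩]
  · rintro ((((h | h) | h) | h) | h) <;> exact h.1

theorem sextSelf_classes :
    IsClass sexUniv stdSext stdSext (famSet sextSexSelf0Root) 1536 1 ∧
    IsClass sexUniv stdSext stdSext (famSet sextSexSelf1Root) 192 90 ∧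
    IsClass sexUniv stdSext stdSext (famSet sextSexSelf2Root) 180 240 ∧
    IsClass sexUniv stdSext stdSext (famSet sextSexSelf3Root) 80 1440 :=
  ⟨isClass_of_spec sexUniv sextRef_ok sextSexSelf0Root_ok sextGens_ok sextSexSelf0_ok (stab_famSet _),
    isClass_of_spec sexUniv sextRef_ok sextSexSelf1Root_ok sextGens_ok sextSexSelf1_ok (stab_famSet _),
    isClass_of_spec sexUniv sextRef_ok sextSexSelf2Root_ok sextGens_ok sextSexSelf2_ok (stab_famSet _),
    isClass_of_spec sexUniv sextRef_ok sextSexSelf3Root_ok sextGens_ok sextSexSelf3_ok (stab_famSet _)⟩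

theorem trioSelf_classes :
    IsClass triUniv stdTrio stdTrio (famSet trioTriSelf0Root) 12288 1 ∧
    IsClass triUniv stdTrio stdTrio (famSet trioTriSelf1Root) 5120 42 ∧
    IsClass triUniv stdTrio stdTrio (famSet trioTriSelf2Root) 1536 56 ∧
    IsClass triUniv stdTrio stdTrio (famSet trioTriSelf3Root) 1088 1008 ∧
    IsClass triUniv stdTrio stdTrio (famSet trioTriSelf4Root) 864 2688 :=
  ⟨isClass_of_spec triUniv trioRef_ok trioTriSelf0Root_ok trioGens_ok trioTriSelf0_ok (stab_famSet _),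
    isClass_of_spec triUniv trioRef_ok trioTriSelf1Root_ok trioGens_ok trioTriSelf1_ok (stab_famSet _),
    isClass_of_spec triUniv trioRef_ok trioTriSelf2Root_ok trioGens_ok trioTriSelf2_ok (stab_famSet _),
    isClass_of_spec triUniv trioRef_ok trioTriSelf3Root_ok trioGens_ok trioTriSelf3_ok (stab_famSet _),
    isClass_of_spec triUniv trioRef_ok trioTriSelf4Root_ok trioGens_ok trioTriSelf4_ok (stab_famSet _)⟩

theorem prof_stdSext : wProf stdSext stdSext = 1536 := by
  rw [← prof_eq sextRef_ok sextRef_ok]; decide +kernel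

theorem prof_stdTrio : wProf stdTrio stdTrio = 12288 := by
  rw [← prof_eq trioRef_ok trioRef_ok]; decide +kernel

theorem sexLit_length : sexUniv.list.length = 1771 := by
  show sexLit.length = 1771
  decide +kernel

theorem triList_length : triUniv.list.length = 3795 := by
  show triList.length = 3795
  decide +kernel

theorem prof_smul_self (g : M24) (R : Finset (Finset GolayPt)) : wProf (g • R) (g • R) = wProf R R :=
  wProf_smul (g : Equiv.Perm GolayPt) R R

end Cfsg.Agent.Golay.Local
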