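import Cfsg.Agent.Lib.Golay.Local.Cents

/-! Subgroups of order seven of the group of the code. -/

namespace Cfsg.Agent.Golay.Local

open Cfsg Cfsg.Agent.PermCert Cfsg.Agent.Golay.Cert
open scoped Pointwise

theorem conj7_ok : allF (fun g => sameF (conjF conj7 g.1) rep7.1) syl7Gens = true := by decide +kernel

theorem R7_mem : R7 ∈ M24 := reps_spec.2.2.2.2.2

theorem orderOf_R7 : orderOf R7 = 7 := by
  haveI : Fact (Nat.Prime 7) := ⟨by norm_num⟩
  exact orderOf_eq_prime norm7_facts.2.2.2.2.2.2.1 norm7_facts.2.2.2.2.2.2.2.1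

/-- A subgroup of order seven is generated by a conjugate of the standard element. -/
theorem exists_conj_seven {S : Subgroup M24} (hS : Nat.card S = 7) :
    ∃ g : M24, ∃ s ∈ S, S = Subgroup.zpowers s ∧
      (g : Equiv.Perm GolayPt) * (s : Equiv.Perm GolayPt) * (g : Equiv.Perm GolayPt)⁻¹ = R7 := by
  haveI : Fact (Nat.Prime 7) := ⟨by norm_num⟩
  have ho := syl_orders
  simp only [Bool.and_eq_true, Nat.beq_eq] at ho
  have hX : IsPGroup 7 S := IsPGroup.of_card (n := 1) (by rw [hS, pow_one])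
  obtain ⟨k, hk, hmem⟩ := exists_conj_into (n := 1) syl7_elts syl7_cert
    (by rw [ho.1.1.1.2]; norm_num) factorization_M24.2.2 S hX
  have hc := allF_iff.1 reps_ok conj7 (by simp)
  obtain ⟨hcv, hcM⟩ := eltOK_spec hc
  have hgen : genPerm syl7Gens ≤
      (Subgroup.zpowers R7).map (MulAut.conj (permOf conj7)⁻¹).toMonoidHom := by
    refine genPerm_induction _ fun e he => ?_
    have hev := (eltOK_spec (allF_iff.1 syl7_elts e he)).1
    have := (sameF_iff ((code_permOf hev).conj hcv) code_R7).1 (allF_iff.1 conj7_ok e he)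
    exact ⟨R7, Subgroup.mem_zpowers _, by rw [← this]; simp [mul_assoc]⟩
  set g : M24 := ⟨permOf conj7 * k, mul_mem hcM hk⟩ with hg
  have him : ∀ s : S, (g : Equiv.Perm GolayPt) * ((s : M24) : Equiv.Perm GolayPt) *
      (g : Equiv.Perm GolayPt)⁻¹ ∈ Subgroup.zpowers R7 := fun s => by
    obtain ⟨z, hz, hze⟩ := hgen (hmem s s.2)
    have : (g : Equiv.Perm GolayPt) * ((s : M24) : Equiv.Perm GolayPt) *
        (g : Equiv.Perm GolayPt)⁻¹ = z := by
      rw [show (g : Equiv.Perm GolayPt) = permOf conj7 * k from rfl]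
      calc permOf conj7 * k * ((s : M24) : Equiv.Perm GolayPt) * (permOf conj7 * k)⁻¹
          = permOf conj7 * (k * ((s : M24) : Equiv.Perm GolayPt) * k⁻¹) * (permOf conj7)⁻¹ := by group
        _ = z := by rw [← hze]; simp [mul_assoc]
    rw [this]; exact hz
  let f : S → Subgroup.zpowers R7 := fun s => ⟨_, him s⟩
  have hf : Function.Injective f := fun a b h => by
    have := congrArg Subtype.val h
    simp only [f, mul_left_inj, mul_right_inj] at this
    exact Subtype.ext (Subtype.ext this)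
  have hfb : Function.Bijective f := by
    haveI : Finite (Subgroup.zpowers R7) := inferInstance
    refine (Nat.bijective_iff_injective_and_card f).2 ⟨hf, ?_⟩
    rw [hS, Nat.card_zpowers, orderOf_R7]
  obtain ⟨s, hs⟩ := hfb.2 ⟨R7, Subgroup.mem_zpowers _⟩
  have hs' : (g : Equiv.Perm GolayPt) * ((s : M24) : Equiv.Perm GolayPt) *
      (g : Equiv.Perm GolayPt)⁻¹ = R7 := congrArg Subtype.val hs
  refine ⟨g, s, s.2, ?_, hs'⟩
  have ho7 : orderOf (s : M24) = 7 := by
    rw [← Subgroup.orderOf_coe, ← orderOf_R7, ← hs']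
    exact SemiconjBy.orderOf_eq (g : Equiv.Perm GolayPt) (by simp [SemiconjBy, mul_assoc])
  refine (Subgroup.eq_of_le_of_card_ge (Subgroup.zpowers_le.2 s.2) ?_).symm
  rw [hS, Nat.card_zpowers, ho7]

theorem pow_R7_mem {σ : Equiv.Perm GolayPt} (h : σ ∈ Subgroup.zpowers R7) (h1 : σ ≠ 1) :
    ∃ i, 1 ≤ i ∧ i ≤ 6 ∧ σ = R7 ^ i := by
  obtain ⟨j, (rfl : R7 ^ j = σ)⟩ := mem_powers_iff_mem_zpowers.2 h
  refine ⟨j % 7, ?_, by omega, by rw [← orderOf_R7, pow_mod_orderOf]⟩
  rcases Nat.eq_zero_or_pos (j % 7) with h0 | h0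
  · exact absurd (by rw [← pow_mod_orderOf, orderOf_R7, h0, pow_zero]) h1
  · exact h0

/-- Membership in the normaliser, read in the conjugated list. -/
theorem normalizer_seven {S : Subgroup M24} (g : M24) {s : M24} (hgen : S = Subgroup.zpowers s)
    (hgs : (g : Equiv.Perm GolayPt) * (s : Equiv.Perm GolayPt) * (g : Equiv.Perm GolayPt)⁻¹ = R7)
    (n : M24) :
    n ∈ Subgroup.normalizer (S : Set M24) ↔
      ∃ e ∈ norm7, permOf e = ((g * n * g⁻¹ : M24) : Equiv.Perm GolayPt) := by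
  have hsR : (s : Equiv.Perm GolayPt) = (g : Equiv.Perm GolayPt)⁻¹ * R7 * g := by rw [← hgs]; group
  constructor
  · intro hn
    have h1 : n * s * n⁻¹ ∈ S :=
      (Subgroup.mem_normalizer_iff.1 hn s).1 (hgen ▸ Subgroup.mem_zpowers s)
    have hne : ((g * n * g⁻¹ : M24) : Equiv.Perm GolayPt) * R7 *
        ((g * n * g⁻¹ : M24) : Equiv.Perm GolayPt)⁻¹ ≠ 1 := fun h => by
      rw [mul_inv_eq_one, mul_eq_left] at h
      exact norm7_facts.2.2.2.2.2.2.2.1 h
    have hmem : ((g * n * g⁻¹ : M24) : Equiv.Perm GolayPt) * R7 *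
        ((g * n * g⁻¹ : M24) : Equiv.Perm GolayPt)⁻¹ ∈ Subgroup.zpowers R7 := by
      rw [hgen, Subgroup.mem_zpowers_iff] at h1
      obtain ⟨j, hj⟩ := h1
      refine ⟨j, ?_⟩
      have := congrArg Subtype.val hj
      simp only [SubgroupClass.coe_zpow, Subgroup.coe_mul, Subgroup.coe_inv] at this
      calc R7 ^ j = (g : Equiv.Perm GolayPt) * (s : Equiv.Perm GolayPt) ^ j *
            (g : Equiv.Perm GolayPt)⁻¹ := by rw [← hgs, conj_zpow]
        _ = _ := by rw [this, hsR]; simp [mul_assoc]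
    obtain ⟨i, h1, h6, hi⟩ := pow_R7_mem hmem hne
    rw [mul_inv_eq_iff_eq_mul] at hi
    exact norm7_upper (g * n * g⁻¹).2 h1 h6 hi
  · rintro ⟨e, he, hee⟩
    obtain ⟨⟨i, -, -, hi⟩, -⟩ := norm7_facts.2.2.2.1 e he
    rw [hee] at hi
    have hns : n * s * n⁻¹ = s ^ i := by
      refine Subtype.ext ?_
      simp only [Subgroup.coe_mul, Subgroup.coe_inv, SubmonoidClass.coe_pow] at hi ⊢
      have : (g : Equiv.Perm GolayPt) * n * s * (n : Equiv.Perm GolayPt)⁻¹ * (g : Equiv.Perm GolayPt)⁻¹ =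
          R7 ^ i := by
        rw [← mul_inv_eq_iff_eq_mul] at hi
        rw [← hi, hsR]; group
      rw [← hgs, conj_pow] at this
      have h' := congrArg (fun z => (g : Equiv.Perm GolayPt)⁻¹ * z * g) this
      simpa [mul_assoc] using h'
    rw [Subgroup.mem_normalizer_iff_map_conj_eq]
    refine Subgroup.eq_of_le_of_card_ge ?_
      (Subgroup.card_map_of_injective (MulEquiv.injective _)).ge
    rw [hgen, MonoidHom.map_zpowers, Subgroup.zpowers_le]
    simp [hns]

end Cfsg.Agent.Golay.Local
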