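import Cfsg.Agent.Lib.Golay.Local.Induced
import Cfsg.Agent.Lib.Golay.Local.OrbSelf
import Cfsg.Agent.Lib.Golay.Local.StabKerData

/-! The kernel of a sextet stabiliser on its six members. -/

namespace Cfsg.Agent.Golay.Local

open Cfsg Cfsg.Agent.PermCert
open scoped Pointwise

theorem sextKer_table :
    (sextKer.all fun e => eltOK e && allF (fun m => Nat.beq (imgMask e m) m) sextRef) = true ∧
    sextKer.length = 192 ∧ distinctKeys (sextKer.map fun e => cmpF e.1 idC) = true ∧
    (sextKer.filter fun e => sameF (cmpF e.1 e.1) idC).length = 64 ∧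
    allF (fun a => allF (fun b => sameF (cmpF a.1 b.1) (cmpF b.1 a.1))
      (sextKer.filter fun e => sameF (cmpF e.1 e.1) idC)) (sextKer.filter fun e => sameF (cmpF e.1 e.1) idC) = true := by
  decide +kernel

theorem sextSwaps_table :
    ((List.range 6).all fun i => (List.range 6).all fun j => Nat.beq i j || sextSwaps.any fun w =>
      (Nat.beq w.1 i && Nat.beq w.2.1 j || Nat.beq w.1 j && Nat.beq w.2.1 i) &&
        mapsB sextRef w.2.2 ((List.range 6).map fun x => if x = i then j else if x = j then i else x)) = true := by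
  decide +kernel

attribute [local irreducible] famSet maskSet sextKer

theorem swaps_stdSext : Swaps stdSext := by
  intro s hs t ht hne
  obtain ⟨m, hm, rfl⟩ := mem_famSet.1 hs
  obtain ⟨m', hm', rfl⟩ := mem_famSet.1 ht
  obtain ⟨i, hi, rfl⟩ := List.getElem_of_mem hm
  obtain ⟨j, hj, rfl⟩ := List.getElem_of_mem hm'
  have hlen : sextRef.length = 6 := rfl
  have h := sextSwaps_table
  simp only [List.all_eq_true, List.mem_range] at h
  have e := h i (hlen ▸ hi) j (hlen ▸ hj)
  rw [Bool.or_eq_true] at e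
  rcases e with e | e
  · exact absurd (by simp only [Nat.eq_of_beq_eq_true e]) hne
  rw [List.any_eq_true] at e
  obtain ⟨w, -, hw⟩ := e
  rw [Bool.and_eq_true] at hw
  obtain ⟨h1, h2, h3⟩ := mapsB_spec hw.2
  have hp : ∀ x < 6, ((List.range 6).map fun x => if x = i then j else if x = j then i else x).getD x 0 =
      if x = i then j else if x = j then i else x := fun x hx => by
    rw [List.getD_eq_getElem _ _ (by simpa using hx), List.getElem_map, List.getElem_range]
  refine ⟨gOf w.2.2, h2, ?_, ?_, ?_⟩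
  · have e := h3 i hi
    rw [hp i (hlen ▸ hi), if_pos rfl, List.getD_eq_getElem _ _ hi, List.getD_eq_getElem _ _ hj] at e
    exact e
  · have e := h3 j hj
    rw [hp j (hlen ▸ hj), List.getD_eq_getElem _ _ hj] at e
    by_cases hji : j = i
    · subst hji; exact absurd rfl hne
    · rw [if_neg hji, if_pos rfl, List.getD_eq_getElem _ _ hi] at e
      exact e
  · intro u hu hu1 hu2
    obtain ⟨k, hk, rfl⟩ := mem_famSet.1 hu
    obtain ⟨x, hx, rfl⟩ := List.getElem_of_mem hk
    have e := h3 x hx
    rw [hp x (hlen ▸ hx), if_neg (fun e' => hu1 (by simp only [e'])), if_neg (fun e' => hu2 (by simp only [e'])),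
      List.getD_eq_getElem _ _ hx] at e
    exact e

/-- The elements fixing every member. -/
def Ker (S : Finset (Finset GolayPt)) : Set M24 := {h | ∀ t ∈ S, h • t = t}

theorem Ker_le_stab {S : Finset (Finset GolayPt)} {h : M24} (hh : h ∈ Ker S) : h • S = S := by
  refine Finset.eq_of_subset_of_card_le ?_ (by rw [Finset.card_smul_finset])
  intro s hs
  obtain ⟨t, ht, rfl⟩ := Finset.mem_smul_finset.1 hs
  rw [hh t ht]
  exact ht

theorem Ker_move (g : M24) (S : Finset (Finset GolayPt)) :
    Ker (g • S) = (fun h => g * h * g⁻¹) '' Ker S := by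
  ext h
  constructor
  · intro hh
    refine ⟨g⁻¹ * h * g, fun t ht => ?_, by group⟩
    rw [mul_smul, mul_smul, hh (g • t) (Finset.smul_mem_smul_finset ht), inv_smul_smul]
  · rintro ⟨k, hk, rfl⟩ u hu
    obtain ⟨t, ht, rfl⟩ := Finset.mem_smul_finset.1 hu
    rw [mul_smul, mul_smul, inv_smul_smul, hk t ht]

theorem card_stab_sextet {S : Finset (Finset GolayPt)} (hS : S ∈ sextets) :
    Nat.card (MulAction.stabilizer M24 S) = 138240 := by
  refine natCard_stabilizer_eq (N := 1771) ?_ (by norm_num) (by norm_num)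
  have : MulAction.orbit M24 S = sexUniv.set := by
    ext X
    exact ⟨by rintro ⟨g, rfl⟩; exact sexUniv.smul _ g.2 _ hS, fun h => exists_smul_sextet hS h⟩
  rw [this]
  have e := sexUniv.count (fun _ => True) (fun _ => true) (fun _ _ => by simp)
  rw [List.filter_true] at e
  simp only [and_true, Set.setOf_mem_eq] at e
  rw [e]
  show sexLit.length = 1771
  decide +kernel

theorem card_Ker_sextet {S : Finset (Finset GolayPt)} (hS : S ∈ sextets) : (Ker S).ncard = 192 := by
  obtain ⟨g, rfl⟩ := exists_smul_sextet stdSext_mem hS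
  have hsur := induced_surjective (swaps_stdSext.move g)
  have h1 := Subgroup.index_mul_card (induced (g • stdSext)).ker
  rw [Subgroup.index_ker, MonoidHom.range_eq_top.2 hsur, Subgroup.card_top, Nat.card_perm, Nat.card_eq_fintype_card,
    Fintype.card_coe, Finset.card_smul_finset, card_famSet sextRef_ok, card_stab_sextet hS] at h1
  have h2 : Nat.card (induced (g • stdSext)).ker = (Ker (g • stdSext)).ncard := by
    rw [← Nat.card_coe_set_eq]
    exact Nat.card_congr
      { toFun := fun h => ⟨(h.1 : M24), fun t ht =>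
          congrArg Subtype.val (Equiv.ext_iff.1 h.2 ⟨t, ht⟩)⟩
        invFun := fun h => ⟨⟨h.1, Ker_le_stab h.2⟩, Equiv.ext fun t => Subtype.ext (h.2 _ t.2)⟩
        left_inv := fun _ => rfl
        right_inv := fun _ => rfl }
  rw [← h2]
  have e6 : sextRef.length.factorial = 720 := rfl
  rw [e6] at h1
  omega

/-- The involutions and identity of the kernel. -/
def InvKer (S : Finset (Finset GolayPt)) : Set M24 := {h | h ∈ Ker S ∧ h * h = 1}

theorem InvKer_move (g : M24) (S : Finset (Finset GolayPt)) :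
    InvKer (g • S) = (fun h => g * h * g⁻¹) '' InvKer S := by
  ext h
  simp only [InvKer, Ker_move, Set.mem_image]
  constructor
  · rintro ⟨⟨k, hk, rfl⟩, h2⟩
    refine ⟨k, ⟨hk, ?_⟩, rfl⟩
    rwa [show g * k * g⁻¹ * (g * k * g⁻¹) = g * (k * k) * g⁻¹ by group, conj_eq_one_iff] at h2
  · rintro ⟨k, ⟨hk, hk2⟩, rfl⟩
    exact ⟨⟨k, hk, rfl⟩, by rw [show g * k * g⁻¹ * (g * k * g⁻¹) = g * (k * k) * g⁻¹ by group, hk2]; group⟩

theorem invKer_std :
    (InvKer stdSext).ncard = 64 ∧ ∀ a ∈ InvKer stdSext, ∀ b ∈ InvKer stdSext, a * b = b * a := by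
  classical
  obtain ⟨hall, hlen, hdist, hcnt, hcomm⟩ := sextKer_table
  simp only [List.all_eq_true, Bool.and_eq_true, allF_iff, Nat.beq_eq] at hall
  have hmem : ∀ e ∈ sextKer, gOf e ∈ Ker stdSext := by
    intro e he t ht
    obtain ⟨m, hm, rfl⟩ := mem_famSet.1 ht
    rw [gOf_smul_maskSet (hall e he).1, (hall e he).2 m hm]
  have hinj : ∀ a ∈ sextKer, ∀ b ∈ sextKer, gOf a = gOf b → a = b := by
    intro a ha b hb e
    have hn := distinctKeys_spec _ hdist
    refine List.inj_on_of_nodup_map hn ha hb ?_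
    have h1 := code_gOf (hall a ha).1
    rw [e] at h1
    exact h1.cmpF_congr (code_gOf (hall b hb).1) code_idC
  have hnd : sextKer.Nodup := List.Nodup.of_map _ (distinctKeys_spec _ hdist)
  have hset : Ker stdSext = gOf '' {e | e ∈ sextKer} := by
    refine (Set.eq_of_subset_of_ncard_le (by rintro _ ⟨e, he, rfl⟩; exact hmem e he) ?_ (Set.toFinite _)).symm
    rw [card_Ker_sextet stdSext_mem, Set.InjOn.ncard_image (s := {e | e ∈ sextKer}) (fun a ha b hb e => hinj a ha b hb e),
      show {e | e ∈ sextKer} = (sextKer.toFinset : Set Elt) by simp, Set.ncard_coe_finset,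
      List.toFinset_card_of_nodup hnd, hlen]
  have hsq : ∀ e ∈ sextKer, (gOf e * gOf e = 1 ↔ sameF (cmpF e.1 e.1) idC = true) := by
    intro e he
    rw [sameF_iff ((code_gOf (hall e he).1).cmp (code_gOf (hall e he).1)) code_idC]
    exact ⟨fun h => by simpa using congrArg (Subtype.val) h, fun h => Subtype.ext (by simpa using h)⟩
  have hI : InvKer stdSext = gOf '' {e | e ∈ sextKer.filter fun e => sameF (cmpF e.1 e.1) idC} := by
    ext h
    simp only [InvKer, hset, Set.mem_image, List.mem_filter]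
    constructor
    · rintro ⟨⟨e, he, rfl⟩, h2⟩
      exact ⟨e, ⟨he, (hsq e he).1 h2⟩, rfl⟩
    · rintro ⟨e, ⟨he, hb⟩, rfl⟩
      exact ⟨⟨e, he, rfl⟩, (hsq e he).2 hb⟩
  refine ⟨?_, ?_⟩
  · rw [hI, Set.InjOn.ncard_image (s := {e | e ∈ sextKer.filter fun e => sameF (cmpF e.1 e.1) idC})
        (fun a ha b hb e => hinj a (List.mem_filter.1 ha).1 b (List.mem_filter.1 hb).1 e),
      show {e | e ∈ sextKer.filter fun e => sameF (cmpF e.1 e.1) idC} =
        ((sextKer.filter fun e => sameF (cmpF e.1 e.1) idC).toFinset : Set Elt) by ext; simp,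
      Set.ncard_coe_finset, List.toFinset_card_of_nodup (hnd.filter _), hcnt]
  · intro a ha b hb
    rw [hI] at ha hb
    obtain ⟨x, hx, rfl⟩ := ha
    obtain ⟨y, hy, rfl⟩ := hb
    simp only [allF_iff] at hcomm
    have cx := code_gOf (hall x (List.mem_filter.1 hx).1).1
    have cy := code_gOf (hall y (List.mem_filter.1 hy).1).1
    exact Subtype.ext ((sameF_iff (cx.cmp cy) (cy.cmp cx)).1 (hcomm x hx y hy))

theorem invKer_sextet {S : Finset (Finset GolayPt)} (hS : S ∈ sextets) :
    (InvKer S).ncard = 64 ∧ ∀ a ∈ InvKer S, ∀ b ∈ InvKer S, a * b = b * a := by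
  obtain ⟨g, rfl⟩ := exists_smul_sextet stdSext_mem hS
  rw [InvKer_move]
  refine ⟨?_, ?_⟩
  · rw [Set.ncard_image_of_injective _ (fun a b e => mul_left_cancel (mul_right_cancel e))]
    exact invKer_std.1
  · rintro _ ⟨a, ha, rfl⟩ _ ⟨b, hb, rfl⟩
    rw [show g * a * g⁻¹ * (g * b * g⁻¹) = g * (a * b) * g⁻¹ by group, invKer_std.2 a ha b hb]
    group

end Cfsg.Agent.Golay.Local
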