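import Cfsg.Agent.Lib.Golay.Local.OctTrios

/-! Permutations fixing six points of an octad. -/

namespace Cfsg.Agent.Golay.Local

open Cfsg Cfsg.Agent.PermCert Cfsg.Agent.Golay.Cert
open scoped Pointwise

theorem pair_rigid_ok :
    allF (fun e => sameF e.1 idC ||
      (allF (fun m => !(Nat.beq (imgF (tabOf e) m) m) || !(Nat.beq (pcF (Nat.land m 8536111)) 2)) octLit &&
       allF (fun m => !(Nat.beq (imgF (tabOf e) m) m) ||
        !(Nat.beq (pcF (Nat.land m 8536111)) 6 && Nat.beq (pcF m) 12)) codeList)) fix6B = true := by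
  decide +kernel

/-- A permutation of the code fixing six points of an octad fixes the octad pointwise. -/
theorem fix_six_octad {o E : Finset GolayPt} (ho : o ∈ octads) (hEo : E ⊆ o) (hE : E.card = 6)
    {σ : Equiv.Perm GolayPt} (hσ : σ ∈ M24) (h : ∀ p ∈ E, σ p = p) : ∀ p ∈ o, σ p = p := by
  classical
  obtain ⟨f⟩ : Nonempty (Fin 6 ≃ E) := ⟨(Finset.equivFinOfCardEq hE).symm⟩
  obtain ⟨b, g, hg, hgx⟩ := exists_six (fun i => ((f i : E) : GolayPt))
    (fun a b hab => f.injective (Subtype.ext hab))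
  have him : Finset.univ.image (fun i => ((f i : E) : GolayPt)) = E := by
    ext p
    simp only [Finset.mem_image, Finset.mem_univ, true_and]
    exact ⟨fun ⟨i, hi⟩ => hi ▸ (f i).2, fun hp => ⟨f.symm ⟨p, hp⟩, by simp⟩⟩
  have hb : b = true := (six_type hg hgx).1 ⟨o, ho, by rw [him]; exact hEo⟩
  subst hb
  have hE' : g • maskSet 8388655 = E := by
    rw [← him, ← image_smul hgx, six_mask]; rfl
  have hok := octTri_ok
  simp only [Bool.and_eq_true, Nat.beq_eq] at hok
  have hsub : maskSet 8388655 ⊆ stdOct := by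
    intro p hp
    have e : maskSet (8536111 &&& 8388655) = maskSet 8388655 := congrArg maskSet hok.1.1.1.1.2
    rw [maskSet_and] at e
    exact (Finset.mem_inter.1 (e.symm ▸ hp)).1
  have hoeq : g • stdOct = o := by
    refine octad_unique (smul_mem_octads hg stdOct_mem) ho ?_
    calc 5 ≤ E.card := by omega
      _ ≤ _ := Finset.card_le_card (Finset.subset_inter
          (hE' ▸ Finset.smul_finset_subset_smul_finset hsub) hEo)
  have hτ : g⁻¹ * σ * g ∈ M24 := mul_mem (mul_mem (inv_mem hg) hσ) hg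
  obtain ⟨c, hc, hl⟩ := search_M24 fix6_searchB hτ fun F f hF hf => prFix_spec (fun p hp => by
    have hpE : g p ∈ E := hE' ▸ Finset.smul_mem_smul_finset hp
    simp [Equiv.Perm.mul_apply, h _ hpE]) hF hf
  obtain ⟨n, hn, hs⟩ := anyF_iff.1 hl
  have hfl := fix6_lists
  simp only [Bool.and_eq_true] at hfl
  have hv := (eltOK_spec (allF_iff.1 hfl.1.1.1.1.1.1.1.1 n (List.mem_append_right _ hn))).1
  have hnσ : g⁻¹ * σ * g = permOf n := (sameF_iff hc (code_permOf hv)).1 hs
  intro p hp
  have hq : g⁻¹ p ∈ stdOct := by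
    rw [← Equiv.Perm.smul_def, Finset.inv_smul_mem_iff, hoeq]; exact hp
  have hfix : (g⁻¹ * σ * g) (g⁻¹ p) = g⁻¹ p := by
    rw [hnσ]
    have h1 := allF_iff.1 (by
      have := octTri_ok
      simp only [Bool.and_eq_true] at this
      exact this.1.1.2) n hn
    have h2 : g⁻¹ p ∈ maskSet (fixF n.1) ∩ stdOct := by
      rw [stdOct, ← maskSet_and, show fixF n.1 &&& 8536111 = 8536111 from Nat.eq_of_beq_eq_true h1]
      exact hq
    rw [← (code_permOf hv).fixed] at h2
    exact (Finset.mem_filter.1 (Finset.mem_inter.1 h2).1).2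
  simpa [Equiv.Perm.mul_apply] using hfix

/-- Fixing an octad pointwise and preserving an octad or dodecad in general position forces the identity. -/
theorem pair_rigid {o X : Finset GolayPt} (ho : o ∈ octads)
    (hX : (X ∈ octads ∧ (X ∩ o).card = 2) ∨ (X ∈ dodecads ∧ (X ∩ o).card = 6))
    {σ : Equiv.Perm GolayPt} (hσ : σ ∈ M24) (hfix : ∀ p ∈ o, σ p = p) (hXs : σ • X = X) : σ = 1 := by
  classical
  obtain ⟨k, hk⟩ := exists_smul_octad stdOct_mem ho
  have hko : (k : Equiv.Perm GolayPt) • stdOct = o := hk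
  set κ := (k : Equiv.Perm GolayPt) with hκ
  obtain ⟨e, he, hec⟩ := mem_fix6B (σ := κ⁻¹ * σ * κ) (mul_mem (mul_mem (inv_mem k.2) hσ) k.2)
    fun p hp => by
      have : σ (κ p) = κ p := hfix _ (hko ▸ Finset.smul_mem_smul_finset hp)
      simp [Equiv.Perm.mul_apply, this]
  have hfl := fix6_lists
  simp only [Bool.and_eq_true] at hfl
  have hev := (eltOK_spec (allF_iff.1 hfl.1.1.1.1.1.1.1.1 e (List.mem_append_right _ he))).1
  have heq : κ⁻¹ * σ * κ = permOf e :=
    (sameF_iff hec (code_permOf hev)).1 ((sameF_iff hec hec).2 rfl)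
  have hfixX : permOf e • (κ⁻¹ • X) = κ⁻¹ • X := by
    rw [← heq, mul_smul, mul_smul, smul_inv_smul, hXs]
  have hcard : (κ⁻¹ • X ∩ stdOct).card = (X ∩ o).card := by
    rw [← hko, ← Finset.card_smul_finset (κ⁻¹) (X ∩ κ • stdOct), Finset.smul_finset_inter, inv_smul_smul]
  have h := allF_iff.1 pair_rigid_ok e he
  simp only [Bool.or_eq_true, Bool.and_eq_true, allF_iff, Bool.not_eq_true'] at h
  rcases h with h | ⟨hO, hD⟩
  · have h1 : κ⁻¹ * σ * κ = 1 := (sameF_iff hec code_idC).1 h
    have := congrArg (fun z => κ * z * κ⁻¹) h1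
    simpa [mul_assoc] using this
  · exfalso
    have hmask : ∀ {m : ℕ}, m < 2 ^ 24 → maskSet m = κ⁻¹ • X →
        Nat.beq (imgF (tabOf e) m) m = true ∧ pcF (Nat.land m 8536111) = (X ∩ o).card := by
      intro m hm hme
      constructor
      · rw [Nat.beq_eq]
        rw [← hme, smul_maskSet hev hm] at hfixX
        rw [imgF_eq]
        exact maskSet_inj (tab_img_lt e hm) hm hfixX
      · rw [← hcard, ← hme, pcF_eq, ← card_maskSet]
        exact congrArg Finset.card (maskSet_and _ _)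
    rcases hX with ⟨hXo, h2⟩ | ⟨hXd, h6⟩
    · obtain ⟨m, hm, hme⟩ := mem_octads'.1 (smul_mem_octads (inv_mem k.2) hXo : κ⁻¹ • X ∈ octads)
      obtain ⟨h1, h3⟩ := hmask (octLit_lt hm) hme
      rcases hO m hm with h | h
      · rw [h1] at h; simp at h
      · rw [h3, h2] at h; exact absurd h (by decide)
    · obtain ⟨m, hm, hme⟩ := mem_dodecads.1 (smul_mem_dodecads (inv_mem k.2) hXd : κ⁻¹ • X ∈ dodecads)
      obtain ⟨hmc, hm12⟩ := mem_dodecadList.1 hm
      obtain ⟨h1, h3⟩ := hmask (lt_of_mem_codeList hmc) hme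
      rcases hD m hmc with h | h
      · rw [h1] at h; simp at h
      · rw [h3, h6, pcF_eq, hm12] at h; exact absurd h (by decide)

end Cfsg.Agent.Golay.Local
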