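import Cfsg.Agent.Lib.Golay.Local.Induced
import Cfsg.Agent.Lib.Golay.Local.StabKerData
import Cfsg.Agent.Lib.Golay.Local.Orbits
import Cfsg.Agent.Lib.Golay.Local.OrbTrio
import Mathlib.LinearAlgebra.Matrix.GeneralLinearGroup.Card
import Mathlib.LinearAlgebra.Matrix.Determinant.Basic

/-! The stabiliser of a trio acting on its three octads and on the seven sextets refining it. -/

namespace Cfsg.Agent.Golay.Local

open Cfsg Cfsg.Agent.PermCert
open scoped Pointwise Matrix

/-- A member of the standard trio. -/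
def oct3 (i : Fin 3) : Finset GolayPt := maskSet (trioRef.getD i 0)

/-- A sextet refining the standard trio. -/
def sext7 (i : Fin 7) : Finset (Finset GolayPt) := famSet (trioSeven.getD i [])

/-- The label of a refining sextet. -/
def lab7 (i : Fin 7) : Fin 3 → ZMod 2 := fun r => if ((i : ℕ) + 1).testBit r then 1 else 0

/-- A function from a list. -/
def getp (n : ℕ) [NeZero n] (l : List ℕ) : Fin n → Fin n := fun i => Fin.ofNat n (l.getD i 0)

/-- A matrix from rows. -/
def mat3 (M : List (List ℕ)) : Matrix (Fin 3) (Fin 3) (ZMod 2) :=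
  fun r c => (((M.getD r []).getD c 0 : ℕ) : ZMod 2)

/-- A coded element inducing the recorded maps. -/
def actB (e : Elt) (p q : List ℕ) (M : List (List ℕ)) : Bool :=
  eltOK e && decide (Function.Injective (getp 3 p)) && decide (Function.Injective (getp 7 q)) &&
    decide ((mat3 M).det ≠ 0) && decide (∀ i : Fin 7, (mat3 M) *ᵥ lab7 i = lab7 (getp 7 q i)) &&
    (List.finRange 3).all (fun i => Nat.beq (imgMask e (trioRef.getD i 0)) (trioRef.getD (getp 3 p i) 0)) &&
    (List.finRange 7).all (fun i => sameFam ((trioSeven.getD i []).map (imgMask e)) (trioSeven.getD (getp 7 q i) []))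

theorem trio_tables :
    (trioActs.all fun a => actB a.1 a.2.1 a.2.2.1 a.2.2.2) = true ∧
    (trioKer.all fun e => actB e [0, 1, 2] [0, 1, 2, 3, 4, 5, 6] [[1, 0, 0], [0, 1, 0], [0, 0, 1]] &&
      sameF (cmpF e.1 e.1) idC) = true ∧
    trioKer.length = 64 ∧ distinctKeys (trioKer.map fun e => cmpF e.1 idC) = true ∧
    trioActs.length = 5 ∧
    (trioActs.map fun a => a.2.1) = [[1, 0, 2], [2, 1, 0], [0, 2, 1], [0, 1, 2], [0, 1, 2]] ∧
    (trioActs.take 3).all (fun a => a.2.2.1 == [0, 1, 2, 3, 4, 5, 6]) = true ∧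
    gl32List.length = 168 ∧ gl32Par.length = 168 ∧ gl32List.Nodup ∧
    (gl32List.all fun L => L.length == 7 && L.all (fun v => decide (v < 7))) = true ∧
    ((List.range 168).all fun n => if n = 0 then gl32List.getD n [] == [0, 1, 2, 3, 4, 5, 6] else
      decide ((gl32Par.getD n (2, n)).1 < 2) && decide ((gl32Par.getD n (2, n)).2 < n) &&
        decide (∀ i : Fin 7, getp 7 (gl32List.getD n []) i =
          getp 7 ((trioActs.getD (3 + (gl32Par.getD n (2, n)).1) ((0, 0), [], [], [])).2.2.1)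
            (getp 7 (gl32List.getD (gl32Par.getD n (2, n)).2 []) i))) = true := by
  decide +kernel

theorem trio_std_table :
    (∀ i j : Fin 3, trioRef.getD i 0 = trioRef.getD j 0 → i = j) ∧
    (∀ i j : Fin 7, sameFam (trioSeven.getD i []) (trioSeven.getD j []) = true → i = j) ∧
    (∀ i : Fin 7, famOK (trioSeven.getD i []) = true) ∧ trioRef.length = 3 := by
  decide +kernel

theorem lab7_spec : Function.Injective lab7 ∧ lab7 0 = ![1, 0, 0] ∧ lab7 1 = ![0, 1, 0] ∧ lab7 3 = ![0, 0, 1] := by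
  refine ⟨by decide, by decide, by decide, by decide⟩

attribute [local irreducible] famSet maskSet trioKer trioActs

theorem oct3_injective : Function.Injective oct3 := fun i j e => by
  refine trio_std_table.1 i j (maskSet_inj ?_ ?_ e) <;>
    exact (famOK_spec trioRef_ok).2 _ (by
      rw [List.getD_eq_getElem _ _ (by rw [trio_std_table.2.2.2]; omega)]
      exact List.getElem_mem _)

theorem sameFam_of_famSet_eq {a b : List ℕ} (ha : ∀ m ∈ a, m < 2 ^ 24) (hb : ∀ m ∈ b, m < 2 ^ 24)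
    (h : famSet a = famSet b) : sameFam a b = true := by
  simp only [sameFam, Bool.and_eq_true, allF_iff, memF_iff]
  refine ⟨fun m hm => ?_, fun m hm => ?_⟩
  · obtain ⟨k, hk, e⟩ := mem_famSet.1 (h ▸ mem_famSet.2 ⟨m, hm, rfl⟩ : maskSet m ∈ famSet b)
    rwa [← maskSet_inj (hb k hk) (ha m hm) e]
  · obtain ⟨k, hk, e⟩ := mem_famSet.1 (h.symm ▸ mem_famSet.2 ⟨m, hm, rfl⟩ : maskSet m ∈ famSet a)
    rwa [← maskSet_inj (ha k hk) (hb m hm) e]

theorem sext7_injective : Function.Injective sext7 := fun i j e =>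
  trio_std_table.2.1 i j (sameFam_of_famSet_eq (famOK_spec (trio_std_table.2.2.1 i)).2
    (famOK_spec (trio_std_table.2.2.1 j)).2 e)

theorem mem_stdTrio {t : Finset GolayPt} : t ∈ stdTrio ↔ ∃ i, oct3 i = t := by
  rw [mem_famSet]
  constructor
  · rintro ⟨m, hm, rfl⟩
    obtain ⟨i, hi, rfl⟩ := List.getElem_of_mem hm
    refine ⟨⟨i, trio_std_table.2.2.2 ▸ hi⟩, ?_⟩
    rw [oct3, List.getD_eq_getElem _ _ hi]
  · rintro ⟨i, rfl⟩
    refine ⟨trioRef.getD i 0, ?_, rfl⟩
    rw [List.getD_eq_getElem _ _ (by rw [trio_std_table.2.2.2]; omega)]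
    exact List.getElem_mem _

/-- The element induces the given maps on octads, sextets and labels. -/
def Acts (h : M24) (m : GL (Fin 3) (ZMod 2)) (σ : Equiv.Perm (Fin 3)) : Prop :=
  (∀ i, h • oct3 i = oct3 (σ i)) ∧
    ∃ τ : Equiv.Perm (Fin 7), (∀ i, h • sext7 i = sext7 (τ i)) ∧
      ∀ i, (m : Matrix (Fin 3) (Fin 3) (ZMod 2)) *ᵥ lab7 i = lab7 (τ i)

theorem acts_one : Acts 1 1 1 := by
  refine ⟨fun i => by simp, 1, fun i => by simp, fun i => by simp⟩

theorem Acts.mul {h k : M24} {m n : GL (Fin 3) (ZMod 2)} {σ ρ : Equiv.Perm (Fin 3)} (a : Acts h m σ)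
    (b : Acts k n ρ) : Acts (h * k) (m * n) (σ * ρ) := by
  obtain ⟨a1, τ, a2, a3⟩ := a
  obtain ⟨b1, υ, b2, b3⟩ := b
  refine ⟨fun i => by rw [mul_smul, b1, a1]; rfl, τ * υ, fun i => by rw [mul_smul, b2, a2]; rfl, fun i => ?_⟩
  rw [Units.val_mul, ← Matrix.mulVec_mulVec, b3, a3]
  rfl

theorem Acts.inv {h : M24} {m : GL (Fin 3) (ZMod 2)} {σ : Equiv.Perm (Fin 3)} (a : Acts h m σ) :
    Acts h⁻¹ m⁻¹ σ⁻¹ := by
  obtain ⟨a1, τ, a2, a3⟩ := a
  refine ⟨fun i => ?_, τ⁻¹, fun i => ?_, fun i => ?_⟩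
  · rw [inv_smul_eq_iff, a1]; simp
  · rw [inv_smul_eq_iff, a2]; simp
  · have := a3 (τ⁻¹ i)
    rw [show τ (τ⁻¹ i) = i from Equiv.apply_symm_apply τ i] at this
    rw [← this, Matrix.mulVec_mulVec, ← Units.val_mul, inv_mul_cancel, Units.val_one, Matrix.one_mulVec]

theorem Acts.unique {h : M24} {m n : GL (Fin 3) (ZMod 2)} {σ ρ : Equiv.Perm (Fin 3)} (a : Acts h m σ)
    (b : Acts h n ρ) : m = n ∧ σ = ρ := by
  obtain ⟨a1, τ, a2, a3⟩ := a
  obtain ⟨b1, υ, b2, b3⟩ := b
  have e : τ = υ := Equiv.ext fun i => sext7_injective ((a2 i).symm.trans (b2 i))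
  subst e
  refine ⟨Units.ext (Matrix.ext fun r c => ?_), Equiv.ext fun i => oct3_injective ((a1 i).symm.trans (b1 i))⟩
  obtain ⟨-, l0, l1, l2⟩ := lab7_spec
  have h0 := fun i => congrFun ((a3 i).trans (b3 i).symm) r
  fin_cases c
  · simpa [l0, Matrix.mulVec, dotProduct, Fin.sum_univ_three] using h0 0
  · simpa [l1, Matrix.mulVec, dotProduct, Fin.sum_univ_three] using h0 1
  · simpa [l2, Matrix.mulVec, dotProduct, Fin.sum_univ_three] using h0 3

/-- The elements acting on the three octads and linearly on the seven sextets. -/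
def G0 : Subgroup M24 where
  carrier := {h | ∃ p : GL (Fin 3) (ZMod 2) × Equiv.Perm (Fin 3), Acts h p.1 p.2}
  one_mem' := ⟨1, acts_one⟩
  mul_mem' := fun ⟨p, hp⟩ ⟨q, hq⟩ => ⟨p * q, hp.mul hq⟩
  inv_mem' := fun ⟨p, hp⟩ => ⟨p⁻¹, hp.inv⟩

/-- The maps induced. -/
noncomputable def psi : G0 →* GL (Fin 3) (ZMod 2) × Equiv.Perm (Fin 3) where
  toFun h := h.2.choose
  map_one' := by
    have h := (1 : G0).2.choose_spec
    exact Prod.ext (h.unique acts_one).1 (h.unique acts_one).2
  map_mul' a b := by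
    have h := (a * b).2.choose_spec
    have h' := Acts.mul a.2.choose_spec b.2.choose_spec
    exact Prod.ext (h.unique h').1 (h.unique h').2

theorem psi_eq {h : M24} {p : GL (Fin 3) (ZMod 2) × Equiv.Perm (Fin 3)} (hp : Acts h p.1 p.2) :
    psi ⟨h, p, hp⟩ = p := by
  have h' := (⟨h, p, hp⟩ : G0).2.choose_spec
  exact Prod.ext (h'.unique hp).1 (h'.unique hp).2

theorem actB_spec {e : Elt} {p q : List ℕ} {M : List (List ℕ)} (h : actB e p q M = true) :
    eltOK e = true ∧ ∃ (m : GL (Fin 3) (ZMod 2)) (σ : Equiv.Perm (Fin 3)), Acts (gOf e) m σ ∧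
      (m : Matrix (Fin 3) (Fin 3) (ZMod 2)) = mat3 M ∧ (∀ i, σ i = getp 3 p i) ∧
      ∀ i, (m : Matrix (Fin 3) (Fin 3) (ZMod 2)) *ᵥ lab7 i = lab7 (getp 7 q i) := by
  simp only [actB, Bool.and_eq_true, decide_eq_true_eq, List.all_eq_true, List.mem_finRange,
    forall_true_left, Nat.beq_eq] at h
  obtain ⟨⟨⟨⟨⟨⟨he, hp⟩, hq⟩, hd⟩, hm⟩, h3⟩, h7⟩ := h
  refine ⟨he, Matrix.GeneralLinearGroup.mkOfDetNeZero (mat3 M) hd,
    Equiv.ofBijective _ (Finite.injective_iff_bijective.mp hp), ?_, rfl, fun i => rfl, hm⟩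
  refine ⟨fun i => ?_, Equiv.ofBijective _ (Finite.injective_iff_bijective.mp hq), fun i => ?_, hm⟩
  · rw [oct3, gOf_smul_maskSet he, h3 i]; rfl
  · rw [sext7, gOf_smul_famSet he, famSet_congr (h7 i)]; rfl

theorem card_stab_stdTrio : Nat.card (MulAction.stabilizer M24 stdTrio) = 64512 := by
  refine natCard_stabilizer_eq (N := 3795) ?_ (by norm_num) (by norm_num)
  have : MulAction.orbit M24 stdTrio = triUniv.set := by
    ext X
    exact ⟨by rintro ⟨g, rfl⟩; exact triUniv.smul _ g.2 _ stdTrio_mem, fun h => exists_smul_stdTrio h⟩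
  rw [this]
  have e := triUniv.count (fun _ => True) (fun _ => true) (fun _ _ => by simp)
  rw [List.filter_true] at e
  simp only [and_true, Set.ofPred_mem_eq] at e
  rw [e]
  show triList.length = 3795
  decide +kernel

theorem G0_le : G0 ≤ MulAction.stabilizer M24 stdTrio := by
  rintro h ⟨p, hp⟩
  refine Finset.eq_of_subset_of_card_le ?_ (by rw [Finset.card_smul_finset])
  intro s hs
  obtain ⟨t, ht, rfl⟩ := Finset.mem_smul_finset.1 hs
  obtain ⟨i, rfl⟩ := mem_stdTrio.1 ht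
  exact mem_stdTrio.2 ⟨_, (hp.1 i).symm⟩

theorem exists_act {k : ℕ} (hk : k < 5) :
    ∃ (h : G0) (m : GL (Fin 3) (ZMod 2)) (σ : Equiv.Perm (Fin 3)), psi h = (m, σ) ∧
      (∀ i, σ i = getp 3 (([[1, 0, 2], [2, 1, 0], [0, 2, 1], [0, 1, 2], [0, 1, 2]] : List (List ℕ)).getD k []) i) ∧
      ∀ i, (m : Matrix (Fin 3) (Fin 3) (ZMod 2)) *ᵥ lab7 i =
        lab7 (getp 7 ((trioActs.getD k ((0, 0), [], [], [])).2.2.1) i) := by
  obtain ⟨hact, -, -, -, hl5, hp3, -⟩ := trio_tables
  rw [List.all_eq_true] at hact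
  have hk' : k < trioActs.length := hl5 ▸ hk
  rw [List.getD_eq_getElem _ _ hk']
  obtain ⟨-, m, σ, hA, -, hs, hm⟩ := actB_spec (hact _ (List.getElem_mem hk'))
  refine ⟨⟨_, (m, σ), hA⟩, m, σ, psi_eq (p := (m, σ)) hA, fun i => ?_, hm⟩
  rw [hs, ← hp3, List.getD_eq_getElem _ _ (by simpa using hk'), List.getElem_map]

theorem eq_of_lab {m n : GL (Fin 3) (ZMod 2)} {f : Fin 7 → Fin 7}
    (hm : ∀ i, (m : Matrix (Fin 3) (Fin 3) (ZMod 2)) *ᵥ lab7 i = lab7 (f i))
    (hn : ∀ i, (n : Matrix (Fin 3) (Fin 3) (ZMod 2)) *ᵥ lab7 i = lab7 (f i)) : m = n := by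
  refine Units.ext (Matrix.ext fun r c => ?_)
  obtain ⟨-, l0, l1, l2⟩ := lab7_spec
  have h0 := fun i => congrFun ((hm i).trans (hn i).symm) r
  fin_cases c
  · simpa [l0, Matrix.mulVec, dotProduct, Fin.sum_univ_three] using h0 0
  · simpa [l1, Matrix.mulVec, dotProduct, Fin.sum_univ_three] using h0 1
  · simpa [l2, Matrix.mulVec, dotProduct, Fin.sum_univ_three] using h0 3

theorem psi_surjective : Function.Surjective psi := by
  rw [← MonoidHom.range_eq_top]
  set R := psi.range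
  obtain ⟨-, -, -, -, -, -, hid7, hlen, hplen, hnd, hshape, hbfs⟩ := trio_tables
  -- the linear factor
  have hgen : ∀ k < 2, ∃ m : GL (Fin 3) (ZMod 2), (m, 1) ∈ R ∧ ∀ i, (m : Matrix (Fin 3) (Fin 3) (ZMod 2)) *ᵥ lab7 i =
      lab7 (getp 7 ((trioActs.getD (3 + k) ((0, 0), [], [], [])).2.2.1) i) := by
    intro k hk
    obtain ⟨h, m, σ, hh, hs, hm⟩ := exists_act (show 3 + k < 5 by omega)
    have hσ : σ = 1 := Equiv.ext fun i => by
      rw [hs i]
      interval_cases k <;> fin_cases i <;> rfl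
    exact ⟨m, ⟨h, by rw [hh, hσ]⟩, hm⟩
  have hall : ∀ n < 168, ∃ m : GL (Fin 3) (ZMod 2), (m, 1) ∈ R ∧
      ∀ i, (m : Matrix (Fin 3) (Fin 3) (ZMod 2)) *ᵥ lab7 i = lab7 (getp 7 (gl32List.getD n []) i) := by
    intro n
    induction n using Nat.strong_induction_on with
    | _ n ih =>
      intro hn
      rw [List.all_eq_true] at hbfs
      have e := hbfs n (List.mem_range.2 hn)
      by_cases h0 : n = 0
      · rw [if_pos h0, beq_iff_eq] at e
        refine ⟨1, R.one_mem, fun i => ?_⟩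
        rw [Units.val_one, Matrix.one_mulVec, e]
        fin_cases i <;> rfl
      · rw [if_neg h0] at e
        simp only [Bool.and_eq_true, decide_eq_true_eq] at e
        obtain ⟨a, ha, ha'⟩ := hgen _ e.1.1
        obtain ⟨b, hb, hb'⟩ := ih _ e.1.2 (e.1.2.trans hn)
        refine ⟨a * b, by simpa using R.mul_mem ha hb, fun i => ?_⟩
        rw [Units.val_mul, ← Matrix.mulVec_mulVec, hb', ha', e.2 i]
  choose f hf hf' using fun n : Fin 168 => hall n n.2
  have hfinj : Function.Injective f := by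
    intro a b e
    have hg : getp 7 (gl32List.getD a []) = getp 7 (gl32List.getD b []) := funext fun i =>
      lab7_spec.1 ((hf' a i).symm.trans (e ▸ hf' b i))
    have ha : (a : ℕ) < gl32List.length := hlen.symm ▸ a.2
    have hb : (b : ℕ) < gl32List.length := hlen.symm ▸ b.2
    rw [List.getD_eq_getElem _ _ ha, List.getD_eq_getElem _ _ hb] at hg
    have sh : ∀ n (hn : n < gl32List.length), gl32List[n].length = 7 ∧ ∀ v ∈ gl32List[n], v < 7 := by
      intro n hn
      rw [List.all_eq_true] at hshape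
      have := hshape _ (List.getElem_mem hn)
      simp only [Bool.and_eq_true, beq_iff_eq, List.all_eq_true, decide_eq_true_eq] at this
      exact this
    refine Fin.ext ((hnd.getElem_inj_iff).mp (List.ext_getElem ((sh _ ha).1.trans (sh _ hb).1.symm) fun i h1 h2 => ?_))
    have e := congrArg Fin.val (congrFun hg ⟨i, (sh _ ha).1 ▸ h1⟩)
    simp only [getp, Fin.val_ofNat, List.getD_eq_getElem _ _ h1, List.getD_eq_getElem _ _ h2] at e
    rwa [Nat.mod_eq_of_lt ((sh _ ha).2 _ (List.getElem_mem h1)),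
      Nat.mod_eq_of_lt ((sh _ hb).2 _ (List.getElem_mem h2))] at e
  have hfsurj : Function.Surjective f := by
    refine (hfinj.bijective_of_nat_card_le ?_).2
    rw [Matrix.card_GL_field, Nat.card_fin]
    simp [Fin.prod_univ_three]
  have hGL : ∀ m : GL (Fin 3) (ZMod 2), (m, 1) ∈ R := fun m => by
    obtain ⟨n, rfl⟩ := hfsurj m
    exact hf n
  -- the permutation factor
  have hswap : ∀ i j : Fin 3, i ≠ j → ((1 : GL (Fin 3) (ZMod 2)), Equiv.swap i j) ∈ R := by
    have key : ∀ k < 3, ∀ p : Equiv.Perm (Fin 3),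
        (∀ i, p i = getp 3 (([[1, 0, 2], [2, 1, 0], [0, 2, 1], [0, 1, 2], [0, 1, 2]] : List (List ℕ)).getD k []) i) →
        ((1 : GL (Fin 3) (ZMod 2)), p) ∈ R := by
      intro k hk p hp
      obtain ⟨h, m, σ, hh, hs, hm⟩ := exists_act (show k < 5 by omega)
      have hσ : σ = p := Equiv.ext fun i => (hs i).trans (hp i).symm
      have h1 : m = 1 := by
        refine eq_of_lab hm fun i => ?_
        rw [Units.val_one, Matrix.one_mulVec]
        rw [List.all_eq_true] at hid7
        have hk' : k < trioActs.length := by rw [trio_tables.2.2.2.2.1]; omega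
        have := hid7 trioActs[k] (by
          rw [List.mem_take_iff_getElem]
          exact ⟨k, by omega, rfl⟩)
        rw [beq_iff_eq] at this
        rw [List.getD_eq_getElem _ _ hk', this]
        fin_cases i <;> rfl
      exact ⟨h, by rw [hh, hσ, h1]⟩
    intro i j hij
    fin_cases i <;> fin_cases j <;> first
      | exact absurd rfl hij
      | exact key 0 (by norm_num) _ (by decide)
      | exact key 1 (by norm_num) _ (by decide)
      | exact key 2 (by norm_num) _ (by decide)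
  have hperm : ∀ σ : Equiv.Perm (Fin 3), ((1 : GL (Fin 3) (ZMod 2)), σ) ∈ R := by
    intro σ
    have hle : Subgroup.closure {s : Equiv.Perm (Fin 3) | Equiv.Perm.IsSwap s} ≤
        R.comap (MonoidHom.inr (GL (Fin 3) (ZMod 2)) (Equiv.Perm (Fin 3))) := by
      rw [Subgroup.closure_le]
      rintro s ⟨i, j, hij, rfl⟩
      exact hswap i j hij
    rw [Equiv.Perm.closure_isSwap] at hle
    exact hle (Subgroup.mem_top σ)
  rw [eq_top_iff]
  rintro ⟨m, σ⟩ _
  have := R.mul_mem (hGL m) (hperm σ)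
  simpa using this

theorem G0_structure :
    G0 = MulAction.stabilizer M24 stdTrio ∧ Nat.card psi.ker = 64 ∧ ∀ x ∈ psi.ker, x * x = 1 := by
  classical
  obtain ⟨-, hker, hlen, hdist, -⟩ := trio_tables
  rw [List.all_eq_true] at hker
  have hk : ∀ e ∈ trioKer, ∃ h : G0, (h : M24) = gOf e ∧ h ∈ psi.ker ∧ h * h = 1 ∧ eltOK e = true := by
    intro e he
    have := hker e he
    rw [Bool.and_eq_true] at this
    obtain ⟨hok, m, σ, hA, hM, hs, hm⟩ := actB_spec this.1
    have hσ : σ = 1 := Equiv.ext fun i => by rw [hs i]; fin_cases i <;> rfl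
    have h1 : m = 1 := by
      refine eq_of_lab hm fun i => ?_
      rw [Units.val_one, Matrix.one_mulVec]
      fin_cases i <;> rfl
    refine ⟨⟨_, (m, σ), hA⟩, rfl, ?_, ?_, hok⟩
    · rw [MonoidHom.mem_ker, psi_eq (p := (m, σ)) hA, hσ, h1]; rfl
    · refine Subtype.ext (Subtype.ext ?_)
      exact (sameF_iff ((code_gOf hok).cmp (code_gOf hok)) code_idC).1 this.2
  choose f hf1 hf2 hf3 hf4 using fun n : Fin trioKer.length => hk trioKer[n] (List.getElem_mem _)
  have hfinj : Function.Injective (fun n => (⟨f n, hf2 n⟩ : psi.ker)) := by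
    intro a b e
    have e' : (f a : M24) = f b := congrArg (fun x : psi.ker => ((x : G0) : M24)) e
    rw [hf1, hf1] at e'
    have ca := code_gOf (hf4 a)
    rw [e'] at ca
    have hc := ca.cmpF_congr (code_gOf (hf4 b)) code_idC
    have hn := distinctKeys_spec _ hdist
    have ha : (a : ℕ) < (trioKer.map fun e => cmpF e.1 idC).length := by simp
    have hb : (b : ℕ) < (trioKer.map fun e => cmpF e.1 idC).length := by simp
    exact Fin.ext ((hn.getElem_inj_iff (hi := ha) (hj := hb)).mp (by simpa using hc))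
  have h64 : 64 ≤ Nat.card psi.ker := by
    have := Nat.card_le_card_of_injective _ hfinj
    rwa [Nat.card_fin, hlen] at this
  have hcard : Nat.card G0 = Nat.card psi.ker * 1008 := by
    rw [← Subgroup.card_mul_index psi.ker, Subgroup.index_ker, MonoidHom.range_eq_top.2 psi_surjective,
      Subgroup.card_top, Nat.card_prod, Matrix.card_GL_field, Nat.card_perm, Nat.card_fin]
    simp [Fin.prod_univ_three, Nat.factorial]
  have hle := Subgroup.card_le_of_le G0_le
  rw [hcard, card_stab_stdTrio] at hle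
  have heq : G0 = MulAction.stabilizer M24 stdTrio :=
    Subgroup.eq_of_le_of_card_ge G0_le (by
      rw [card_stab_stdTrio, hcard]
      exact le_trans (by norm_num) (Nat.mul_le_mul_right 1008 h64))
  have h64' : Nat.card psi.ker = 64 :=
    le_antisymm (Nat.le_of_mul_le_mul_right (hle.trans (le_of_eq (by norm_num : 64512 = 64 * 1008))) (by norm_num)) h64
  refine ⟨heq, h64', fun x hx => ?_⟩
  obtain ⟨n, hn⟩ := (hfinj.bijective_of_nat_card_le (by rw [Nat.card_fin, hlen, h64'])).2 ⟨x, hx⟩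
  have : f n = x := congrArg Subtype.val hn
  rw [← this]
  exact hf3 n

theorem swaps_stdTrio : Swaps stdTrio := by
  intro s hs t ht hne
  obtain ⟨i, rfl⟩ := mem_stdTrio.1 hs
  obtain ⟨j, rfl⟩ := mem_stdTrio.1 ht
  obtain ⟨⟨h, p, hp⟩, hh⟩ := psi_surjective (1, Equiv.swap i j)
  rw [psi_eq hp] at hh
  subst hh
  refine ⟨h, G0_le ⟨_, hp⟩, ?_, ?_, fun u hu hu1 hu2 => ?_⟩
  · rw [hp.1 i, Equiv.swap_apply_left]
  · rw [hp.1 j, Equiv.swap_apply_right]
  · obtain ⟨k, rfl⟩ := mem_stdTrio.1 hu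
    rw [hp.1 k, Equiv.swap_apply_of_ne_of_ne (fun e => hu1 (by rw [e])) (fun e => hu2 (by rw [e]))]

end Cfsg.Agent.Golay.Local
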